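import Mathlib
import Cfsg.Prelude.Def_Transfer
import Cfsg.Prelude.Def_LocalEven
import Cfsg.Prelude.Def_PLocal
import Cfsg.Agent.S2800
import Cfsg.Agent.Lib.Helper34.NPC
import Cfsg.Agent.Lib.Helper34.PComplement
import Cfsg.Agent.Lib.Helper34.InvolvesAux
import Cfsg.Agent.Lib.Helper34.ThompsonPC
import Cfsg.Agent.Lib.Helper34.JAb
import Cfsg.Agent.Lib.Helper49.CharP
import Cfsg.Agent.Lib.Helper54.Frobenius
import Cfsg.Agent.Lib.Helper54.Stability
import Cfsg.Agent.Lib.Helper87.ThJ
import Cfsg.Agent.Lib.Helper88.FusAlp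

set_option autoImplicit false

namespace Cfsg.Agent.Lib.Helper88

open Cfsg

universe u

/-- The preimage of a characteristic subgroup of the image, under a homomorphism with
characteristic kernel, is characteristic. -/
theorem comap_characteristic {P₀ X : Type*} [Group P₀] [Group X] (π : P₀ →* X)
    (hker : π.ker.Characteristic) (T : Subgroup X) (hT : π.range = T) (K : Subgroup X)
    (hK : (K.subgroupOf T).Characteristic) : (K.comap π).Characteristic := by
  subst hT
  rw [Subgroup.characteristic_iff_le_comap]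
  intro ϕ r hr
  have he : π.ker.map (ϕ : P₀ →* P₀) = π.ker := Subgroup.characteristic_iff_map_eq.mp hker ϕ
  obtain ⟨e, hedef⟩ : ∃ e : π.range ≃* π.range, e = (QuotientGroup.quotientKerEquivRange π).symm.trans
      ((QuotientGroup.congr π.ker π.ker ϕ he).trans (QuotientGroup.quotientKerEquivRange π)) :=
    ⟨_, rfl⟩
  have hsymm : (QuotientGroup.quotientKerEquivRange π).symm ⟨π r, ⟨r, rfl⟩⟩ =
      QuotientGroup.mk r := by
    rw [MulEquiv.symm_apply_eq]; rfl
  have hex : e ⟨π r, ⟨r, rfl⟩⟩ = ⟨π (ϕ r), ⟨ϕ r, rfl⟩⟩ := by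
    rw [hedef]
    show QuotientGroup.quotientKerEquivRange π (QuotientGroup.congr π.ker π.ker ϕ he
      ((QuotientGroup.quotientKerEquivRange π).symm ⟨π r, ⟨r, rfl⟩⟩)) = _
    rw [hsymm, QuotientGroup.congr_mk]; rfl
  have h1 := Subgroup.characteristic_iff_le_comap.mp hK e
  have h2 : (⟨π r, ⟨r, rfl⟩⟩ : π.range) ∈ K.subgroupOf π.range := Subgroup.mem_subgroupOf.mpr hr
  have h4 : e ⟨π r, ⟨r, rfl⟩⟩ ∈ K.subgroupOf π.range := h1 h2
  rw [hex] at h4
  exact Subgroup.mem_subgroupOf.mp h4

/-- Automizers of the nontrivial characteristic subgroups of `T` are `p`-groups (elementwise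
form). -/
def PowHyp (p : ℕ) {X : Type*} [Group X] (T : Subgroup X) : Prop :=
  ∀ Q : Subgroup X, Q ≤ T → Q ≠ ⊥ → (Q.subgroupOf T).Characteristic →
    ∀ g ∈ Subgroup.normalizer (Q : Set X), ∃ k : ℕ, g ^ (p ^ k) ∈ Subgroup.centralizer (Q : Set X)

theorem PowHyp.centralizes {p : ℕ} {X : Type*} [Group X] {T : Subgroup X}
    (h : PowHyp p T) {Q : Subgroup X} (hQT : Q ≤ T) (hQ1 : Q ≠ ⊥)
    (hQc : (Q.subgroupOf T).Characteristic) {g : X} (hg : g ∈ Subgroup.normalizer (Q : Set X))
    (hgp : (orderOf g).Coprime p) : g ∈ Subgroup.centralizer (Q : Set X) := by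
  obtain ⟨k, hk⟩ := h Q hQT hQ1 hQc g hg
  have hcop : (p ^ k).Coprime (orderOf g) := (Nat.Coprime.pow_right k hgp).symm
  obtain ⟨m, hm⟩ := exists_pow_eq_self_of_coprime hcop
  rw [← hm]
  exact Subgroup.pow_mem _ hk m

theorem PowHyp.subgroup {p : ℕ} {X : Type*} [Group X] {T : Subgroup X} (h : PowHyp p T)
    (Y : Subgroup X) (hTY : T ≤ Y) : PowHyp p (T.subgroupOf Y) := by
  intro Q' hQ'T hQ'1 hQ'c g hg
  have hQT : Q'.map Y.subtype ≤ T := by
    rintro _ ⟨q, hq, rfl⟩
    exact Subgroup.mem_subgroupOf.mp (hQ'T hq)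
  have hQ1 : Q'.map Y.subtype ≠ ⊥ := by
    intro hbot
    exact hQ'1 ((Subgroup.map_eq_bot_iff_of_injective _ Y.subtype_injective).mp hbot)
  have hQc : ((Q'.map Y.subtype).subgroupOf T).Characteristic := by
    have hr : (Subgroup.inclusion hTY).range = T.subgroupOf Y := by
      ext y
      constructor
      · rintro ⟨t, rfl⟩
        exact Subgroup.mem_subgroupOf.mpr t.2
      · intro hy
        exact ⟨⟨y, Subgroup.mem_subgroupOf.mp hy⟩, rfl⟩
    have hker : (Subgroup.inclusion hTY).ker.Characteristic := by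
      rw [(MonoidHom.ker_eq_bot_iff _).mpr (Subgroup.inclusion_injective hTY)]
      exact Subgroup.botCharacteristic
    have h1 := comap_characteristic (Subgroup.inclusion hTY) hker _ hr Q' hQ'c
    have h2 : Q'.comap (Subgroup.inclusion hTY) = (Q'.map Y.subtype).subgroupOf T := by
      ext t
      constructor
      · intro ht
        exact Subgroup.mem_subgroupOf.mpr ⟨_, ht, rfl⟩
      · intro ht
        obtain ⟨q, hq, hqt⟩ := Subgroup.mem_subgroupOf.mp ht
        have h3 : q = Subgroup.inclusion hTY t := Subtype.ext hqt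
        rw [Subgroup.mem_comap, ← h3]
        exact hq
    rw [← h2]
    exact h1
  have hgn : (g : X) ∈ Subgroup.normalizer ((Q'.map Y.subtype : Subgroup X) : Set X) :=
    Subgroup.le_normalizer_map Y.subtype ⟨g, hg, rfl⟩
  obtain ⟨k, hk⟩ := h _ hQT hQ1 hQc (g : X) hgn
  refine ⟨k, ?_⟩
  rw [Subgroup.mem_centralizer_iff] at hk ⊢
  intro q hq
  apply Subtype.ext
  have h3 := hk (q : X) ⟨q, hq, rfl⟩
  simpa using h3

theorem PowHyp.quotient {p : ℕ} {X : Type*} [Group X] {T : Subgroup X} (h : PowHyp p T)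
    (Z : Subgroup X) [Z.Normal] (hZ : Z = T ⊓ Subgroup.centralizer (T : Set X)) (hZ1 : Z ≠ ⊥) :
    PowHyp p (T.map (QuotientGroup.mk' Z)) := by
  intro Q hQT hQ1 hQc gb hgb
  obtain ⟨g, rfl⟩ := QuotientGroup.mk'_surjective Z gb
  have hZT : Z ≤ T := by rw [hZ]; exact inf_le_left
  have hQT' : Q.comap (QuotientGroup.mk' Z) ≤ T := by
    intro x hx
    obtain ⟨t, ht, htx⟩ := hQT hx
    have h1 : t⁻¹ * x ∈ Z := by
      rw [← QuotientGroup.eq]
      exact htx
    have h2 : x = t * (t⁻¹ * x) := by group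
    rw [h2]
    exact T.mul_mem ht (hZT h1)
  have hQ1' : Q.comap (QuotientGroup.mk' Z) ≠ ⊥ := by
    intro hbot
    apply hZ1
    rw [eq_bot_iff, ← hbot]
    intro z hz
    rw [Subgroup.mem_comap]
    have h1 : QuotientGroup.mk' Z z = 1 := (QuotientGroup.eq_one_iff z).mpr hz
    rw [h1]
    exact Q.one_mem
  have hQc' : ((Q.comap (QuotientGroup.mk' Z)).subgroupOf T).Characteristic := by
    have hr : ((QuotientGroup.mk' Z).comp T.subtype).range = T.map (QuotientGroup.mk' Z) := by
      rw [MonoidHom.range_comp, Subgroup.range_subtype]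
    have hker : ((QuotientGroup.mk' Z).comp T.subtype).ker.Characteristic := by
      have h1 : ((QuotientGroup.mk' Z).comp T.subtype).ker = Subgroup.center ↥T := by
        ext t
        rw [MonoidHom.mem_ker, Subgroup.mem_center_iff]
        show QuotientGroup.mk' Z (t : X) = 1 ↔ _
        rw [QuotientGroup.mk'_apply, QuotientGroup.eq_one_iff, hZ, Subgroup.mem_inf,
          Subgroup.mem_centralizer_iff]
        constructor
        · rintro ⟨-, hc⟩ s
          exact Subtype.ext (hc s s.2)
        · intro hc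
          exact ⟨t.2, fun s hs => congrArg Subtype.val (hc ⟨s, hs⟩)⟩
      rw [h1]
      exact Subgroup.centerCharacteristic
    exact comap_characteristic ((QuotientGroup.mk' Z).comp T.subtype) hker _ hr Q hQc
  have hgn : g ∈ Subgroup.normalizer ((Q.comap (QuotientGroup.mk' Z) : Subgroup X) : Set X) :=
    Subgroup.le_normalizer_comap (QuotientGroup.mk' Z) hgb
  obtain ⟨k, hk⟩ := h _ hQT' hQ1' hQc' g hgn
  refine ⟨k, ?_⟩
  rw [Subgroup.mem_centralizer_iff] at hk ⊢
  intro qb hqb
  obtain ⟨q, rfl⟩ := QuotientGroup.mk'_surjective Z qb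
  have h3 := hk q hqb
  rw [← map_pow, ← map_mul, ← map_mul, h3]

theorem ifc_of_sylow {p : ℕ} [Fact p.Prime] {X : Type*} [Group X] [Finite X] (M T : Subgroup X)
    (_hTM : T ≤ M) (hT : IsPGroup p T) (hidx : ¬ p ∣ T.relIndex M)
    (h : ∀ Q : Subgroup X, Q ≤ T → ∀ g ∈ M, g ∈ Subgroup.normalizer (Q : Set X) →
      (orderOf g).Coprime p → g ∈ Subgroup.centralizer (Q : Set X)) : Helper34.IFC p M := by
  rw [Helper34.ifc_iff_frobeniusCondition]
  have hTp : IsPGroup p ↥(T.subgroupOf M) := hT.comap_subtype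
  have hidx' : ¬ p ∣ (T.subgroupOf M).index := hidx
  apply Helper54.frobeniusCondition_of_le_sylow (hTp.toSylow hidx')
  intro Q' hQ'T g hg hgp
  have hQT : Q'.map M.subtype ≤ T := by
    rintro _ ⟨q, hq, rfl⟩
    exact Subgroup.mem_subgroupOf.mp (hQ'T hq)
  have hgn : (g : X) ∈ Subgroup.normalizer ((Q'.map M.subtype : Subgroup X) : Set X) :=
    Subgroup.le_normalizer_map M.subtype ⟨g, hg, rfl⟩
  have h1 := h _ hQT (g : X) g.2 hgn (by rwa [Subgroup.orderOf_coe])
  rw [Subgroup.mem_centralizer_iff] at h1 ⊢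
  intro q hq
  exact Subtype.ext (h1 (q : X) ⟨q, hq, rfl⟩)

theorem thompson_characteristic (p : ℕ) [Fact p.Prime] {X : Type u} [Group X] (T : Subgroup X) :
    ((thompsonSubgroupAOf T).subgroupOf T).Characteristic := by
  have h1 : (thompsonSubgroupAOf T).subgroupOf T = thompsonSubgroupA ↥T :=
    Subgroup.comap_map_eq_self_of_injective T.subtype_injective _
  rw [h1, Subgroup.characteristic_iff_map_eq]
  intro ϕ
  exact (Helper34.thompsonLike_ab p).iso ϕ

theorem hnpc_normalizer_thompson {p : ℕ} [Fact p.Prime] {X : Type u} [Group X] [Finite X]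
    (T : Sylow p X) (hT1 : (T : Subgroup X) ≠ ⊥) (h : PowHyp p (T : Subgroup X)) :
    HasNormalPComplement p
      ↥(Subgroup.normalizer ((thompsonSubgroupAOf (T : Subgroup X) : Subgroup X) : Set X)) := by
  rw [← Helper34.ifc_iff_hnpc]
  have hJT : thompsonSubgroupAOf (T : Subgroup X) ≤ T := Helper87.thompson_le_self _
  have hTN : (T : Subgroup X) ≤
      Subgroup.normalizer ((thompsonSubgroupAOf (T : Subgroup X) : Subgroup X) : Set X) :=
    Subgroup.le_normalizer.trans (Helper87.normalizer_le_normalizer_thompson _)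
  have hJ1 : thompsonSubgroupAOf (T : Subgroup X) ≠ ⊥ :=
    Helper34.JOf_ne_bot (Helper34.thompsonLike_ab p) (T : Subgroup X) T.isPGroup' hT1
  apply ifc_of_sylow _ (T : Subgroup X) hTN T.isPGroup'
    (fun hd => T.not_dvd_index (hd.trans (Subgroup.relIndex_dvd_index_of_le hTN)))
  intro Q hQT g hgN hgQ hgp
  have hgJ : g ∈ Subgroup.centralizer ((thompsonSubgroupAOf (T : Subgroup X) : Subgroup X) : Set X) :=
    h.centralizes hJT hJ1 (thompson_characteristic p _) hgN hgp
  have hPT : Q ⊔ thompsonSubgroupAOf (T : Subgroup X) ≤ T := sup_le hQT hJT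
  have hfinP : Finite ↥(Q ⊔ thompsonSubgroupAOf (T : Subgroup X)) := inferInstance
  have hgP : g ∈ Subgroup.normalizer
      ((Q ⊔ thompsonSubgroupAOf (T : Subgroup X) : Subgroup X) : Set X) := by
    apply mem_normalizer_fin
    have hle : Q ⊔ thompsonSubgroupAOf (T : Subgroup X) ≤
        (Q ⊔ thompsonSubgroupAOf (T : Subgroup X)).comap (MulAut.conj g).toMonoidHom := by
      apply sup_le
      · intro x hx
        show g * x * g⁻¹ ∈ Q ⊔ thompsonSubgroupAOf (T : Subgroup X)
        exact Subgroup.mem_sup_left ((Subgroup.mem_normalizer_iff.mp hgQ x).mp hx)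
      · intro x hx
        show g * x * g⁻¹ ∈ Q ⊔ thompsonSubgroupAOf (T : Subgroup X)
        exact Subgroup.mem_sup_right ((Subgroup.mem_normalizer_iff.mp hgN x).mp hx)
    intro x hx
    exact hle hx
  have key := Helper49.thompson_AxB (Q ⊔ thompsonSubgroupAOf (T : Subgroup X))
    (thompsonSubgroupAOf (T : Subgroup X)) (T.isPGroup'.to_le hPT) (T.isPGroup'.to_le hJT)
    (le_sup_right.trans Subgroup.le_normalizer) g hgP hgp
    (fun b hb => (Subgroup.mem_centralizer_iff.mp hgJ b hb).symm)
    (fun u hu hub => by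
      have huJ : u ∈ thompsonSubgroupAOf (T : Subgroup X) :=
        Helper87.centralizer_thompson_le (hPT hu) (fun j hj => ((hub j hj).eq).symm)
      exact (Subgroup.mem_centralizer_iff.mp hgJ u huJ).symm)
  rw [Subgroup.mem_centralizer_iff]
  intro q hq
  exact ((key q (Subgroup.mem_sup_left hq)).eq).symm

theorem hnpc_of_central_quotient {p : ℕ} [Fact p.Prime] {X : Type*} [Group X] [Finite X]
    (Z : Subgroup X) [Z.Normal] (hZp : IsPGroup p Z) (hZc : ∀ z ∈ Z, ∀ x : X, x * z = z * x)
    (h : HasNormalPComplement p (X ⧸ Z)) : HasNormalPComplement p X := by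
  rw [Helper54.hasNormalPComplement_iff_frobeniusCondition] at h ⊢
  intro Q hQ g hg hgp
  have hgp' : (orderOf (QuotientGroup.mk' Z g)).Coprime p := by
    apply Nat.Coprime.coprime_dvd_left _ hgp
    apply orderOf_dvd_of_pow_eq_one
    rw [← map_pow, pow_orderOf_eq_one, map_one]
  have h1 := h (Q.map (QuotientGroup.mk' Z)) (hQ.map _) (QuotientGroup.mk' Z g)
    (Subgroup.le_normalizer_map _ ⟨g, hg, rfl⟩) hgp'
  rw [Subgroup.mem_centralizer_iff] at h1 ⊢
  intro q hq
  have h2 := h1 _ ⟨q, hq, rfl⟩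
  have hz : q⁻¹ * (g * q * g⁻¹) ∈ Z := by
    rw [← QuotientGroup.eq]
    have h3 : (QuotientGroup.mk' Z) (g * q * g⁻¹) = (QuotientGroup.mk' Z) q := by
      rw [map_mul, map_mul, map_inv, ← h2]
      group
    exact h3.symm
  have e1 : g * q * g⁻¹ = q * (q⁻¹ * (g * q * g⁻¹)) := by group
  have e2 : g * (q⁻¹ * (g * q * g⁻¹)) = (q⁻¹ * (g * q * g⁻¹)) * g := hZc _ hz g
  obtain ⟨k, hk⟩ := hZp ⟨_, hz⟩
  have hk' : (q⁻¹ * (g * q * g⁻¹)) ^ p ^ k = 1 := by
    have := congrArg Subtype.val hk
    simpa using this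
  have e3 := Helper54.eq_one_of_conj_eq_mul e1 e2 hk' (Nat.Coprime.pow_right k hgp)
  rw [e3, mul_one] at e1
  calc q * g = (g * q * g⁻¹) * g := by rw [e1]
    _ = g * q := by group

/-- **Strengthened Frobenius criterion**: if the automizers of the nontrivial characteristic
subgroups of a Sylow `p`-subgroup are `p`-groups, and `p` is odd or the group is `S₄`-free, the
group has a normal `p`-complement. -/
theorem char_pnilpotent (p : ℕ) [Fact p.Prime] : ∀ (n : ℕ) (X : Type u) [Group X] [Finite X],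
    Nat.card X = n → (p ≠ 2 ∨ ¬ Involves (Equiv.Perm (Fin 4)) X) → ∀ T : Sylow p X,
      PowHyp p (T : Subgroup X) → HasNormalPComplement p X := by
  intro n
  induction n using Nat.strong_induction_on with
  | _ n ih =>
  intro X _ _ hn hcase T hyp
  have hp : p.Prime := Fact.out
  by_cases hT1 : (T : Subgroup X) = ⊥
  · have hnd : ¬ p ∣ Nat.card X := by
      have h1 := T.not_dvd_index
      rw [hT1, Subgroup.index_bot] at h1
      exact h1
    apply Helper34.hasNormalPComplement_of_normal p (⊤ : Subgroup X)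
    · rw [Subgroup.card_top]
      exact ((Nat.Prime.coprime_iff_not_dvd hp).mpr hnd).symm
    · exact Helper34.isPGroup_quotient_of_coprime_mem p ⊤ (fun g _ => Subgroup.mem_top g)
  have hZ1 : (T : Subgroup X) ⊓ Subgroup.centralizer ((T : Subgroup X) : Set X) ≠ ⊥ :=
    Helper34.inf_centralizer_ne_bot T.isPGroup' hT1
  by_cases hY : Subgroup.centralizer
      (((T : Subgroup X) ⊓ Subgroup.centralizer ((T : Subgroup X) : Set X) : Subgroup X) : Set X) = ⊤
  · -- the centre of `T` is central
    have hZc : ∀ z ∈ (T : Subgroup X) ⊓ Subgroup.centralizer ((T : Subgroup X) : Set X),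
        ∀ x : X, x * z = z * x := fun z hz x => by
      have h1 : x ∈ Subgroup.centralizer (((T : Subgroup X) ⊓
          Subgroup.centralizer ((T : Subgroup X) : Set X) : Subgroup X) : Set X) := by
        rw [hY]; exact Subgroup.mem_top x
      exact (Subgroup.mem_centralizer_iff.mp h1 z hz).symm
    have hZn : ((T : Subgroup X) ⊓ Subgroup.centralizer ((T : Subgroup X) : Set X)).Normal := by
      constructor
      intro z hz x
      have h1 := hZc z hz x
      rw [h1]
      simpa using hz
    have hZp : IsPGroup p ↥((T : Subgroup X) ⊓ Subgroup.centralizer ((T : Subgroup X) : Set X)) :=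
      T.isPGroup'.to_le inf_le_left
    apply hnpc_of_central_quotient _ hZp hZc
    have hlt : Nat.card (X ⧸ ((T : Subgroup X) ⊓
        Subgroup.centralizer ((T : Subgroup X) : Set X))) < n := by
      rw [← hn, Subgroup.card_eq_card_quotient_mul_card_subgroup ((T : Subgroup X) ⊓
        Subgroup.centralizer ((T : Subgroup X) : Set X))]
      have h1 : 1 < Nat.card ↥((T : Subgroup X) ⊓
          Subgroup.centralizer ((T : Subgroup X) : Set X)) := by
        by_contra hle
        have h2 : Nat.card ↥((T : Subgroup X) ⊓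
            Subgroup.centralizer ((T : Subgroup X) : Set X)) = 1 := by
          have := Nat.card_pos (α := ↥((T : Subgroup X) ⊓
            Subgroup.centralizer ((T : Subgroup X) : Set X)))
          omega
        exact hZ1 (Subgroup.eq_bot_of_card_eq _ h2)
      have h3 : 0 < Nat.card (X ⧸ ((T : Subgroup X) ⊓
          Subgroup.centralizer ((T : Subgroup X) : Set X))) := Nat.card_pos
      nlinarith
    have hsurj := QuotientGroup.mk'_surjective ((T : Subgroup X) ⊓
      Subgroup.centralizer ((T : Subgroup X) : Set X))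
    refine ih _ hlt _ rfl ?_ (T.mapSurjective hsurj) ?_
    · rcases hcase with h | h
      · exact Or.inl h
      · exact Or.inr (fun hinv => h (Helper34.involves_of_quotient _ hinv))
    · rw [Sylow.coe_mapSurjective hsurj T]
      exact hyp.quotient _ rfl hZ1
  · have hTY : (T : Subgroup X) ≤ Subgroup.centralizer (((T : Subgroup X) ⊓
        Subgroup.centralizer ((T : Subgroup X) : Set X) : Subgroup X) : Set X) := by
      intro t ht
      rw [Subgroup.mem_centralizer_iff]
      intro z hz
      exact (Subgroup.mem_centralizer_iff.mp (Subgroup.mem_inf.mp hz).2 t ht).symm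
    have hC : HasNormalPComplement p ↥(Subgroup.centralizer (((T : Subgroup X) ⊓
        Subgroup.centralizer ((T : Subgroup X) : Set X) : Subgroup X) : Set X)) := by
      have hlt : Nat.card ↥(Subgroup.centralizer (((T : Subgroup X) ⊓
          Subgroup.centralizer ((T : Subgroup X) : Set X) : Subgroup X) : Set X)) < n := by
        rw [← hn, ← Subgroup.card_top (G := X)]
        exact Helper54.card_lt_card_of_lt (lt_top_iff_ne_top.mpr hY)
      have hTp : IsPGroup p ↥((T : Subgroup X).subgroupOf (Subgroup.centralizer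
          (((T : Subgroup X) ⊓ Subgroup.centralizer ((T : Subgroup X) : Set X) : Subgroup X) :
            Set X))) := T.isPGroup'.comap_subtype
      have hidx : ¬ p ∣ ((T : Subgroup X).subgroupOf (Subgroup.centralizer
          (((T : Subgroup X) ⊓ Subgroup.centralizer ((T : Subgroup X) : Set X) : Subgroup X) :
            Set X))).index :=
        fun hd => T.not_dvd_index (hd.trans (Subgroup.relIndex_dvd_index_of_le hTY))
      refine ih _ hlt _ rfl ?_ (hTp.toSylow hidx) ?_
      · rcases hcase with h | h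
        · exact Or.inl h
        · exact Or.inr (fun hinv => h (Helper34.involves_of_subgroup _ hinv))
      · exact hyp.subgroup _ hTY
    have hN := hnpc_normalizer_thompson T hT1 hyp
    exact Cfsg.Agent.S2800.result T hcase hC hN

end Cfsg.Agent.Lib.Helper88
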