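import Mathlib
import Cfsg.Prelude.Def_FusionComponents
import Cfsg.Agent.Lib.Helper88.FusAlp
import Cfsg.Agent.Lib.Helper87.FusionNormal

set_option autoImplicit false

namespace Cfsg.Agent.Lib.Helper88

open Cfsg Cfsg.FusionSystem

variable {Ω : Type*} [Group Ω] {S : Subgroup Ω}

/-- The subsystem of the maps of `F` that fix the central element `z` (whenever it is in their
source) and send nothing else to it. -/
def fixSystem (F : FusionSystem S) (z : Ω) (hz : ∀ g ∈ S, g * z * g⁻¹ = z) : FusionSystem S where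
  Hom P := {φ | φ ∈ F.Hom P ∧ ∀ x : P, (x : Ω) = z ↔ φ x = z}
  le_of_mem := fun h => F.le_of_mem h.1
  injective_of_mem := fun h => F.injective_of_mem h.1
  conj_mem := by
    intro P g hP hg
    refine ⟨F.conj_mem hP hg, fun x => ?_⟩
    show (x : Ω) = z ↔ g * (x : Ω) * g⁻¹ = z
    constructor
    · intro h; rw [h]; exact hz g hg
    · intro h
      have h1 := hz g⁻¹ (S.inv_mem hg)
      rw [inv_inv] at h1
      rw [← h1, ← h]; group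
  comp_mem := by
    rintro P Q₀ φ ψ ⟨hφ, hφz⟩ ⟨hψ, hψz⟩ h
    refine ⟨F.comp_mem hφ hψ h, fun x => ?_⟩
    rw [hφz x]
    exact hψz (φ.codRestrict Q₀ h x)
  inv_mem := by
    rintro P φ ⟨hφ, hφz⟩
    obtain ⟨ψ, hψ, hψφ⟩ := F.inv_mem hφ
    refine ⟨ψ, ⟨hψ, ?_⟩, hψφ⟩
    rintro ⟨y, x, rfl⟩
    rw [hψφ x]
    exact (hφz x).symm

/-- The homomorphism `θ : S →* Ω'` as a function on the ambient group. -/
noncomputable def tf {Ω' : Type*} [Group Ω'] (θ : S →* Ω') : Ω → Ω' :=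
  fun x => by classical exact if h : x ∈ S then θ ⟨x, h⟩ else 1

theorem tf_mem {Ω' : Type*} [Group Ω'] (θ : S →* Ω') {x : Ω} (hx : x ∈ S) :
    tf θ x = θ ⟨x, hx⟩ := by
  unfold tf
  simp [hx]

theorem tf_eq_iff {Ω' : Type*} [Group Ω'] (θ : S →* Ω') {Z : Subgroup Ω}
    (hker : ∀ s : S, θ s = 1 ↔ (s : Ω) ∈ Z) {x y : Ω} (hx : x ∈ S) (hy : y ∈ S) :
    tf θ x = tf θ y ↔ x⁻¹ * y ∈ Z := by
  rw [tf_mem θ hx, tf_mem θ hy]
  have h1 := hker (⟨x, hx⟩⁻¹ * ⟨y, hy⟩)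
  rw [map_mul, map_inv] at h1
  constructor
  · intro h
    apply h1.mp
    rw [h]; group
  · intro h
    have h2 := h1.mpr h
    calc θ ⟨x, hx⟩ = θ ⟨x, hx⟩ * ((θ ⟨x, hx⟩)⁻¹ * θ ⟨y, hy⟩) := by rw [h2, mul_one]
      _ = θ ⟨y, hy⟩ := by group

/-- Lifting along a surjective morphism: a map of `F` can be replaced, modulo the kernel, by a map
of `F` defined also at an element `z` whose image is central in the target system, and fixing `z`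
modulo the kernel. -/
theorem lift_central {F : FusionSystem S} {Ω' : Type*} [Group Ω'] {S' : Subgroup Ω'}
    {E : FusionSystem S'} {θ : S →* Ω'} (hmor : F.IsSurjectiveMorphism E θ)
    {C' : Subgroup Ω'} (hC' : E.IsCentral C') {z : Ω} (hzS : z ∈ S) (hz : θ ⟨z, hzS⟩ ∈ C')
    {P : Subgroup Ω} {f : Ω → Ω} (hf : Mor F P f) :
    ∃ P₃ b, Mor F P₃ b ∧ P ≤ P₃ ∧ z ∈ P₃ ∧ (∀ (x : Ω) (hx : x ∈ S), θ ⟨x, hx⟩ = 1 → x ∈ P₃) ∧
      (∀ x ∈ P, tf θ (b x) = tf θ (f x)) ∧ tf θ (b z) = tf θ z := by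
  obtain ⟨ψ, hψ, hψf⟩ := hf
  obtain ⟨ψ', hψ', hP, hψS, hP', hind⟩ := hmor.1.2 P ψ hψ
  obtain ⟨ψ'', hψ'', hext, hfix⟩ := hC'.2 _ ψ' hψ'
  have hP''S' := (E.le_of_mem hψ'').1
  obtain ⟨β, hβ, hP₃, hβS, hP₃', hind2⟩ := hmor.2.2 _ hP''S' ψ'' hψ''
  have hmem : ∀ x : Ω, ∀ hx : x ∈ S, θ ⟨x, hx⟩ ∈ imageAlong θ P ⊔ C' →
      x ∈ preimageAlong θ (imageAlong θ P ⊔ C') := by
    intro x hx h
    exact ⟨⟨x, hx⟩, h, rfl⟩
  have hPle : P ≤ preimageAlong θ (imageAlong θ P ⊔ C') := by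
    intro x hx
    exact hmem x (hP hx) (Subgroup.mem_sup_left (hP' ⟨x, hx⟩))
  have hzP₃ : z ∈ preimageAlong θ (imageAlong θ P ⊔ C') := hmem z hzS (Subgroup.mem_sup_right hz)
  refine ⟨_, extFun β, mor_of_hom F hβ, hPle, hzP₃, ?_, ?_, ?_⟩
  · intro x hx h1
    apply hmem x hx
    rw [h1]; exact Subgroup.one_mem _
  · intro x hx
    rw [extFun_mem β (hPle hx), tf_mem θ (hβS _), ← hind2 ⟨x, hPle hx⟩, ← hψf ⟨x, hx⟩,
      tf_mem θ (hψS _), ← hind ⟨x, hx⟩, ← hext]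
    rfl
  · rw [extFun_mem β hzP₃, tf_mem θ (hβS _), ← hind2 ⟨z, hzP₃⟩, tf_mem θ hzS]
    exact hfix ⟨_, hz⟩

/-- The heart of Grün's lemma for fusion systems: if the hyperfocal subgroup is everything, an
element whose image is central in the factor system modulo a central subgroup is fixed by every
map of the system. -/
theorem grun_fix [Finite S] {p : ℕ} [Fact p.Prime] (hS : IsPGroup p S) {F : FusionSystem S}
    (hF : F.IsSaturated p) (hperf : F.hyperfocalSubgroup p = S)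
    {Z : Subgroup Ω} (hZ : F.IsCentral Z)
    {Ω' : Type*} [Group Ω'] {S' : Subgroup Ω'} {E : FusionSystem S'} {θ : S →* Ω'}
    (hker : ∀ s : S, θ s = 1 ↔ (s : Ω) ∈ Z)
    (hmor : F.IsSurjectiveMorphism E θ) {C' : Subgroup Ω'} (hC' : E.IsCentral C')
    {z : Ω} (hzS : z ∈ S) (hz : θ ⟨z, hzS⟩ ∈ C') :
    ∀ (P : Subgroup Ω) (φ : P →* Ω), φ ∈ F.Hom P → ∀ x : P, (x : Ω) = z → φ x = z := by
  have hZS : Z ≤ S := hZ.1
  -- maps of the system fix `Z` pointwise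
  have hfixZ : ∀ (P : Subgroup Ω) (f : Ω → Ω), Mor F P f → ∀ x ∈ P, x ∈ Z → f x = x := by
    rintro P f ⟨ψ, hψ, hψf⟩ x hx hxZ
    obtain ⟨ψ₂, -, h1, h2⟩ := hZ.2 P ψ hψ
    rw [← hψf ⟨x, hx⟩, ← h1 ⟨x, hx⟩]
    exact h2 ⟨x, hxZ⟩
  have hZcen : ∀ g ∈ S, ∀ ζ ∈ Z, g * ζ * g⁻¹ = ζ := by
    intro g hg ζ hζ
    exact hfixZ S (fun x => g * x * g⁻¹) (mor_conj F le_rfl hg) ζ (hZS hζ) hζ
  -- maps of the system fix `z` modulo `Z`
  have hK2 : ∀ (P : Subgroup Ω) (f : Ω → Ω), Mor F P f → z ∈ P → z⁻¹ * f z ∈ Z := by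
    intro P f hf hzP
    obtain ⟨P₃, b, hb, hPP₃, hzP₃, hkerP₃, hbf, hbz⟩ := lift_central hmor hC' hzS hz hf
    have h1 : tf θ z = tf θ (f z) := by rw [← hbz, hbf z hzP]
    exact (tf_eq_iff θ hker hzS (hf.mem_S hzP)).mp h1
  -- the commutator with `z` is invariant under the maps of the system
  have hK3 : ∀ (P : Subgroup Ω) (f : Ω → Ω), Mor F P f → ∀ x ∈ P,
      f x * z * (f x)⁻¹ = x * z * x⁻¹ := by
    intro P f hf x hx
    obtain ⟨P₃, b, hb, hPP₃, hzP₃, hkerP₃, hbf, hbz⟩ := lift_central hmor hC' hzS hz hf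
    have hxS : x ∈ S := hf.le hx
    have huS : f x ∈ S := hf.mem_S hx
    have hxP₃ : x ∈ P₃ := hPP₃ hx
    have hκZ : z⁻¹ * (x * z * x⁻¹) ∈ Z :=
      hK2 S (fun y => x * y * x⁻¹) (mor_conj F le_rfl hxS) hzS
    have hζ₁ : (f x)⁻¹ * b x ∈ Z :=
      (tf_eq_iff θ hker huS (hb.mem_S hxP₃)).mp (hbf x hx).symm
    have hζ₂ : z⁻¹ * b z ∈ Z := (tf_eq_iff θ hker hzS (hb.mem_S hzP₃)).mp hbz.symm
    have hκP₃ : z⁻¹ * (x * z * x⁻¹) ∈ P₃ :=
      P₃.mul_mem (P₃.inv_mem hzP₃) (P₃.mul_mem (P₃.mul_mem hxP₃ hzP₃) (P₃.inv_mem hxP₃))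
    -- apply `b` to `x z x⁻¹ = z κ`
    have h1 : b (x * z * x⁻¹) = b x * b z * (b x)⁻¹ := by
      rw [hb.map_mul (P₃.mul_mem hxP₃ hzP₃) (P₃.inv_mem hxP₃), hb.map_mul hxP₃ hzP₃,
        hb.map_inv hxP₃]
    have h2 : b (x * z * x⁻¹) = b z * (z⁻¹ * (x * z * x⁻¹)) := by
      have e : x * z * x⁻¹ = z * (z⁻¹ * (x * z * x⁻¹)) := by group
      rw [e, hb.map_mul hzP₃ hκP₃, hfixZ P₃ b hb _ hκP₃ hκZ]
      congr 1
      group
    have main : b x * b z * (b x)⁻¹ = b z * (z⁻¹ * (x * z * x⁻¹)) := h1.symm.trans h2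
    have hbzS : b z ∈ S := hb.mem_S hzP₃
    -- `ζ₁` commutes with `b z`
    have hc1 : ((f x)⁻¹ * b x) * b z * ((f x)⁻¹ * b x)⁻¹ = b z := by
      have h3 := hZcen (b z) hbzS _ hζ₁
      calc ((f x)⁻¹ * b x) * b z * ((f x)⁻¹ * b x)⁻¹
          = (b z * ((f x)⁻¹ * b x) * (b z)⁻¹) * b z * ((f x)⁻¹ * b x)⁻¹ := by rw [h3]
        _ = b z := by group
    have hc2 : f x * (z⁻¹ * b z) * (f x)⁻¹ = z⁻¹ * b z := hZcen (f x) huS _ hζ₂
    have hc3 : (z⁻¹ * b z) * (z⁻¹ * (x * z * x⁻¹)) * (z⁻¹ * b z)⁻¹ = z⁻¹ * (x * z * x⁻¹) :=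
      hZcen _ (hZS hζ₂) _ hκZ
    calc f x * z * (f x)⁻¹
        = f x * (((f x)⁻¹ * b x) * b z * ((f x)⁻¹ * b x)⁻¹) * (f x)⁻¹ *
            (f x * (z⁻¹ * b z) * (f x)⁻¹)⁻¹ := by rw [hc1]; group
      _ = (b x * b z * (b x)⁻¹) * (z⁻¹ * b z)⁻¹ := by rw [hc2]; group
      _ = b z * (z⁻¹ * (x * z * x⁻¹)) * (z⁻¹ * b z)⁻¹ := by rw [main]
      _ = z * ((z⁻¹ * b z) * (z⁻¹ * (x * z * x⁻¹)) * (z⁻¹ * b z)⁻¹) := by group
      _ = z * (z⁻¹ * (x * z * x⁻¹)) := by rw [hc3]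
      _ = x * z * x⁻¹ := by group
  -- `z` is central in `S`, since the hyperfocal subgroup is `S`
  have hzcen : ∀ g ∈ S, g * z * g⁻¹ = z := by
    have hK : F.hyperfocalSubgroup p ≤ Subgroup.centralizer {z} := by
      unfold hyperfocalSubgroup
      rw [Subgroup.closure_le]
      rintro y ⟨P, α, x, hP, -, rfl⟩
      have hm : Mor F P (extFun (fun x : P => (((α : MulAut P) x : P) : Ω))) :=
        (mem_autGroup_iff F hP α.1).mp α.2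
      have h1 := hK3 P _ hm x x.2
      rw [extFun_apply] at h1
      rw [SetLike.mem_coe, Subgroup.mem_centralizer_iff]
      intro w hw
      rw [Set.mem_singleton_iff] at hw
      subst hw
      calc w * ((x : Ω)⁻¹ * (((α : MulAut P) x : P) : Ω))
          = (x : Ω)⁻¹ * ((x : Ω) * w * (x : Ω)⁻¹) * (((α : MulAut P) x : P) : Ω) := by group
        _ = (x : Ω)⁻¹ * ((((α : MulAut P) x : P) : Ω) * w * ((((α : MulAut P) x : P) : Ω))⁻¹) *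
              (((α : MulAut P) x : P) : Ω) := by rw [h1]
        _ = (x : Ω)⁻¹ * (((α : MulAut P) x : P) : Ω) * w := by group
    intro g hg
    have hg' : g ∈ F.hyperfocalSubgroup p := by rw [hperf]; exact hg
    have h2 := Subgroup.mem_centralizer_iff.mp (hK hg') z (Set.mem_singleton z)
    calc g * z * g⁻¹ = (z * g) * g⁻¹ := by rw [h2]
      _ = z := by group
  -- automorphisms of fully automized centric subgroups fix `z`
  obtain ⟨s, hs⟩ := hS.exists_card_eq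
  have hexpS : ∀ x ∈ S, x ^ p ^ s = 1 := by
    intro x hx
    have h1 : (⟨x, hx⟩ : S) ^ p ^ s = 1 := by
      rw [← hs]
      exact pow_card_eq_one'
    exact congrArg Subtype.val h1
  have hK4 : ∀ R : Subgroup Ω, F.IsFullyAutomized p R → F.IsCentric R → ∀ α ∈ F.autGroup R,
      ∀ (hzR : z ∈ R), α ⟨z, hzR⟩ = ⟨z, hzR⟩ := by
    intro R hfa hc α hα hzR
    have hRS : R ≤ S := hc.1
    have hfinR : Finite R := Finite.of_injective _ (Subgroup.inclusion_injective hRS)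
    obtain ⟨RS, hRS'⟩ := fa_exists_sylow hfa
    have hmα : ∀ β ∈ F.autGroup R, Mor F R (extFun (fun x : R => ((β x : R) : Ω))) :=
      fun β hβ => (mem_autGroup_iff F hRS β).mp hβ
    have hβz : ∀ β ∈ F.autGroup R, (z⁻¹ * ((β ⟨z, hzR⟩ : R) : Ω)) ∈ Z := by
      intro β hβ
      have h1 := hK2 R _ (hmα β hβ) hzR
      rwa [extFun_mem _ hzR] at h1
    have hβZ : ∀ β ∈ F.autGroup R, ∀ y : R, (y : Ω) ∈ Z → β y = y := by
      intro β hβ y hy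
      apply Subtype.ext
      have h1 := hfixZ R _ (hmα β hβ) y y.2 hy
      rwa [extFun_apply] at h1
    have hζZ : (((⟨z, hzR⟩ : R)⁻¹ * α ⟨z, hzR⟩ : R) : Ω) ∈ Z := hβz α hα
    have hαz : α ⟨z, hzR⟩ = ⟨z, hzR⟩ * ((⟨z, hzR⟩ : R)⁻¹ * α ⟨z, hzR⟩) := by group
    have hαζ : α ((⟨z, hzR⟩ : R)⁻¹ * α ⟨z, hzR⟩) = (⟨z, hzR⟩ : R)⁻¹ * α ⟨z, hzR⟩ :=
      hβZ α hα _ hζZ
    have hn0 : orderOf α ≠ 0 := (orderOf_pos α).ne'
    obtain ⟨a, m, hm, hnm⟩ :=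
      Nat.exists_eq_pow_mul_and_not_dvd hn0 p (Fact.out : p.Prime).ne_one
    have hγA : α ^ m ∈ F.autGroup R := pow_mem hα m
    have hγpow : (α ^ m) ^ p ^ a = 1 := by
      rw [← pow_mul, mul_comm, ← hnm]; exact pow_orderOf_eq_one α
    have hpg : IsPGroup p (Subgroup.zpowers (⟨α ^ m, hγA⟩ : F.autGroup R)) := by
      rintro ⟨g, hg⟩
      obtain ⟨i, rfl⟩ := Subgroup.mem_zpowers_iff.mp hg
      refine ⟨a, Subtype.ext ?_⟩
      have h1 : (⟨α ^ m, hγA⟩ : F.autGroup R) ^ p ^ a = 1 := Subtype.ext (by simpa using hγpow)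
      show ((⟨α ^ m, hγA⟩ : F.autGroup R) ^ i) ^ p ^ a = 1
      rw [← zpow_natCast, ← zpow_mul, mul_comm, zpow_mul, zpow_natCast, h1, one_zpow]
    obtain ⟨δ, hδ⟩ := sylow_conj_le RS _ hpg
    have h1 := hδ _ (Subgroup.mem_zpowers _)
    obtain ⟨g, hg, hgc⟩ := (hRS' _).mp h1
    -- the element `w = δ⁻¹ z` is central in `S`
    have hwZ : (((⟨z, hzR⟩ : R)⁻¹ * ((δ⁻¹ : F.autGroup R) : MulAut R) ⟨z, hzR⟩ : R) : Ω) ∈ Z :=
      hβz _ (δ⁻¹).2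
    have hgw : g * ((((δ⁻¹ : F.autGroup R) : MulAut R) ⟨z, hzR⟩ : R) : Ω) * g⁻¹ =
        ((((δ⁻¹ : F.autGroup R) : MulAut R) ⟨z, hzR⟩ : R) : Ω) := by
      have e : ((((δ⁻¹ : F.autGroup R) : MulAut R) ⟨z, hzR⟩ : R) : Ω) =
          z * (((⟨z, hzR⟩ : R)⁻¹ * ((δ⁻¹ : F.autGroup R) : MulAut R) ⟨z, hzR⟩ : R) : Ω) := by
        simp
      have h3 := hZcen g hg _ hwZ
      have h4 := hzcen g hg
      calc g * ((((δ⁻¹ : F.autGroup R) : MulAut R) ⟨z, hzR⟩ : R) : Ω) * g⁻¹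
          = (g * z * g⁻¹) * (g * (((⟨z, hzR⟩ : R)⁻¹ *
              ((δ⁻¹ : F.autGroup R) : MulAut R) ⟨z, hzR⟩ : R) : Ω) * g⁻¹) := by
            rw [e]; group
        _ = z * (((⟨z, hzR⟩ : R)⁻¹ * ((δ⁻¹ : F.autGroup R) : MulAut R) ⟨z, hzR⟩ : R) : Ω) := by
            rw [h3, h4]
        _ = _ := e.symm
    have h2 := hgc (((δ⁻¹ : F.autGroup R) : MulAut R) ⟨z, hzR⟩)
    rw [hgw] at h2
    have hγz : (α ^ m) ⟨z, hzR⟩ = ⟨z, hzR⟩ := by
      have h5 : ((δ⁻¹ * ⟨α ^ m, hγA⟩ * δ : F.autGroup R) : MulAut R)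
          (((δ⁻¹ : F.autGroup R) : MulAut R) ⟨z, hzR⟩) =
          ((δ⁻¹ : F.autGroup R) : MulAut R) ((α ^ m) ⟨z, hzR⟩) := by
        simp [MulAut.mul_apply]
      have h6 : ((δ⁻¹ : F.autGroup R) : MulAut R) ((α ^ m) ⟨z, hzR⟩) =
          ((δ⁻¹ : F.autGroup R) : MulAut R) ⟨z, hzR⟩ := by
        rw [← h5]; exact Subtype.ext h2
      exact (((δ⁻¹ : F.autGroup R) : MulAut R)).injective h6
    have h3 := Helper87.aut_pow_apply_of_fix α ⟨z, hzR⟩ _ hαz hαζ m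
    rw [hγz] at h3
    have hζm : ((⟨z, hzR⟩ : R)⁻¹ * α ⟨z, hzR⟩) ^ m = 1 := by
      have h7 : (⟨z, hzR⟩ : R) * 1 = ⟨z, hzR⟩ * ((⟨z, hzR⟩ : R)⁻¹ * α ⟨z, hzR⟩) ^ m := by
        rw [mul_one]; exact h3
      exact (mul_left_cancel h7).symm
    have hζp : ((⟨z, hzR⟩ : R)⁻¹ * α ⟨z, hzR⟩) ^ p ^ s = 1 := by
      apply Subtype.ext
      have h8 := hexpS _ (hRS ((⟨z, hzR⟩ : R)⁻¹ * α ⟨z, hzR⟩).2)
      simpa using h8
    have hcop : Nat.Coprime m (p ^ s) :=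
      Nat.Coprime.pow_right s ((Nat.Prime.coprime_iff_not_dvd (Fact.out : p.Prime)).mpr hm).symm
    have hζ1 : (⟨z, hzR⟩ : R)⁻¹ * α ⟨z, hzR⟩ = 1 := by
      have h9 := orderOf_dvd_of_pow_eq_one hζm
      have h10 := orderOf_dvd_of_pow_eq_one hζp
      have h11 : orderOf ((⟨z, hzR⟩ : R)⁻¹ * α ⟨z, hzR⟩) = 1 :=
        Nat.eq_one_of_dvd_coprimes hcop h9 h10
      exact orderOf_eq_one_iff.mp h11
    rw [hαz, hζ1, mul_one]
  -- Alperin's theorem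
  have key := Helper87.alperin hS F hF (fixSystem F z hzcen) (by
    intro R hfa hrec hc hr _ α hα
    have hRS : R ≤ S := hc.1
    have hzR : z ∈ R := by
      apply centric_self hc
      rw [mem_centralizerIn]
      refine ⟨hzS, fun q hq => ?_⟩
      have h1 := hzcen q (hRS hq)
      calc q * z = (q * z * q⁻¹) * q := by group
        _ = z * q := by rw [h1]
    have hfix := hK4 R hfa hc α hα hzR
    refine ⟨(Helper87.mem_autGroup_iff F hRS α).mp hα, fun x => ?_⟩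
    show (x : Ω) = z ↔ ((α x : R) : Ω) = z
    constructor
    · intro h
      have hx : x = ⟨z, hzR⟩ := Subtype.ext h
      rw [hx, hfix]
    · intro h
      have h1 : α x = α ⟨z, hzR⟩ := by rw [hfix]; exact Subtype.ext h
      exact congrArg Subtype.val (α.injective h1))
  intro P φ hφ x hx
  exact ((key P hφ).2 x).mp hx

end Cfsg.Agent.Lib.Helper88
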