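import Mathlib
import Cfsg.Agent.Lib.Helper88.FusSat
import Cfsg.Agent.Lib.Helper88.FusCentric
import Cfsg.Agent.Lib.Helper88.FusNormal
import Cfsg.Agent.Lib.Helper88.FusAlp
import Cfsg.Agent.Lib.Helper84.NormalizerSys
import Cfsg.Agent.Lib.Helper84.FusionSat2
import Cfsg.Agent.Lib.Helper85.Realized

set_option autoImplicit false

namespace Cfsg.Agent.Lib.Helper88

open Cfsg Cfsg.FusionSystem

variable {Ω : Type*} [Group Ω] {S : Subgroup Ω}

/-- In a model of a fusion system, the image of a subgroup normal in the system is normal. -/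
theorem model_normal [Finite S] (p : ℕ) [Fact p.Prime] (F : FusionSystem S)
    {R : Subgroup Ω} (hRn : F.IsNormal R) {G : Type*} [Group G] (ι : S →* G)
    (hm : F.IsModel p G ι) (g : G) (r : Ω) (hr : r ∈ R) :
    ∃ r', ∃ hr' : r' ∈ R, g * ι ⟨r, hRn.1 hr⟩ * g⁻¹ = ι ⟨r', hRn.1 hr'⟩ := by
  obtain ⟨hfinG, ⟨hinj, hreal⟩, ⟨T, hT⟩, hcent⟩ := hm
  have hRS := hRn.1
  have hUT : pCore p G ≤ ι.range := by rw [← hT]; exact Helper84.pCore_le_sylow p T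
  obtain ⟨U₀, hU₀def⟩ : ∃ U₀ : Subgroup Ω, U₀ = Helper85.preSub ι (pCore p G) := ⟨_, rfl⟩
  have hU₀N : U₀ ≤ S := by rw [hU₀def]; exact Helper85.preSub_le ι _
  have hU₀mem : ∀ x, x ∈ U₀ ↔ ∃ hx : x ∈ S, ι ⟨x, hx⟩ ∈ pCore p G := by
    intro x; rw [hU₀def]; exact Helper85.mem_preSub
  have hUex : ∀ y ∈ pCore p G, ∃ u, ∃ hu : u ∈ S, u ∈ U₀ ∧ ι ⟨u, hu⟩ = y := by
    intro y hy
    obtain ⟨u, rfl⟩ := hUT hy
    exact ⟨u, u.2, (hU₀mem _).2 ⟨u.2, hy⟩, rfl⟩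
  have hUnorm : (pCore p G).Normal := inferInstance
  have hg : ∀ x : U₀, g * ι ⟨x, hU₀N x.2⟩ * g⁻¹ ∈ ι.range := fun x =>
    hUT (hUnorm.conj_mem _ ((hU₀mem _).1 x.2).2 g)
  obtain ⟨ψ, hψN, hψ⟩ := Helper85.exists_lift_conj hinj hU₀N g hg
  have hψE : ψ ∈ F.Hom U₀ := (hreal U₀ hU₀N ψ hψN).2 ⟨g, hψ⟩
  obtain ⟨f', hf', hf'ψ, hf'R, -⟩ := normal_extend hRn (mor_of_hom F hψE)
  obtain ⟨φ', hφ', hφ'f⟩ := hf'
  have hle := F.le_of_mem hφ'
  obtain ⟨g', hg'⟩ := (hreal (U₀ ⊔ R) hle.1 φ' hle.2).1 hφ'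
  have hcen : g⁻¹ * g' ∈ Subgroup.centralizer ((pCore p G : Subgroup G) : Set G) := by
    rw [Subgroup.mem_centralizer_iff]
    intro y hy
    obtain ⟨u, hu, huU₀, rfl⟩ := hUex y hy
    have h1 := hg' ⟨u, le_sup_left (α := Subgroup Ω) huU₀⟩
    have h2 := hψ ⟨u, huU₀⟩
    have h3 : φ' ⟨u, le_sup_left (α := Subgroup Ω) huU₀⟩ = ψ ⟨u, huU₀⟩ := by
      rw [hφ'f]
      show f' u = _
      rw [hf'ψ u huU₀]
      exact extFun_mem ψ huU₀
    have h4 : g' * ι ⟨u, hu⟩ * g'⁻¹ = g * ι ⟨u, hu⟩ * g⁻¹ := by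
      rw [← h1, ← h2]
      congr 1
      exact Subtype.ext h3
    calc ι ⟨u, hu⟩ * (g⁻¹ * g') = g⁻¹ * (g * ι ⟨u, hu⟩ * g⁻¹) * g' := by group
      _ = g⁻¹ * (g' * ι ⟨u, hu⟩ * g'⁻¹) * g' := by rw [h4]
      _ = g⁻¹ * g' * ι ⟨u, hu⟩ := by group
  obtain ⟨z, hz⟩ := hUT (hcent hcen)
  have hzr : (z : Ω)⁻¹ * r * z ∈ R := by
    have h1 := normal_conj_mem hRn (S.inv_mem z.2) hr
    rw [inv_inv] at h1
    exact h1
  have h5 := hg' ⟨(z : Ω)⁻¹ * r * z, le_sup_right (α := Subgroup Ω) hzr⟩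
  have h6 : g * ι ⟨r, hRS hr⟩ * g⁻¹ = g' * ι ⟨(z : Ω)⁻¹ * r * z, hRS hzr⟩ * g'⁻¹ := by
    have h7 : ι ⟨(z : Ω)⁻¹ * r * z, hRS hzr⟩ = (ι z)⁻¹ * ι ⟨r, hRS hr⟩ * ι z := by
      rw [← map_inv, ← map_mul, ← map_mul]
      rfl
    rw [h7, hz]
    group
  refine ⟨φ' ⟨_, le_sup_right (α := Subgroup Ω) hzr⟩, ?_, ?_⟩
  · rw [hφ'f]
    exact hf'R _ hzr
  · rw [h6, ← h5]

/-- Extension of a map onto a receptive subgroup to `P C_S(P)`. -/
theorem receptive_extend_cent {F : FusionSystem S} {Q P : Subgroup Ω} {f : Ω → Ω}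
    (hQ : F.IsReceptive Q) (hf : Mor F P f) (himg : img P f = Q) :
    ∃ f', Mor F (P ⊔ centralizerIn S P) f' ∧ ∀ x ∈ P, f' x = f x := by
  have hPS : P ≤ S := hf.le
  obtain ⟨φ, hφ, hφf⟩ := hf
  have hr : φ.range = Q := by rw [← img_eq_range φ hφf]; exact himg
  obtain ⟨ψ, hψ, hψφ⟩ := hQ.2 P φ hφ hr
  have hNle : P ⊔ centralizerIn S P ≤ extender S P φ := by
    apply sup_le
    · intro g hg
      apply Subgroup.subset_closure
      refine ⟨hPS hg, Subgroup.le_normalizer hg, φ ⟨g, hg⟩, (F.le_of_mem hφ).2 _, ?_⟩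
      intro x hx
      have h1 : (⟨g * x * g⁻¹, hx⟩ : P) = ⟨g, hg⟩ * x * ⟨g, hg⟩⁻¹ := rfl
      rw [h1, map_mul, map_mul, map_inv]
    · intro g hg
      obtain ⟨hgS, hgc⟩ := mem_centralizerIn.mp hg
      apply Subgroup.subset_closure
      refine ⟨hgS, Subgroup.centralizer_le_normalizer _ (Subgroup.mem_inf.mp hg).2, 1,
        S.one_mem, ?_⟩
      intro x hx
      have h1 : (⟨g * x * g⁻¹, hx⟩ : P) = x := by
        apply Subtype.ext
        show g * (x : Ω) * g⁻¹ = x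
        rw [← hgc x x.2]
        group
      rw [h1]
      group
  refine ⟨extFun ψ, (mor_of_hom F hψ).res hNle, ?_⟩
  intro x hx
  rw [extFun_mem ψ (hNle (le_sup_left (α := Subgroup Ω) hx)),
    hψφ x hx (hNle (le_sup_left (α := Subgroup Ω) hx))]
  exact hφf ⟨x, hx⟩

/-- `P C_S(P)` is centric when `P` is fully centralized. -/
theorem centric_sup_cent [Finite S] {F : FusionSystem S} {P : Subgroup Ω}
    (hfc : F.IsFullyCentralized P) : F.IsCentric (P ⊔ centralizerIn S P) := by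
  have hPS : P ≤ S := hfc.1
  have hR₁S : P ⊔ centralizerIn S P ≤ S := sup_le hPS inf_le_left
  refine ⟨hR₁S, fun Q hQ => ?_⟩
  obtain ⟨g, hg, rfl⟩ := (isConj_iff F).mp hQ
  have hgP : Mor F P g := hg.res le_sup_left
  have hcard := hfc.2 (img P g) (isConj_of_mor hgP)
  have hmap : ∀ c ∈ centralizerIn S P, g c ∈ centralizerIn S (img P g) := by
    intro c hc
    obtain ⟨hcS, hcc⟩ := mem_centralizerIn.mp hc
    have hcR : c ∈ P ⊔ centralizerIn S P := le_sup_right (α := Subgroup Ω) hc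
    rw [mem_centralizerIn]
    refine ⟨hg.mem_S hcR, fun q hq => ?_⟩
    obtain ⟨x, hx, rfl⟩ := hgP.mem_img.mp hq
    have hxR : x ∈ P ⊔ centralizerIn S P := le_sup_left (α := Subgroup Ω) hx
    rw [← hg.map_mul hxR hcR, ← hg.map_mul hcR hxR, hcc x hx]
  have hfinC : Finite (centralizerIn S (img P g)) :=
    Finite.of_injective _ (Subgroup.inclusion_injective (inf_le_left : centralizerIn S (img P g) ≤ S))
  have hinj : Function.Injective
      (fun c : centralizerIn S P => (⟨g c, hmap c c.2⟩ : centralizerIn S (img P g))) := by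
    intro a b hab
    have h1 : g a = g b := congrArg Subtype.val hab
    exact Subtype.ext (hg.inj (le_sup_right (α := Subgroup Ω) a.2)
      (le_sup_right (α := Subgroup Ω) b.2) h1)
  have hbij := hinj.bijective_of_nat_card_le hcard
  intro c' hc'
  have hc'' : c' ∈ centralizerIn S (img P g) := by
    obtain ⟨hcS, hcc⟩ := mem_centralizerIn.mp hc'
    rw [mem_centralizerIn]
    exact ⟨hcS, fun q hq => hcc q (img_mono hg le_sup_left hq)⟩
  obtain ⟨c, hc⟩ := hbij.2 ⟨c', hc''⟩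
  have h2 : g c = c' := congrArg Subtype.val hc
  rw [← h2]
  exact hg.apply_mem_img (le_sup_right (α := Subgroup Ω) c.2)

end Cfsg.Agent.Lib.Helper88
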