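import Mathlib
import Cfsg.Agent.Lib.Helper88.LocalGroupA
import Cfsg.Agent.Lib.Helper88.FusGrun
import Cfsg.Agent.Lib.Helper84.Model3
import Cfsg.Agent.Lib.Helper84.KNormalizer
import Cfsg.Agent.Lib.Helper87.FusionNormal
import Cfsg.Agent.Lib.Helper34.InvolvesAux
import Cfsg.Prelude.Def_FusionReduction

set_option autoImplicit false

namespace Cfsg.Agent.Lib.Helper88

open Cfsg Cfsg.FusionSystem

universe u v

theorem Mor.forall_sup {Ω : Type*} [Group Ω] {S : Subgroup Ω} {F : FusionSystem S}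
    {A B : Subgroup Ω} {f : Ω → Ω} (hf : Mor F (A ⊔ B) f) (K : Subgroup Ω)
    (hA : ∀ x ∈ A, f x ∈ K) (hB : ∀ x ∈ B, f x ∈ K) : ∀ x ∈ A ⊔ B, f x ∈ K := by
  intro x hx
  have key : ∀ y ∈ A ⊔ B, y ∈ A ⊔ B ∧ f y ∈ K := by
    intro y hy
    rw [Subgroup.sup_eq_closure] at hy
    induction hy using Subgroup.closure_induction with
    | mem y hy =>
      rcases hy with h | h
      · exact ⟨le_sup_left (α := Subgroup Ω) h, hA y h⟩
      · exact ⟨le_sup_right (α := Subgroup Ω) h, hB y h⟩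
    | one => exact ⟨Subgroup.one_mem _, by rw [hf.map_one]; exact K.one_mem⟩
    | mul a b _ _ ha hb =>
      exact ⟨Subgroup.mul_mem _ ha.1 hb.1, by
        rw [hf.map_mul ha.1 hb.1]; exact K.mul_mem ha.2 hb.2⟩
    | inv a _ ha =>
      exact ⟨Subgroup.inv_mem _ ha.1, by rw [hf.map_inv ha.1]; exact K.inv_mem ha.2⟩
  exact (key x hx).2

/-- **The local group at a fully automized receptive subgroup.** -/
theorem local_group {Ω : Type u} [Group Ω] {S : Subgroup Ω} [Finite S] (p : ℕ) [Fact p.Prime]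
    (hS : IsPGroup p S) (F : FusionSystem S) (hF : F.IsSaturated p) {P : Subgroup Ω}
    (hfa : F.IsFullyAutomized p P) (hrec : F.IsReceptive P) (H : Type v) [Group H] :
    ∃ (X : Type u) (_ : Group X) (_ : Finite X) (θ : ↥(normalizerIn S P) →* X),
      Function.Injective θ ∧ ¬ p ∣ θ.range.index ∧
      (∀ (m : X) (x : Ω) (hx : x ∈ P), ∃ y, ∃ hy : y ∈ P,
          m * θ ⟨x, Helper84.le_normalizerIn hrec.1 hx⟩ * m⁻¹ =
            θ ⟨y, Helper84.le_normalizerIn hrec.1 hy⟩) ∧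
      (∀ α ∈ F.autGroup P, ∃ m : X, ∀ x : P,
          θ ⟨((α x : P) : Ω), Helper84.le_normalizerIn hrec.1 (α x).2⟩ =
            m * θ ⟨x, Helper84.le_normalizerIn hrec.1 x.2⟩ * m⁻¹) ∧
      (∀ (m : X) (U : Subgroup Ω) (hU : U ≤ normalizerIn S P),
          (∀ u : U, m * θ ⟨u, hU u.2⟩ * m⁻¹ ∈ θ.range) →
          ∃ f, Mor F U f ∧ ∀ (u : Ω) (hu : u ∈ U), ∃ hfu : f u ∈ normalizerIn S P,
            θ ⟨f u, hfu⟩ = m * θ ⟨u, hU hu⟩ * m⁻¹) ∧
      (F.IsSectionFree p H → ¬ Involves H X) := by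
  classical
  have hPS : P ≤ S := hrec.1
  have hPT : P ≤ normalizerIn S P := Helper84.le_normalizerIn hPS
  have hfc : F.IsFullyCentralized P := Helper84.fullyCentralized_of_receptive F hrec
  have hfn : F.IsFullyNormalized P := fn_of_fa_rec hS hfa hrec
  obtain ⟨R₁, hR₁def⟩ : ∃ R₁ : Subgroup Ω, R₁ = P ⊔ centralizerIn S P := ⟨_, rfl⟩
  have hR₁c : F.IsCentric R₁ := by rw [hR₁def]; exact centric_sup_cent hfc
  have hPR₁ : P ≤ R₁ := by rw [hR₁def]; exact le_sup_left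
  have hR₁S : R₁ ≤ S := hR₁c.1
  have hfinS' : ∀ K : Subgroup Ω, K ≤ S → Finite K := fun K hK =>
    Finite.of_injective _ (Subgroup.inclusion_injective hK)
  have hfinR₁ : Finite R₁ := hfinS' R₁ hR₁S
  have hfinP : Finite P := hfinS' P hPS
  have hTR₁ : normalizerIn S P ≤ normalizerIn S R₁ := by
    intro t ht
    obtain ⟨htS, htn⟩ := Subgroup.mem_inf.mp ht
    refine Subgroup.mem_inf.mpr ⟨htS, mem_normalizer_fin ?_⟩
    have hle : R₁ ≤ R₁.comap (MulAut.conj t).toMonoidHom := by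
      rw [hR₁def]
      apply sup_le
      · intro x hx
        show t * x * t⁻¹ ∈ P ⊔ centralizerIn S P
        exact le_sup_left (α := Subgroup Ω) ((Subgroup.mem_normalizer_iff.mp htn x).mp hx)
      · intro x hx
        show t * x * t⁻¹ ∈ P ⊔ centralizerIn S P
        apply le_sup_right (α := Subgroup Ω)
        obtain ⟨hxS, hxc⟩ := mem_centralizerIn.mp hx
        rw [mem_centralizerIn]
        refine ⟨S.mul_mem (S.mul_mem htS hxS) (S.inv_mem htS), fun q hq => ?_⟩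
        have hq' : t⁻¹ * q * t ∈ P := by
          have h1 := (Subgroup.mem_normalizer_iff.mp (Subgroup.inv_mem _ htn) q).mp hq
          rw [inv_inv] at h1
          exact h1
        have h1 := hxc _ hq'
        calc q * (t * x * t⁻¹) = t * ((t⁻¹ * q * t) * x) * t⁻¹ := by group
          _ = t * (x * (t⁻¹ * q * t)) * t⁻¹ := by rw [h1]
          _ = t * x * t⁻¹ * q := by group
    intro x hx
    exact hle hx
  obtain ⟨Rst, hconj, hRfa, hRrec⟩ := hF R₁ hR₁S
  obtain ⟨k, hk, hkimg⟩ := (isConj_iff F).mp hconj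
  obtain ⟨χ, hχ, hχimg⟩ := lemma26a hS hRfa hRrec hk hkimg
  have hRstS : Rst ≤ S := hRrec.1
  have hfinRst : Finite Rst := hfinS' Rst hRstS
  have hRstc : F.IsCentric Rst := by rw [← hkimg]; exact centric_conj hR₁c hk
  have hRstfn : F.IsFullyNormalized Rst := fn_of_fa_rec hS hRfa hRrec
  have hR₁N : R₁ ≤ normalizerIn S R₁ := Helper84.le_normalizerIn hR₁S
  have hRstN : Rst ≤ normalizerIn S Rst := Helper84.le_normalizerIn hRstS
  have hχR₁ : Mor F R₁ χ := hχ.res hR₁N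
  have hχT : Mor F (normalizerIn S P) χ := hχ.res hTR₁
  have hχP : Mor F P χ := hχR₁.res hPR₁
  have hχN : ∀ t ∈ normalizerIn S R₁, χ t ∈ normalizerIn S Rst := by
    intro t ht
    refine Subgroup.mem_inf.mpr ⟨hχ.mem_S ht, ?_⟩
    apply mem_normalizer_fin
    intro y hy
    have h1 := normal_pair_img hχ hR₁N
      (fun g hg x hx => (Subgroup.mem_normalizer_iff.mp (Subgroup.mem_inf.mp hg).2 x).mp hx)
      (χ t) (hχ.apply_mem_img ht) y (by rw [hχimg]; exact hy)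
    rw [hχimg] at h1
    exact h1
  have hχTN : ∀ t ∈ normalizerIn S P, χ t ∈ normalizerIn S Rst := fun t ht => hχN t (hTR₁ ht)
  -- the normalizer system and its model
  obtain ⟨E, hE⟩ : ∃ E : FusionSystem (normalizerIn S Rst), F.IsNormalizerSystem Rst E :=
    ⟨_, Helper87.isNormalizerSystem_normSystem F Rst hRstS⟩
  have hEsat : E.IsSaturated p := Helper84.normalizerSystem_saturated p hS F hF Rst hRstfn E hE
  have hEn : E.IsNormal Rst := Helper84.normalizerSystem_isNormal F hRstS E hE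
  have hEc : E.IsCentric Rst := Helper84.normalizerSystem_isCentric F hRstc E hE
  have hfinN : Finite (normalizerIn S Rst) := hfinS' _ inf_le_left
  have hSN : IsPGroup p (normalizerIn S Rst) := hS.to_le inf_le_left
  obtain ⟨L, hL, ι, hm⟩ := Helper84.Model.exists_model p hSN E ⟨hEsat, Rst, hEn, hEc⟩
  have hmn := model_normal p E hEn ι hm
  have hm' := hm
  obtain ⟨hfinL, ⟨hinj, hreal⟩, ⟨TL, hTL⟩, hcent⟩ := hm'
  have hEF : ∀ (U : Subgroup Ω) (f : Ω → Ω), Mor E U f → Mor F U f := fun U f h =>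
    ((Helper84.mor_normalizerSystem_iff F hRstS E hE U f).mp h).1
  -- the image of `P`
  have hPstR : ∀ x ∈ P, χ x ∈ Rst := fun x hx => by
    rw [← hχimg]; exact hχR₁.apply_mem_img (hPR₁ hx)
  obtain ⟨PL, hPLdef⟩ : ∃ PL : Subgroup L, PL = Helper85.imSub ι (img P χ) := ⟨_, rfl⟩
  have hPLmem : ∀ y : L, y ∈ PL ↔ ∃ x ∈ P, tf ι (χ x) = y := by
    intro y
    rw [hPLdef, Helper85.mem_imSub]
    constructor
    · rintro ⟨x', hx', rfl⟩
      obtain ⟨x, hx, hxx⟩ := hχP.mem_img.mp hx'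
      refine ⟨x, hx, ?_⟩
      rw [tf_mem ι (hχTN x (hPT hx))]
      congr 1
      exact Subtype.ext hxx
    · rintro ⟨x, hx, rfl⟩
      refine ⟨⟨χ x, hχTN x (hPT hx)⟩, hχP.apply_mem_img hx, ?_⟩
      rw [tf_mem ι (hχTN x (hPT hx))]
  have htfmul : ∀ a b : Ω, a ∈ normalizerIn S Rst → b ∈ normalizerIn S Rst →
      tf ι (a * b) = tf ι a * tf ι b := by
    intro a b ha hb
    rw [tf_mem ι ha, tf_mem ι hb, tf_mem ι (Subgroup.mul_mem _ ha hb), ← map_mul]
    rfl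
  have htfinv : ∀ a : Ω, a ∈ normalizerIn S Rst → tf ι a⁻¹ = (tf ι a)⁻¹ := by
    intro a ha
    rw [tf_mem ι ha, tf_mem ι (Subgroup.inv_mem _ ha), ← map_inv]
    rfl
  have htfinj : ∀ a b : Ω, a ∈ normalizerIn S Rst → b ∈ normalizerIn S Rst →
      tf ι a = tf ι b → a = b := by
    intro a b ha hb h
    rw [tf_mem ι ha, tf_mem ι hb] at h
    exact congrArg Subtype.val (hinj h)
  have htfconj : ∀ t x : Ω, t ∈ normalizerIn S P → x ∈ normalizerIn S P →
      tf ι (χ (t * x * t⁻¹)) = tf ι (χ t) * tf ι (χ x) * (tf ι (χ t))⁻¹ := by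
    intro t x ht hx
    rw [hχT.map_mul (Subgroup.mul_mem _ ht hx) (Subgroup.inv_mem _ ht), hχT.map_mul ht hx,
      hχT.map_inv ht, htfmul _ _ (Subgroup.mul_mem _ (hχTN t ht) (hχTN x hx))
        (Subgroup.inv_mem _ (hχTN t ht)), htfmul _ _ (hχTN t ht) (hχTN x hx),
      htfinv _ (hχTN t ht)]
  have hfinPL : Finite PL := inferInstance
  -- the group `X` and the map `θ`
  obtain ⟨X, hXdef⟩ : ∃ X : Subgroup L, X = Subgroup.normalizer (PL : Set L) := ⟨_, rfl⟩
  have hXmem : ∀ g : L, g ∈ X ↔ ∀ x ∈ P, ∃ y ∈ P, g * tf ι (χ x) * g⁻¹ = tf ι (χ y) := by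
    intro g
    constructor
    · intro hg x hx
      rw [hXdef] at hg
      have h1 := (Subgroup.mem_normalizer_iff.mp hg (tf ι (χ x))).mp
        ((hPLmem _).mpr ⟨x, hx, rfl⟩)
      obtain ⟨y, hy, h2⟩ := (hPLmem _).mp h1
      exact ⟨y, hy, h2.symm⟩
    · intro hg
      rw [hXdef]
      apply mem_normalizer_fin
      intro y hy
      obtain ⟨x, hx, rfl⟩ := (hPLmem _).mp hy
      obtain ⟨y', hy', h2⟩ := hg x hx
      rw [h2]
      exact (hPLmem _).mpr ⟨y', hy', rfl⟩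
  have hθX : ∀ t ∈ normalizerIn S P, tf ι (χ t) ∈ X := by
    intro t ht
    rw [hXmem]
    intro x hx
    have hn := (Subgroup.mem_normalizer_iff.mp (Subgroup.mem_inf.mp ht).2 x).mp hx
    exact ⟨t * x * t⁻¹, hn, (htfconj t x ht (hPT hx)).symm⟩
  obtain ⟨θ, hθ⟩ : ∃ θ : ↥(normalizerIn S P) →* ↥X, ∀ t : ↥(normalizerIn S P),
      ((θ t : X) : L) = tf ι (χ t) := by
    refine ⟨MonoidHom.mk' (fun t => ⟨tf ι (χ t), hθX t t.2⟩) ?_, fun t => rfl⟩
    intro a b
    apply Subtype.ext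
    show tf ι (χ ((a : Ω) * (b : Ω))) = tf ι (χ a) * tf ι (χ b)
    rw [hχT.map_mul a.2 b.2, htfmul _ _ (hχTN a a.2) (hχTN b b.2)]
  have hθinj : Function.Injective θ := by
    intro a b hab
    have h1 : tf ι (χ a) = tf ι (χ b) := by rw [← hθ a, ← hθ b, hab]
    have h2 := htfinj _ _ (hχTN a a.2) (hχTN b b.2) h1
    exact Subtype.ext (hχT.inj a.2 b.2 h2)
  refine ⟨↥X, inferInstance, inferInstance, θ, hθinj, ?_, ?_, ?_, ?_, ?_⟩
  · -- Sylow
    have hTp : IsPGroup p ↥(normalizerIn S P) := hS.to_le inf_le_left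
    have hθp : IsPGroup p θ.range :=
      hTp.of_surjective θ.rangeRestrict θ.rangeRestrict_surjective
    obtain ⟨V, hV⟩ := hθp.exists_le_sylow
    have hcard : Nat.card V ≤ Nat.card (normalizerIn S P) := by
      have hVLp : IsPGroup p ((V : Subgroup X).map X.subtype) := V.isPGroup'.map _
      obtain ⟨δ, hδ⟩ := sylow_conj_le TL _ hVLp
      have hPstN : img P χ ≤ normalizerIn S Rst := by
        intro y hy
        obtain ⟨x, hx, rfl⟩ := hχP.mem_img.mp hy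
        exact hχTN x (hPT hx)
      have hPstRst : img P χ ≤ Rst := by
        intro y hy
        obtain ⟨x, hx, rfl⟩ := hχP.mem_img.mp hy
        exact hPstR x hx
      have hg2 : ∀ x : ↥(img P χ), δ⁻¹ * ι ⟨x, hPstN x.2⟩ * δ⁻¹⁻¹ ∈ ι.range := by
        intro x
        obtain ⟨r', hr', h1⟩ := hmn δ⁻¹ x (hPstRst x.2)
        exact ⟨⟨r', hRstN hr'⟩, h1.symm⟩
      obtain ⟨ψ₂, hψ₂N, hψ₂⟩ := Helper85.exists_lift_conj hinj hPstN δ⁻¹ hg2
      have hψ₂E : ψ₂ ∈ E.Hom (img P χ) := (hreal _ hPstN ψ₂ hψ₂N).2 ⟨δ⁻¹, hψ₂⟩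
      have hψ₂F : Mor F (img P χ) (extFun ψ₂) := hEF _ _ (mor_of_hom E hψ₂E)
      have hcomp : Mor F P (fun x => extFun ψ₂ (χ x)) :=
        hχP.comp hψ₂F (fun x hx => hχP.apply_mem_img hx)
      have hcard2 : Nat.card (normalizerIn S (img P (fun x => extFun ψ₂ (χ x)))) ≤
          Nat.card (normalizerIn S P) := hfn.2 _ (isConj_of_mor hcomp)
      have hψ₂mem : ∀ x ∈ P, extFun ψ₂ (χ x) ∈ normalizerIn S Rst := by
        intro x hx
        rw [extFun_mem ψ₂ (hχP.apply_mem_img hx)]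
        exact hψ₂N _
      have hkey : ∀ x ∈ P, tf ι (extFun ψ₂ (χ x)) = δ⁻¹ * tf ι (χ x) * δ := by
        intro x hx
        have h1 := hψ₂ ⟨χ x, hχP.apply_mem_img hx⟩
        rw [inv_inv] at h1
        rw [tf_mem ι (hψ₂mem x hx), tf_mem ι (hχTN x (hPT hx)), ← h1]
        congr 1
        exact Subtype.ext (extFun_mem ψ₂ (hχP.apply_mem_img hx))
      have hfinP2 : Finite ↥(img P (fun x => extFun ψ₂ (χ x))) := hfinS' _ hcomp.img_le
      have hex : ∀ v : V, ∃ w : ↥(normalizerIn S (img P (fun x => extFun ψ₂ (χ x)))),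
          (w : Ω) ∈ normalizerIn S Rst ∧ tf ι (w : Ω) = δ⁻¹ * ((v : X) : L) * δ := by
        intro v
        have h1 : δ⁻¹ * ((v : X) : L) * δ ∈ (TL : Subgroup L) :=
          hδ _ ⟨(v : X), v.2, rfl⟩
        rw [hTL] at h1
        obtain ⟨w, hw⟩ := h1
        have hwn : (w : Ω) ∈ normalizerIn S (img P (fun x => extFun ψ₂ (χ x))) := by
          refine Subgroup.mem_inf.mpr ⟨(Subgroup.mem_inf.mp w.2).1, mem_normalizer_fin ?_⟩
          intro y hy
          obtain ⟨x, hx, rfl⟩ := hcomp.mem_img.mp hy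
          obtain ⟨x', hx', h2⟩ := (hXmem _).mp (v : X).2 x hx
          have h3 : (w : Ω) * extFun ψ₂ (χ x) * (w : Ω)⁻¹ = extFun ψ₂ (χ x') := by
            apply htfinj _ _ (Subgroup.mul_mem _ (Subgroup.mul_mem _ w.2 (hψ₂mem x hx))
              (Subgroup.inv_mem _ w.2)) (hψ₂mem x' hx')
            rw [htfmul _ _ (Subgroup.mul_mem _ w.2 (hψ₂mem x hx)) (Subgroup.inv_mem _ w.2),
              htfmul _ _ w.2 (hψ₂mem x hx), htfinv _ w.2, hkey x hx, hkey x' hx', ← h2,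
              tf_mem ι w.2, hw]
            group
          rw [h3]
          exact hcomp.apply_mem_img hx'
        exact ⟨⟨w, hwn⟩, w.2, by rw [tf_mem ι w.2]; exact hw⟩
      choose W hW1 hW2 using hex
      have hWinj : Function.Injective W := by
        intro a b hab
        have h1 : δ⁻¹ * ((a : X) : L) * δ = δ⁻¹ * ((b : X) : L) * δ := by
          rw [← hW2 a, ← hW2 b, hab]
        have h2 : ((a : X) : L) = ((b : X) : L) := mul_left_cancel (mul_right_cancel h1)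
        exact Subtype.ext (Subtype.ext h2)
      have hfinN2 : Finite ↥(normalizerIn S (img P (fun x => extFun ψ₂ (χ x)))) :=
        hfinS' _ inf_le_left
      exact (Nat.card_le_card_of_injective W hWinj).trans hcard2
    have hcardθ : Nat.card θ.range = Nat.card (normalizerIn S P) :=
      (Nat.card_congr (MonoidHom.ofInjective hθinj).toEquiv).symm
    have heq : θ.range = (V : Subgroup X) :=
      Subgroup.eq_of_le_of_card_ge hV (by rw [hcardθ]; exact hcard)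
    rw [heq]
    exact V.not_dvd_index
  · -- normal
    intro m x hx
    obtain ⟨y, hy, h1⟩ := (hXmem _).mp m.2 x hx
    refine ⟨y, hy, Subtype.ext ?_⟩
    show (m : L) * ((θ ⟨x, _⟩ : X) : L) * ((m : L))⁻¹ = ((θ ⟨y, _⟩ : X) : L)
    rw [hθ, hθ]
    exact h1
  · -- automorphisms
    intro α hα
    have hfα : Mor F P (extFun (fun x : P => ((α x : P) : Ω))) :=
      (mem_autGroup_iff F hPS α).mp hα
    have hfαP : ∀ x ∈ P, extFun (fun x : P => ((α x : P) : Ω)) x ∈ P := fun x hx => by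
      rw [extFun_mem _ hx]; exact (α ⟨x, hx⟩).2
    have himg : img P (extFun (fun x : P => ((α x : P) : Ω))) = P := hfα.img_eq_self hfαP
    obtain ⟨f', hf'0, hf'P⟩ := receptive_extend_cent hrec hfα himg
    have hf' : Mor F R₁ f' := by rw [hR₁def]; exact hf'0
    have hf'PP : ∀ x ∈ P, f' x ∈ P := fun x hx => by rw [hf'P x hx]; exact hfαP x hx
    have hf'surj : ∀ q ∈ P, ∃ q' ∈ P, f' q' = q := by
      intro q hq
      refine ⟨(α.symm ⟨q, hq⟩ : P), (α.symm ⟨q, hq⟩).2, ?_⟩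
      rw [hf'P _ (α.symm ⟨q, hq⟩).2, extFun_apply]
      simp
    have hf'C : ∀ c ∈ centralizerIn S P, f' c ∈ centralizerIn S P := by
      intro c hc
      obtain ⟨hcS, hcc⟩ := mem_centralizerIn.mp hc
      have hcR : c ∈ R₁ := by rw [hR₁def]; exact le_sup_right (α := Subgroup Ω) hc
      rw [mem_centralizerIn]
      refine ⟨hf'.mem_S hcR, fun q hq => ?_⟩
      obtain ⟨q', hq', rfl⟩ := hf'surj q hq
      rw [← hf'.map_mul (hPR₁ hq') hcR, ← hf'.map_mul hcR (hPR₁ hq'), hcc q' hq']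
    have hf'R : ∀ x ∈ R₁, f' x ∈ R₁ := by
      have h := Mor.forall_sup hf'0 R₁
        (fun x hx => hPR₁ (hf'PP x hx))
        (fun x hx => by rw [hR₁def]; exact le_sup_right (α := Subgroup Ω) (hf'C x hx))
      intro x hx
      exact h x (by rw [← hR₁def]; exact hx)
    obtain ⟨χ', hχ', -, hχ'1, hχ'2⟩ := hχR₁.exists_inv_img hχimg
    have hβ : Mor F Rst (fun y => χ (f' (χ' y))) :=
      (hχ'.comp hf' (fun y hy => (hχ'2 y hy).1)).comp hχR₁
        (fun y hy => hf'R _ (hχ'2 y hy).1)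
    have hβR : ∀ y ∈ Rst, χ (f' (χ' y)) ∈ Rst := fun y hy => by
      rw [← hχimg]; exact hχR₁.apply_mem_img (hf'R _ (hχ'2 y hy).1)
    have hβE : Mor E Rst (fun y => χ (f' (χ' y))) := by
      rw [Helper84.mor_normalizerSystem_iff F hRstS E hE]
      refine ⟨hβ, hRstN, fun x hx => hRstN (hβR x hx), fun y => χ (f' (χ' y)), ?_,
        fun _ _ => rfl, hβR⟩
      rw [sup_idem]
      exact hβ
    obtain ⟨φβ, hφβ, hφβf⟩ := hβE
    obtain ⟨g, hg⟩ := (hreal Rst hRstN φβ (E.le_of_mem hφβ).2).1 hφβ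
    have hgx : ∀ x ∈ P, g * tf ι (χ x) * g⁻¹ =
        tf ι (χ (extFun (fun x : P => ((α x : P) : Ω)) x)) := by
      intro x hx
      have h1 := hg ⟨χ x, hPstR x hx⟩
      have h2 : φβ ⟨χ x, hPstR x hx⟩ = χ (extFun (fun x : P => ((α x : P) : Ω)) x) := by
        rw [hφβf]
        show χ (f' (χ' (χ x))) = _
        rw [hχ'1 x (hPR₁ hx), hf'P x hx]
      rw [tf_mem ι (hχTN x (hPT hx)), tf_mem ι (hχTN _ (hPT (hfαP x hx))), ← h1]
      congr 1
      exact Subtype.ext h2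
    have hgX : g ∈ X := by
      rw [hXmem]
      intro x hx
      exact ⟨_, hfαP x hx, hgx x hx⟩
    refine ⟨⟨g, hgX⟩, fun x => Subtype.ext ?_⟩
    show ((θ ⟨_, _⟩ : X) : L) = g * ((θ ⟨_, _⟩ : X) : L) * g⁻¹
    rw [hθ, hθ, hgx x x.2, extFun_apply]
  · -- fusion
    intro m U hU hmU
    have hχU : Mor F U χ := hχT.res hU
    have hU'N : img U χ ≤ normalizerIn S Rst := by
      intro y hy
      obtain ⟨u, hu, rfl⟩ := hχU.mem_img.mp hy
      exact hχTN u (hU hu)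
    have hmt : ∀ u ∈ U, ∃ t ∈ normalizerIn S P,
        (m : L) * tf ι (χ u) * (m : L)⁻¹ = tf ι (χ t) := by
      intro u hu
      obtain ⟨t, ht⟩ := hmU ⟨u, hu⟩
      refine ⟨t, t.2, ?_⟩
      have h1 : ((θ t : X) : L) = (m : L) * ((θ ⟨u, hU hu⟩ : X) : L) * (m : L)⁻¹ := by
        rw [ht]; rfl
      rw [← hθ t, h1, hθ]
    have hg : ∀ x : ↥(img U χ), (m : L) * ι ⟨x, hU'N x.2⟩ * (m : L)⁻¹ ∈ ι.range := by
      intro x
      obtain ⟨u, hu, hux⟩ := hχU.mem_img.mp x.2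
      obtain ⟨t, ht, h1⟩ := hmt u hu
      refine ⟨⟨χ t, hχTN t ht⟩, ?_⟩
      rw [← tf_mem ι (hχTN t ht), ← h1, tf_mem ι (hχTN u (hU hu))]
      congr 3
      exact Subtype.ext hux
    obtain ⟨ψ, hψN, hψ⟩ := Helper85.exists_lift_conj hinj hU'N (m : L) hg
    have hψE : ψ ∈ E.Hom (img U χ) := (hreal _ hU'N ψ hψN).2 ⟨(m : L), hψ⟩
    have hψF : Mor F (img U χ) (extFun ψ) := hEF _ _ (mor_of_hom E hψE)
    obtain ⟨χ'', hχ'', -, hχ''1, hχ''2⟩ := hχT.exists_inv_img rfl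
    have hψχ : ∀ u ∈ U, ∃ t ∈ normalizerIn S P, extFun ψ (χ u) = χ t ∧
        (m : L) * tf ι (χ u) * (m : L)⁻¹ = tf ι (χ t) := by
      intro u hu
      obtain ⟨t, ht, h1⟩ := hmt u hu
      refine ⟨t, ht, ?_, h1⟩
      have hxu : χ u ∈ img U χ := hχU.apply_mem_img hu
      rw [extFun_mem ψ hxu]
      have h2 := hψ ⟨χ u, hxu⟩
      apply htfinj _ _ (hψN _) (hχTN t ht)
      rw [← h1, tf_mem ι (hψN _), h2, tf_mem ι (hχTN u (hU hu))]
    refine ⟨fun u => χ'' (extFun ψ (χ u)), ?_, ?_⟩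
    · exact (hχU.comp hψF (fun u hu => hχU.apply_mem_img hu)).comp hχ'' (fun u hu => by
        obtain ⟨t, ht, h1, -⟩ := hψχ u hu
        show extFun ψ (χ u) ∈ img (normalizerIn S P) χ
        rw [h1]; exact hχT.apply_mem_img ht)
    · intro u hu
      obtain ⟨t, ht, h1, h2⟩ := hψχ u hu
      have hfu : χ'' (extFun ψ (χ u)) = t := by rw [h1]; exact hχ''1 t ht
      refine ⟨by show χ'' (extFun ψ (χ u)) ∈ _; rw [hfu]; exact ht, Subtype.ext ?_⟩
      show ((θ ⟨_, _⟩ : X) : L) = (m : L) * ((θ ⟨u, _⟩ : X) : L) * (m : L)⁻¹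
      rw [hθ, hθ, h2]
      show tf ι (χ (χ'' (extFun ψ (χ u)))) = _
      rw [hfu]
  · intro hsf hinv
    exact hsf Rst hRstfn hRstc E hE L ι hm (Helper34.involves_of_subgroup X hinv)

end Cfsg.Agent.Lib.Helper88
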