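import Mathlib
import Cfsg.Agent.Lib.Helper88.LocalGroup
import Cfsg.Agent.Lib.Helper88.CharPNil
import Cfsg.Agent.Lib.Helper88.FusPAut
import Cfsg.Agent.Lib.Helper84.FusionIso
import Cfsg.Agent.Lib.Helper87.ZJa
import Cfsg.Agent.Lib.Helper87.FusionBasic

set_option autoImplicit false

namespace Cfsg.Agent.Lib.Helper88

open Cfsg Cfsg.FusionSystem

universe u

/-- The normalizer of `T` normalizes the characteristic subgroups of `T`. -/
theorem normalizer_le_of_characteristic {X : Type*} [Group X] {Q T : Subgroup X} (hQT : Q ≤ T)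
    (hc : (Q.subgroupOf T).Characteristic) :
    Subgroup.normalizer (T : Set X) ≤ Subgroup.normalizer (Q : Set X) := by
  have key : ∀ g ∈ Subgroup.normalizer (T : Set X), ∀ q ∈ Q, g * q * g⁻¹ ∈ Q := by
    intro g hg q hq
    have h1 := Subgroup.characteristic_iff_le_comap.mp hc (Helper87.conjAut T g hg)
    have h2 : (⟨q, hQT hq⟩ : T) ∈ Q.subgroupOf T := Subgroup.mem_subgroupOf.mpr hq
    have h3 := h1 h2
    exact Subgroup.mem_subgroupOf.mp h3
  intro g hg
  rw [Subgroup.mem_normalizer_iff]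
  intro y
  constructor
  · exact key g hg y
  · intro hy
    have h1 := key g⁻¹ (Subgroup.inv_mem _ hg) _ hy
    have h2 : g⁻¹ * (g * y * g⁻¹) * g⁻¹⁻¹ = y := by group
    rw [h2] at h1
    exact h1

/-- **A strengthened Frobenius criterion for fusion systems.** -/
theorem char_inner {Ω : Type u} [Group Ω] {S : Subgroup Ω} [Finite S] (p : ℕ) [Fact p.Prime]
    (hS : IsPGroup p S) (F : FusionSystem S) (hF : F.IsSaturated p)
    (hp : p ≠ 2 ∨ F.IsSectionFree p (Equiv.Perm (Fin 4)))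
    (h : ∀ Q : Subgroup Ω, Q ≤ S → Q ≠ ⊥ → (Q.subgroupOf S).Characteristic →
      IsPGroup p (F.autGroup Q)) :
    ∀ P : Subgroup Ω, F.Hom P = (innerFusionSystem S).Hom P := by
  classical
  have hpp : p.Prime := Fact.out
  have hfinS' : ∀ K : Subgroup Ω, K ≤ S → Finite K := fun K hK =>
    Finite.of_injective _ (Subgroup.inclusion_injective hK)
  apply eq_inner_of_isPGroup hS F hF
  by_contra hcon
  push Not at hcon
  obtain ⟨Q₀, ⟨hQ₀S, hQ₀⟩, hQ₀max⟩ := Helper87.exists_max_nat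
    (fun Q : Subgroup Ω => Q ≤ S ∧ ¬ IsPGroup p (F.autGroup Q))
    (fun Q => Nat.card (normalizerIn S Q)) (Nat.card S)
    (fun Q _ => Subgroup.card_le_of_le inf_le_left) hcon
  obtain ⟨P₀, hconj, hfa, hrec⟩ := hF Q₀ hQ₀S
  obtain ⟨e, he⟩ := Helper84.exists_isFIso_of_isConj F hconj
  have hP₀S : P₀ ≤ S := hrec.1
  have hP₀T : P₀ ≤ normalizerIn S P₀ := Helper84.le_normalizerIn hP₀S
  have hP₀ : ¬ IsPGroup p (F.autGroup P₀) := by
    intro hpg
    apply hQ₀
    rw [Helper87.isPGroup_autGroup_iff] at hpg ⊢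
    intro α hα
    obtain ⟨k, hk⟩ := hpg _ (Helper84.congr_mem_autGroup F he hα)
    refine ⟨k, ?_⟩
    have h1 : MulAut.congr e (α ^ p ^ k) = 1 := by rw [map_pow]; exact hk
    exact (MulAut.congr e).injective (by rw [h1, map_one])
  have hfn : F.IsFullyNormalized P₀ := fn_of_fa_rec hS hfa hrec
  have hmax : ∀ Q : Subgroup Ω, Q ≤ S →
      Nat.card (normalizerIn S P₀) < Nat.card (normalizerIn S Q) → IsPGroup p (F.autGroup Q) := by
    intro Q hQS hlt
    by_contra hQ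
    have h1 := hQ₀max Q ⟨hQS, hQ⟩
    have h2 := hfn.2 Q₀ (Helper84.IsFIso.isConj F (Helper84.IsFIso.symm F he))
    omega
  have hTS : normalizerIn S P₀ ≤ S := inf_le_left
  have hfinT : Finite (normalizerIn S P₀) := hfinS' _ hTS
  have hchar : ∀ Q : Subgroup Ω, Q ≤ normalizerIn S P₀ → Q ≠ ⊥ →
      (Q.subgroupOf (normalizerIn S P₀)).Characteristic → IsPGroup p (F.autGroup Q) := by
    intro Q hQT hQ1 hQc
    by_cases hTtop : normalizerIn S P₀ = S
    · rw [hTtop] at hQc hQT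
      exact h Q hQT hQ1 hQc
    · apply hmax Q (hQT.trans hTS)
      have hlt : normalizerIn S P₀ < S := lt_of_le_of_ne hTS hTtop
      have h4 := normalizer_grow hS le_rfl hlt
      have h5 : S ⊓ Subgroup.normalizer ((normalizerIn S P₀ : Subgroup Ω) : Set Ω) ≤
          normalizerIn S Q := inf_le_inf_left S (normalizer_le_of_characteristic hQT hQc)
      have h6 : normalizerIn S P₀ < normalizerIn S Q := lt_of_lt_of_le h4 h5
      have hfinNQ : Finite (normalizerIn S Q) := hfinS' _ inf_le_left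
      by_contra hle
      exact (ne_of_lt h6) (Subgroup.eq_of_le_of_card_ge h6.le (not_lt.mp hle))
  obtain ⟨X, hXg, hXf, θ, hθinj, hidx, hnormal, haut, hfus, hsf⟩ :=
    local_group p hS F hF hfa hrec (Equiv.Perm (Fin 4))
  have hTp : IsPGroup p ↥(normalizerIn S P₀) := hS.to_le hTS
  have hθp : IsPGroup p θ.range :=
    hTp.of_surjective θ.rangeRestrict θ.rangeRestrict_surjective
  have hpow : PowHyp p θ.range := by
    intro QX hQXT hQX1 hQXc g hg
    obtain ⟨Q, hQdef⟩ : ∃ Q : Subgroup Ω,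
        Q = (QX.comap θ).map (normalizerIn S P₀).subtype := ⟨_, rfl⟩
    have hQT : Q ≤ normalizerIn S P₀ := by rw [hQdef]; exact Subgroup.map_subtype_le _
    have hQmem : ∀ (u : Ω) (hu : u ∈ normalizerIn S P₀), u ∈ Q ↔ θ ⟨u, hu⟩ ∈ QX := by
      intro u hu
      rw [hQdef]
      constructor
      · rintro ⟨t, ht, htu⟩
        have h1 : t = ⟨u, hu⟩ := Subtype.ext htu
        rw [← h1]
        exact ht
      · intro h1
        exact ⟨⟨u, hu⟩, h1, rfl⟩
    have hQ1 : Q ≠ ⊥ := by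
      intro hbot
      apply hQX1
      rw [eq_bot_iff]
      intro y hy
      obtain ⟨t, rfl⟩ := hQXT hy
      have h1 : (t : Ω) ∈ Q := (hQmem t t.2).mpr hy
      rw [hbot, Subgroup.mem_bot] at h1
      have ht1 : t = 1 := Subtype.ext h1
      rw [ht1, map_one]
      exact Subgroup.mem_bot.mpr rfl
    have hQc : (Q.subgroupOf (normalizerIn S P₀)).Characteristic := by
      have hker : θ.ker.Characteristic := by
        rw [(MonoidHom.ker_eq_bot_iff θ).mpr hθinj]
        exact Subgroup.botCharacteristic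
      have h1 := comap_characteristic θ hker θ.range rfl QX hQXc
      have h2 : QX.comap θ = Q.subgroupOf (normalizerIn S P₀) := by
        rw [hQdef]
        exact (Subgroup.comap_map_eq_self_of_injective (Subgroup.subtype_injective _) _).symm
      rw [← h2]
      exact h1
    have hpg := hchar Q hQT hQ1 hQc
    have hgQ : ∀ u ∈ Q, ∀ hu : u ∈ normalizerIn S P₀, g * θ ⟨u, hu⟩ * g⁻¹ ∈ QX := by
      intro u hu hu'
      exact (Subgroup.mem_normalizer_iff.mp hg _).mp ((hQmem u hu').mp hu)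
    obtain ⟨f, hf, hfθ⟩ := hfus g Q hQT (fun u => hQXT (hgQ u u.2 (hQT u.2)))
    have hfQ : ∀ u ∈ Q, f u ∈ Q := by
      intro u hu
      obtain ⟨hfu, h1⟩ := hfθ u hu
      rw [hQmem _ hfu, h1]
      exact hgQ u hu (hQT hu)
    obtain ⟨α, hα, hαf⟩ := hf.exists_aut hfQ
    obtain ⟨k, hk⟩ := (Helper87.isPGroup_autGroup_iff F Q).mp hpg α hα
    refine ⟨k, ?_⟩
    have hpowers : ∀ n : ℕ, ∀ u : Q, θ ⟨(((α ^ n) u : Q) : Ω), hQT ((α ^ n) u).2⟩ =
        g ^ n * θ ⟨u, hQT u.2⟩ * (g ^ n)⁻¹ := by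
      intro n
      induction n with
      | zero =>
        intro u
        simp
      | succ n ih =>
        intro u
        rw [pow_succ', MulAut.mul_apply]
        obtain ⟨hfu, h1⟩ := hfθ ((α ^ n) u) ((α ^ n) u).2
        have h2 : θ ⟨((α ((α ^ n) u) : Q) : Ω), hQT (α ((α ^ n) u)).2⟩ =
            θ ⟨f ((α ^ n) u), hfu⟩ := by
          congr 1
          exact Subtype.ext (hαf _)
        rw [h2, h1, ih u, pow_succ']
        group
    rw [Subgroup.mem_centralizer_iff]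
    intro y hy
    obtain ⟨t, rfl⟩ := hQXT hy
    have htQ : (t : Ω) ∈ Q := (hQmem t t.2).mpr hy
    have h3 := hpowers (p ^ k) ⟨t, htQ⟩
    rw [hk] at h3
    have h4 : θ t = g ^ p ^ k * θ t * (g ^ p ^ k)⁻¹ := h3
    calc θ t * g ^ p ^ k = (g ^ p ^ k * θ t * (g ^ p ^ k)⁻¹) * g ^ p ^ k := by rw [← h4]
      _ = g ^ p ^ k * θ t := by group
  have hcase' : p ≠ 2 ∨ ¬ Involves (Equiv.Perm (Fin 4)) X := by
    rcases hp with h1 | h1
    · exact Or.inl h1
    · exact Or.inr (hsf h1)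
  have hnpc := char_pnilpotent p (Nat.card X) X rfl hcase' (hθp.toSylow hidx) hpow
  have hfrob := (Helper54.hasNormalPComplement_iff_frobeniusCondition).mp hnpc
  obtain ⟨QX, hQXdef⟩ : ∃ QX : Subgroup X,
      QX = (P₀.subgroupOf (normalizerIn S P₀)).map θ := ⟨_, rfl⟩
  have hQXmem : ∀ y : X, y ∈ QX ↔ ∃ (x' : Ω) (hx' : x' ∈ P₀), θ ⟨x', hP₀T hx'⟩ = y := by
    intro y
    rw [hQXdef, Subgroup.mem_map]
    constructor
    · rintro ⟨t, ht, rfl⟩
      exact ⟨t, Subgroup.mem_subgroupOf.mp ht, rfl⟩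
    · rintro ⟨x', hx', rfl⟩
      exact ⟨⟨x', hP₀T hx'⟩, Subgroup.mem_subgroupOf.mpr hx', rfl⟩
  have hQXn : QX.Normal := by
    constructor
    intro n hn g
    obtain ⟨x', hx', rfl⟩ := (hQXmem n).mp hn
    obtain ⟨y, hy, h1⟩ := hnormal g x' hx'
    rw [h1]
    exact (hQXmem _).mpr ⟨y, hy, rfl⟩
  have hQXp : IsPGroup p QX := by
    rw [hQXdef]
    exact (hTp.to_subgroup _).map θ
  apply hP₀
  apply isPGroup_autGroup_of_coprime_trivial F hP₀S
  intro b hb m hm hbm
  obtain ⟨mX, hmX⟩ := haut b hb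
  have hpowers : ∀ n : ℕ, ∀ x : P₀, θ ⟨(((b ^ n) x : P₀) : Ω), hP₀T ((b ^ n) x).2⟩ =
      mX ^ n * θ ⟨x, hP₀T x.2⟩ * (mX ^ n)⁻¹ := by
    intro n
    induction n with
    | zero =>
      intro x
      simp
    | succ n ih =>
      intro x
      rw [pow_succ', MulAut.mul_apply, hmX ((b ^ n) x), ih x, pow_succ']
      group
  obtain ⟨j, r, hr, hjr⟩ :=
    Nat.exists_eq_pow_mul_and_not_dvd (orderOf_pos mX).ne' p hpp.ne_one
  have hg : (orderOf (mX ^ p ^ j)).Coprime p := by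
    have h1 : orderOf (mX ^ p ^ j) ∣ r := by
      apply orderOf_dvd_of_pow_eq_one
      rw [← pow_mul, ← hjr, pow_orderOf_eq_one]
    exact Nat.Coprime.coprime_dvd_left h1 ((Nat.Prime.coprime_iff_not_dvd hpp).mpr hr).symm
  have hcent := hfrob QX hQXp (mX ^ p ^ j)
    (by rw [Subgroup.normalizer_eq_top]; exact Subgroup.mem_top _) hg
  have hbj : b ^ p ^ j = 1 := by
    ext x
    have h1 := hpowers (p ^ j) x
    have h2 := Subgroup.mem_centralizer_iff.mp hcent (θ ⟨x, hP₀T x.2⟩)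
      ((hQXmem _).mpr ⟨x, x.2, rfl⟩)
    have h3 : θ ⟨(((b ^ p ^ j) x : P₀) : Ω), hP₀T ((b ^ p ^ j) x).2⟩ = θ ⟨x, hP₀T x.2⟩ := by
      rw [h1, ← h2]
      group
    have h5 := congrArg Subtype.val (hθinj h3)
    exact h5
  have hcop : Nat.Coprime m (p ^ j) := Nat.Coprime.pow_right j hm
  have h9 := orderOf_dvd_of_pow_eq_one hbm
  have h10 := orderOf_dvd_of_pow_eq_one hbj
  exact orderOf_eq_one_iff.mp (Nat.eq_one_of_dvd_coprimes hcop h9 h10)

end Cfsg.Agent.Lib.Helper88
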