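import Mathlib
import Cfsg.Agent.Lib.Helper88.FusAlp
import Cfsg.Agent.Lib.Helper87.FusionNormal

set_option autoImplicit false

namespace Cfsg.Agent.Lib.Helper88

open Cfsg Cfsg.FusionSystem

variable {Ω : Type*} [Group Ω] {S : Subgroup Ω}

/-- The automorphisms of `R` in the system that act trivially modulo `Q` and act on `R ⊓ Q` as
conjugation by an element of `Q`. -/
def wSub (F : FusionSystem S) (R Q : Subgroup Ω) : Subgroup (MulAut R) where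
  carrier := {β | β ∈ F.autGroup R ∧ (∀ x : R, (x : Ω)⁻¹ * ((β x : R) : Ω) ∈ Q) ∧
     ∃ q ∈ Q, ∀ x : R, (x : Ω) ∈ Q → ((β x : R) : Ω) = q * x * q⁻¹}
  one_mem' := ⟨one_mem _, fun x => by simp, 1, Q.one_mem, fun x _ => by simp⟩
  mul_mem' := by
    rintro β₁ β₂ ⟨h1, h2, q₁, hq₁, h3⟩ ⟨h1', h2', q₂, hq₂, h3'⟩
    refine ⟨mul_mem h1 h1', fun x => ?_, q₁ * q₂, Q.mul_mem hq₁ hq₂, fun x hx => ?_⟩
    · have e : (x : Ω)⁻¹ * (((β₁ * β₂) x : R) : Ω) =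
          ((x : Ω)⁻¹ * ((β₂ x : R) : Ω)) * (((β₂ x : R) : Ω)⁻¹ * ((β₁ (β₂ x) : R) : Ω)) := by
        rw [MulAut.mul_apply]; group
      rw [e]; exact Q.mul_mem (h2' x) (h2 (β₂ x))
    · have hx2 : ((β₂ x : R) : Ω) ∈ Q := by
        rw [h3' x hx]; exact Q.mul_mem (Q.mul_mem hq₂ hx) (Q.inv_mem hq₂)
      rw [MulAut.mul_apply, h3 (β₂ x) hx2, h3' x hx]; group
  inv_mem' := by
    rintro β ⟨h1, h2, q, hq, h3⟩
    have key : ∀ x : R, (x : Ω)⁻¹ * ((β⁻¹ x : R) : Ω) ∈ Q := by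
      intro x
      have h4 := h2 (β⁻¹ x)
      have h5 : β (β⁻¹ x) = x := by simp
      rw [h5] at h4
      have e : (x : Ω)⁻¹ * ((β⁻¹ x : R) : Ω) = (((β⁻¹ x : R) : Ω)⁻¹ * (x : Ω))⁻¹ := by group
      rw [e]; exact Q.inv_mem h4
    refine ⟨inv_mem h1, key, q⁻¹, Q.inv_mem hq, fun x hx => ?_⟩
    have hy : ((β⁻¹ x : R) : Ω) ∈ Q := by
      have h6 := Q.mul_mem hx (key x)
      have e : (x : Ω) * ((x : Ω)⁻¹ * ((β⁻¹ x : R) : Ω)) = ((β⁻¹ x : R) : Ω) := by group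
      rw [e] at h6; exact h6
    have h4 := h3 (β⁻¹ x) hy
    have h5 : β (β⁻¹ x) = x := by simp
    rw [h5] at h4
    rw [h4]; group

theorem mem_wSub (F : FusionSystem S) (R Q : Subgroup Ω) (β : MulAut R) :
    β ∈ wSub F R Q ↔ β ∈ F.autGroup R ∧ (∀ x : R, (x : Ω)⁻¹ * ((β x : R) : Ω) ∈ Q) ∧
     ∃ q ∈ Q, ∀ x : R, (x : Ω) ∈ Q → ((β x : R) : Ω) = q * x * q⁻¹ := Iff.rfl

theorem wSub_pow_apply (R Q : Subgroup Ω) {β : MulAut R} {q : Ω}
    (hq : q ∈ Q) (h3 : ∀ x : R, (x : Ω) ∈ Q → ((β x : R) : Ω) = q * x * q⁻¹) (m : ℕ) :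
    ∀ x : R, (x : Ω) ∈ Q → (((β ^ m) x : R) : Ω) = q ^ m * x * (q ^ m)⁻¹ := by
  induction m with
  | zero => intro x _; simp
  | succ m ih =>
    intro x hx
    have hx2 : ((β x : R) : Ω) ∈ Q := by
      rw [h3 x hx]; exact Q.mul_mem (Q.mul_mem hq hx) (Q.inv_mem hq)
    rw [pow_succ, MulAut.mul_apply, ih (β x) hx2, h3 x hx, pow_succ]
    group

theorem wSub_isPGroup [Finite S] {p : ℕ} [Fact p.Prime] (hS : IsPGroup p S)
    (F : FusionSystem S) {R Q : Subgroup Ω} (hR : R ≤ S) (hQ : Q ≤ S) :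
    IsPGroup p (wSub F R Q) := by
  obtain ⟨s, hs⟩ := hS.exists_card_eq
  have hexpS : ∀ x ∈ S, x ^ p ^ s = 1 := by
    intro x hx
    have h1 : (⟨x, hx⟩ : S) ^ p ^ s = 1 := by
      rw [← hs]
      exact pow_card_eq_one'
    exact congrArg Subtype.val h1
  rintro ⟨β, hβ⟩
  obtain ⟨-, -, q, hq, h3⟩ := id hβ
  -- `γ = β ^ p ^ s` fixes `R ⊓ Q` pointwise
  have hγ : ∀ x : R, (x : Ω) ∈ Q → (β ^ p ^ s) x = x := by
    intro x hx
    apply Subtype.ext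
    rw [wSub_pow_apply R Q hq h3 (p ^ s) x hx, hexpS q (hQ hq)]
    simp
  obtain ⟨-, hγ2, -⟩ := (pow_mem hβ (p ^ s) : β ^ p ^ s ∈ wSub F R Q)
  have hfinal : (β ^ p ^ s) ^ p ^ s = 1 := by
    apply MulEquiv.ext
    intro x
    have hd : (((x⁻¹ * (β ^ p ^ s) x : R) : R) : Ω) ∈ Q := hγ2 x
    have hx : (β ^ p ^ s) x = x * (x⁻¹ * (β ^ p ^ s) x) := by group
    have h4 := Helper87.aut_pow_apply_of_fix (β ^ p ^ s) x (x⁻¹ * (β ^ p ^ s) x) hx
      (hγ _ hd) (p ^ s)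
    rw [h4]
    have hdp : (x⁻¹ * (β ^ p ^ s) x) ^ p ^ s = 1 := by
      apply Subtype.ext
      have h5 := hexpS _ (hR (x⁻¹ * (β ^ p ^ s) x).2)
      simpa using h5
    rw [hdp, mul_one]; rfl
  refine ⟨2 * s, ?_⟩
  apply Subtype.ext
  show β ^ p ^ (2 * s) = 1
  have e : p ^ (2 * s) = p ^ s * p ^ s := by rw [two_mul, pow_add]
  rw [e, pow_mul]; exact hfinal

/-- A strongly closed subgroup `Q` such that every map of the system defined on a subgroup of `Q`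
extends to a map defined on `Q` is normal in the (saturated) system. -/
theorem normal_of_extend [Finite S] {p : ℕ} [Fact p.Prime] (hS : IsPGroup p S)
    (F : FusionSystem S) (hF : F.IsSaturated p) {Q : Subgroup Ω} (hQ : F.StronglyClosed Q)
    (hext : ∀ (U : Subgroup Ω) (f : Ω → Ω), U ≤ Q → Mor F U f →
      ∃ f', Mor F Q f' ∧ ∀ x ∈ U, f' x = f x) : F.IsNormal Q := by
  have hQS : Q ≤ S := hQ.1
  have hQn : S ≤ Subgroup.normalizer (Q : Set Ω) := Helper87.stronglyClosed_le_normalizer F hQ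
  have claim : ∀ R : Subgroup Ω, F.IsCentric R → F.IsRadical p R → Q ≤ R := by
    intro R hc hr
    have hR : R ≤ S := hc.1
    by_contra hnot
    obtain ⟨g, hgQ, hgN, hgR⟩ := Helper87.exists_mem_normalizer_not_mem hS hQS hQn hR hnot
    have hgS : g ∈ S := hQS hgQ
    have hBn : ∀ α ∈ F.autGroup R, ∀ β ∈ wSub F R Q, α * β * α⁻¹ ∈ wSub F R Q := by
      rintro α hα β ⟨hβ1, hβ2, q, hq, hβ3⟩
      have hαi : α⁻¹ ∈ F.autGroup R := inv_mem hα
      have hmα : Mor F R (extFun (fun x : R => ((α x : R) : Ω))) :=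
        (mem_autGroup_iff F hR α).mp hα
      obtain ⟨γ, hγ, hγα⟩ := hext (R ⊓ Q) _ inf_le_right (hmα.res inf_le_left)
      have hγQ : ∀ x ∈ Q, γ x ∈ Q := by
        intro x hx
        obtain ⟨φ, hφ, hφγ⟩ := hγ
        rw [← hφγ ⟨x, hx⟩]
        exact hQ.2 Q le_rfl φ hφ ⟨x, hx⟩
      refine ⟨mul_mem (mul_mem hα hβ1) hαi, fun x => ?_, γ q, hγQ q hq, fun x hx => ?_⟩
      · have e : (x : Ω)⁻¹ * (((α * β * α⁻¹) x : R) : Ω) =
            ((α ((α⁻¹ x)⁻¹ * β (α⁻¹ x)) : R) : Ω) := by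
          simp [MulAut.mul_apply]
        rw [e]
        exact Helper87.stronglyClosed_aut_mem F hQ hR hα _ (hβ2 (α⁻¹ x))
      · have hy : ((α⁻¹ x : R) : Ω) ∈ Q := Helper87.stronglyClosed_aut_mem F hQ hR hαi x hx
        have hβy := hβ3 (α⁻¹ x) hy
        have hβyQ : ((β (α⁻¹ x) : R) : Ω) ∈ Q := by
          rw [hβy]; exact Q.mul_mem (Q.mul_mem hq hy) (Q.inv_mem hq)
        have hαγ : ∀ z : R, (z : Ω) ∈ Q → ((α z : R) : Ω) = γ z := by
          intro z hz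
          have h7 := hγα z ⟨z.2, hz⟩
          rw [h7, extFun_apply]
        show (((α * β * α⁻¹) x : R) : Ω) = γ q * x * (γ q)⁻¹
        rw [MulAut.mul_apply, MulAut.mul_apply, hαγ _ hβyQ, hβy,
          hγ.map_mul (Q.mul_mem hq hy) (Q.inv_mem hq), hγ.map_mul hq hy, hγ.map_inv hq,
          ← hαγ _ hy]
        simp
    have hgB : Helper87.conjAut R g hgN ∈ wSub F R Q := by
      refine ⟨Helper87.autInducedBy_le_autGroup F hR
        (Helper87.conjAut_mem_autInducedBy S R hgS hgN), fun x => ?_, g, hgQ, fun x _ => rfl⟩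
      rw [Helper87.conjAut_apply]
      have h1 := Helper87.stronglyClosed_conj_mem F hQ (S.inv_mem (hR x.2)) hgQ
      have e : (x : Ω)⁻¹ * (g * (x : Ω) * g⁻¹) = (x : Ω)⁻¹ * g * (x : Ω)⁻¹⁻¹ * g⁻¹ := by group
      rw [e]; exact Q.mul_mem h1 (Q.inv_mem hgQ)
    exact hgR (Helper87.mem_of_conjAut_mem_normal_pSubgroup F hc hr (wSub F R Q)
      (fun β hβ => hβ.1) hBn (wSub_isPGroup hS F hR hQS) hgS hgN hgB)
  refine Helper87.isNormal_of_le_normSystem F hQS hQn ?_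
  refine Helper87.alperin hS F hF _ ?_
  intro R hfa hrec hc hr _ α hα
  have hR : R ≤ S := hrec.1
  exact Helper87.isIso_normSystem_of_le F hQS hQn hR (claim R hc hr) hα
    (fun x hx => Helper87.stronglyClosed_aut_mem F hQ hR hα x hx)
    (fun x hx => Helper87.stronglyClosed_aut_mem F hQ hR ((F.autGroup R).inv_mem hα) x hx)

end Cfsg.Agent.Lib.Helper88
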