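import Mathlib
import Cfsg.Agent.Lib.Helper88.FusW

set_option autoImplicit false

namespace Cfsg.Agent.Lib.Helper88

open Cfsg Cfsg.FusionSystem

variable {Ω : Type*} [Group Ω]

theorem inner_mor {Q P : Subgroup Ω} {f : Ω → Ω} (h : Mor (innerFusionSystem Q) P f) :
    ∃ g ∈ Q, ∀ x ∈ P, f x = g * x * g⁻¹ := by
  obtain ⟨φ, ⟨-, g, hg, hφ⟩, hφf⟩ := h
  exact ⟨g, hg, fun x hx => by rw [← hφf ⟨x, hx⟩, hφ ⟨x, hx⟩]⟩

theorem inner_conj_mem {Q P : Subgroup Ω} (hP : P ≤ Q) {g : Ω} (hg : g ∈ Q) :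
    conjHom P g ∈ (innerFusionSystem Q).Hom P := ⟨hP, g, hg, fun _ => rfl⟩

/-- The inner fusion system of a `p`-group is saturated: every subgroup is fully automized and
receptive. -/
theorem inner_fa_rec {p : ℕ} [Fact p.Prime] {Q : Subgroup Ω} (hQ : IsPGroup p Q)
    {P : Subgroup Ω} (hP : P ≤ Q) :
    (innerFusionSystem Q).IsFullyAutomized p P ∧ (innerFusionSystem Q).IsReceptive P := by
  constructor
  · refine ⟨hP, ?_⟩
    have hle : (innerFusionSystem Q).autGroup P ≤ autInducedBy Q P := by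
      intro α hα
      obtain ⟨g, hg, hgα⟩ := inner_mor ((mem_autGroup_iff _ hP α).mp hα)
      rw [mem_autInducedBy_iff]
      refine ⟨g, hg, fun x => ?_⟩
      rw [← hgα x x.2, extFun_apply]
    have hpg : IsPGroup p ((innerFusionSystem Q).autGroup P) :=
      (Helper87.isPGroup_autInducedBy hQ P).to_le hle
    obtain ⟨R, hR⟩ := (hpg.to_subgroup ⊤).exists_le_sylow
    refine ⟨R, ?_⟩
    rw [top_le_iff.mp hR]
    symm
    rw [eq_top_iff]
    intro α _
    exact Subgroup.mem_subgroupOf.mpr (hle α.2)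
  · refine ⟨hP, ?_⟩
    rintro P' φ ⟨hP', g, hg, hφ⟩ -
    have hle : extender Q P' φ ≤ Q := by
      unfold extender
      rw [Subgroup.closure_le]
      rintro x ⟨hx, -⟩
      exact hx
    refine ⟨conjHom (extender Q P' φ) g, inner_conj_mem hle hg, ?_⟩
    intro x hxP hxN
    rw [hφ]
    rfl

theorem inner_saturated {p : ℕ} [Fact p.Prime] {Q : Subgroup Ω} (hQ : IsPGroup p Q) :
    (innerFusionSystem Q).IsSaturated p := by
  intro P hP
  exact ⟨P, isConj_self _ hP, (inner_fa_rec hQ hP).1, (inner_fa_rec hQ hP).2⟩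

end Cfsg.Agent.Lib.Helper88
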