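import Mathlib
import Cfsg.Prelude.Def_FusionSystem
import Cfsg.Agent.Lib.Helper88.FusBasic
import Cfsg.Agent.Lib.Helper88.FusSat

set_option autoImplicit false

namespace Cfsg.Agent.Lib.Helper88

open Cfsg Cfsg.FusionSystem

universe u

variable {Ω : Type u} [Group Ω] {S : Subgroup Ω}

/-- The first projection of a subgroup of `S × S`, as a subgroup of the ambient group. -/
def pr1 (D : Subgroup (S × S)) : Subgroup Ω := (D.map (MonoidHom.fst S S)).map S.subtype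

/-- The second projection of a subgroup of `S × S`, as a subgroup of the ambient group. -/
def pr2 (D : Subgroup (S × S)) : Subgroup Ω := (D.map (MonoidHom.snd S S)).map S.subtype

theorem mem_pr1 {D : Subgroup (S × S)} {x : Ω} : x ∈ pr1 D ↔ ∃ g ∈ D, (g.1 : Ω) = x := by
  unfold pr1
  constructor
  · rintro ⟨a, ⟨g, hg, rfl⟩, rfl⟩; exact ⟨g, hg, rfl⟩
  · rintro ⟨g, hg, rfl⟩; exact ⟨g.1, ⟨g, hg, rfl⟩, rfl⟩

theorem mem_pr2 {D : Subgroup (S × S)} {x : Ω} : x ∈ pr2 D ↔ ∃ g ∈ D, (g.2 : Ω) = x := by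
  unfold pr2
  constructor
  · rintro ⟨a, ⟨g, hg, rfl⟩, rfl⟩; exact ⟨g, hg, rfl⟩
  · rintro ⟨g, hg, rfl⟩; exact ⟨g.2, ⟨g, hg, rfl⟩, rfl⟩

theorem fst_mem_pr1 {D : Subgroup (S × S)} {g : S × S} (hg : g ∈ D) : (g.1 : Ω) ∈ pr1 D :=
  mem_pr1.2 ⟨g, hg, rfl⟩

theorem snd_mem_pr2 {D : Subgroup (S × S)} {g : S × S} (hg : g ∈ D) : (g.2 : Ω) ∈ pr2 D :=
  mem_pr2.2 ⟨g, hg, rfl⟩

theorem pr1_le (D : Subgroup (S × S)) : pr1 D ≤ S := by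
  intro x hx
  obtain ⟨g, -, rfl⟩ := mem_pr1.1 hx
  exact g.1.2

theorem pr2_le (D : Subgroup (S × S)) : pr2 D ≤ S := by
  intro x hx
  obtain ⟨g, -, rfl⟩ := mem_pr2.1 hx
  exact g.2.2

theorem pr1_mono {D D' : Subgroup (S × S)} (h : D ≤ D') : pr1 D ≤ pr1 D' := by
  intro x hx
  obtain ⟨g, hg, rfl⟩ := mem_pr1.1 hx
  exact fst_mem_pr1 (h hg)

theorem pr2_mono {D D' : Subgroup (S × S)} (h : D ≤ D') : pr2 D ≤ pr2 D' := by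
  intro x hx
  obtain ⟨g, hg, rfl⟩ := mem_pr2.1 hx
  exact snd_mem_pr2 (h hg)

/-- Two subgroups of `S × S` are conjugate under a pair of maps of the system. -/
def FFConj (F : FusionSystem S) (D D' : Subgroup (S × S)) : Prop :=
  ∃ f₁ f₂ : Ω → Ω, Mor F (pr1 D) f₁ ∧ Mor F (pr2 D) f₂ ∧
    ∀ g' : S × S, g' ∈ D' ↔ ∃ g ∈ D, f₁ (g.1 : Ω) = (g'.1 : Ω) ∧ f₂ (g.2 : Ω) = (g'.2 : Ω)

theorem pr1_of_ff {F : FusionSystem S} {D D' : Subgroup (S × S)} {f₁ f₂ : Ω → Ω}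
    (h1 : Mor F (pr1 D) f₁) (h2 : Mor F (pr2 D) f₂)
    (h : ∀ g' : S × S, g' ∈ D' ↔ ∃ g ∈ D, f₁ (g.1 : Ω) = (g'.1 : Ω) ∧ f₂ (g.2 : Ω) = (g'.2 : Ω)) :
    pr1 D' = img (pr1 D) f₁ := by
  ext x
  rw [mem_pr1, h1.mem_img]
  constructor
  · rintro ⟨g', hg', rfl⟩
    obtain ⟨g, hg, e1, -⟩ := (h g').1 hg'
    exact ⟨g.1, fst_mem_pr1 hg, e1⟩
  · rintro ⟨a, ha, rfl⟩
    obtain ⟨g, hg, rfl⟩ := mem_pr1.1 ha
    refine ⟨(⟨f₁ g.1, h1.mem_S (fst_mem_pr1 hg)⟩, ⟨f₂ g.2, h2.mem_S (snd_mem_pr2 hg)⟩), ?_, rfl⟩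
    exact (h _).2 ⟨g, hg, rfl, rfl⟩

theorem pr2_of_ff {F : FusionSystem S} {D D' : Subgroup (S × S)} {f₁ f₂ : Ω → Ω}
    (h1 : Mor F (pr1 D) f₁) (h2 : Mor F (pr2 D) f₂)
    (h : ∀ g' : S × S, g' ∈ D' ↔ ∃ g ∈ D, f₁ (g.1 : Ω) = (g'.1 : Ω) ∧ f₂ (g.2 : Ω) = (g'.2 : Ω)) :
    pr2 D' = img (pr2 D) f₂ := by
  ext x
  rw [mem_pr2, h2.mem_img]
  constructor
  · rintro ⟨g', hg', rfl⟩
    obtain ⟨g, hg, -, e2⟩ := (h g').1 hg'
    exact ⟨g.2, snd_mem_pr2 hg, e2⟩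
  · rintro ⟨a, ha, rfl⟩
    obtain ⟨g, hg, rfl⟩ := mem_pr2.1 ha
    refine ⟨(⟨f₁ g.1, h1.mem_S (fst_mem_pr1 hg)⟩, ⟨f₂ g.2, h2.mem_S (snd_mem_pr2 hg)⟩), ?_, rfl⟩
    exact (h _).2 ⟨g, hg, rfl, rfl⟩

theorem FFConj.refl (F : FusionSystem S) (D : Subgroup (S × S)) : FFConj F D D := by
  refine ⟨fun x => x, fun x => x, mor_id F (pr1_le D), mor_id F (pr2_le D), fun g' => ?_⟩
  constructor
  · intro h; exact ⟨g', h, rfl, rfl⟩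
  · rintro ⟨g, hg, h1, h2⟩
    have : g = g' := Prod.ext (Subtype.ext h1) (Subtype.ext h2)
    rw [← this]; exact hg

theorem FFConj.symm {F : FusionSystem S} {D D' : Subgroup (S × S)} (h : FFConj F D D') :
    FFConj F D' D := by
  obtain ⟨f₁, f₂, h1, h2, hD⟩ := h
  obtain ⟨g₁, hg₁, hg₁f⟩ := h1.exists_inv
  obtain ⟨g₂, hg₂, hg₂f⟩ := h2.exists_inv
  rw [← pr1_of_ff h1 h2 hD] at hg₁
  rw [← pr2_of_ff h1 h2 hD] at hg₂
  refine ⟨g₁, g₂, hg₁, hg₂, fun g => ?_⟩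
  constructor
  · intro hg
    refine ⟨(⟨f₁ g.1, h1.mem_S (fst_mem_pr1 hg)⟩, ⟨f₂ g.2, h2.mem_S (snd_mem_pr2 hg)⟩), ?_, ?_, ?_⟩
    · exact (hD _).2 ⟨g, hg, rfl, rfl⟩
    · exact hg₁f _ (fst_mem_pr1 hg)
    · exact hg₂f _ (snd_mem_pr2 hg)
  · rintro ⟨g', hg', e1, e2⟩
    obtain ⟨g₀, hg₀, e3, e4⟩ := (hD g').1 hg'
    have e5 : (g₀.1 : Ω) = g.1 := by
      rw [← e1, ← e3]; exact (hg₁f _ (fst_mem_pr1 hg₀)).symm
    have e6 : (g₀.2 : Ω) = g.2 := by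
      rw [← e2, ← e4]; exact (hg₂f _ (snd_mem_pr2 hg₀)).symm
    have : g₀ = g := Prod.ext (Subtype.ext e5) (Subtype.ext e6)
    rw [← this]; exact hg₀

theorem FFConj.trans {F : FusionSystem S} {D D' D'' : Subgroup (S × S)} (h : FFConj F D D')
    (h' : FFConj F D' D'') : FFConj F D D'' := by
  obtain ⟨f₁, f₂, h1, h2, hD⟩ := h
  obtain ⟨k₁, k₂, hk1, hk2, hD'⟩ := h'
  have e1 := pr1_of_ff h1 h2 hD
  have e2 := pr2_of_ff h1 h2 hD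
  refine ⟨fun x => k₁ (f₁ x), fun x => k₂ (f₂ x),
    h1.comp hk1 (fun x hx => by rw [e1]; exact h1.apply_mem_img hx),
    h2.comp hk2 (fun x hx => by rw [e2]; exact h2.apply_mem_img hx), fun g'' => ?_⟩
  constructor
  · intro hg''
    obtain ⟨g', hg', e3, e4⟩ := (hD' g'').1 hg''
    obtain ⟨g, hg, e5, e6⟩ := (hD g').1 hg'
    exact ⟨g, hg, by show k₁ (f₁ (g.1 : Ω)) = _; rw [e5, e3],
      by show k₂ (f₂ (g.2 : Ω)) = _; rw [e6, e4]⟩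
  · rintro ⟨g, hg, e3, e4⟩
    refine (hD' g'').2 ⟨(⟨f₁ g.1, h1.mem_S (fst_mem_pr1 hg)⟩, ⟨f₂ g.2, h2.mem_S (snd_mem_pr2 hg)⟩),
      (hD _).2 ⟨g, hg, rfl, rfl⟩, e3, e4⟩

theorem ffconj_conj (F : FusionSystem S) (D : Subgroup (S × S)) (γ : S × S) :
    FFConj F D (D.map (MulAut.conj γ).toMonoidHom) := by
  refine ⟨fun x => (γ.1 : Ω) * x * (γ.1 : Ω)⁻¹, fun x => (γ.2 : Ω) * x * (γ.2 : Ω)⁻¹,
    mor_conj F (pr1_le D) γ.1.2, mor_conj F (pr2_le D) γ.2.2, fun g' => ?_⟩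
  constructor
  · rintro ⟨g, hg, rfl⟩
    exact ⟨g, hg, rfl, rfl⟩
  · rintro ⟨g, hg, e1, e2⟩
    refine ⟨g, hg, Prod.ext (Subtype.ext ?_) (Subtype.ext ?_)⟩
    · exact e1
    · exact e2

/-- A subgroup of `S × S` is the graph of a map of the system. -/
def IsFGraph (F : FusionSystem S) (D : Subgroup (S × S)) : Prop :=
  ∃ (P : Subgroup Ω) (f : Ω → Ω), Mor F P f ∧
    ∀ g : S × S, g ∈ D ↔ (g.1 : Ω) ∈ P ∧ (g.2 : Ω) = f (g.1 : Ω)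

theorem pr1_of_graph {F : FusionSystem S} {D : Subgroup (S × S)} {P : Subgroup Ω} {f : Ω → Ω}
    (hf : Mor F P f) (hD : ∀ g : S × S, g ∈ D ↔ (g.1 : Ω) ∈ P ∧ (g.2 : Ω) = f (g.1 : Ω)) :
    pr1 D = P := by
  ext x
  rw [mem_pr1]
  constructor
  · rintro ⟨g, hg, rfl⟩; exact ((hD g).1 hg).1
  · intro hx
    exact ⟨(⟨x, hf.le hx⟩, ⟨f x, hf.mem_S hx⟩), (hD _).2 ⟨hx, rfl⟩, rfl⟩

theorem pr2_of_graph {F : FusionSystem S} {D : Subgroup (S × S)} {P : Subgroup Ω} {f : Ω → Ω}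
    (hf : Mor F P f) (hD : ∀ g : S × S, g ∈ D ↔ (g.1 : Ω) ∈ P ∧ (g.2 : Ω) = f (g.1 : Ω)) :
    pr2 D = img P f := by
  ext x
  rw [mem_pr2, hf.mem_img]
  constructor
  · rintro ⟨g, hg, rfl⟩; exact ⟨g.1, ((hD g).1 hg).1, ((hD g).1 hg).2.symm⟩
  · rintro ⟨a, ha, rfl⟩
    exact ⟨(⟨a, hf.le ha⟩, ⟨f a, hf.mem_S ha⟩), (hD _).2 ⟨ha, rfl⟩, rfl⟩

theorem IsFGraph.of_le {F : FusionSystem S} {D D' : Subgroup (S × S)} (h : IsFGraph F D)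
    (hle : D' ≤ D) : IsFGraph F D' := by
  obtain ⟨P, f, hf, hD⟩ := h
  have hP : pr1 D' ≤ P := by
    rw [← pr1_of_graph hf hD]; exact pr1_mono hle
  refine ⟨pr1 D', f, hf.res hP, fun g => ?_⟩
  constructor
  · intro hg; exact ⟨fst_mem_pr1 hg, ((hD g).1 (hle hg)).2⟩
  · rintro ⟨h1, h2⟩
    obtain ⟨g₀, hg₀, e⟩ := mem_pr1.1 h1
    have h3 := ((hD g₀).1 (hle hg₀)).2
    have : g₀ = g := Prod.ext (Subtype.ext e) (Subtype.ext (by rw [h3, h2, e]))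
    rw [← this]; exact hg₀

theorem IsFGraph.ffconj {F : FusionSystem S} {D D' : Subgroup (S × S)} (h : IsFGraph F D)
    (hc : FFConj F D D') : IsFGraph F D' := by
  obtain ⟨P, f, hf, hD⟩ := h
  obtain ⟨f₁, f₂, h1, h2, hD'⟩ := hc
  have e1 := pr1_of_graph hf hD
  have e2 := pr2_of_graph hf hD
  rw [e1] at h1
  rw [e2] at h2
  obtain ⟨k₁, hk₁, hk₁f⟩ := h1.exists_inv
  have hk₁P : ∀ y ∈ img P f₁, k₁ y ∈ P := by
    intro y hy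
    obtain ⟨x, hx, rfl⟩ := h1.mem_img.1 hy
    rw [hk₁f x hx]; exact hx
  have hm : Mor F (img P f₁) (fun y => f₂ (f (k₁ y))) :=
    (hk₁.comp hf hk₁P).comp h2 (fun y hy => hf.apply_mem_img (hk₁P y hy))
  refine ⟨img P f₁, fun y => f₂ (f (k₁ y)), hm, fun g' => ?_⟩
  rw [hD']
  constructor
  · rintro ⟨g, hg, e3, e4⟩
    have hgP := ((hD g).1 hg).1
    have hg2 := ((hD g).1 hg).2
    refine ⟨?_, ?_⟩
    · rw [← e3]; exact h1.apply_mem_img hgP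
    · show (g'.2 : Ω) = f₂ (f (k₁ (g'.1 : Ω)))
      rw [← e3, hk₁f _ hgP, ← hg2, e4]
  · rintro ⟨h3, h4⟩
    obtain ⟨a, ha, e3⟩ := h1.mem_img.1 h3
    refine ⟨(⟨a, hf.le ha⟩, ⟨f a, hf.mem_S ha⟩), (hD _).2 ⟨ha, rfl⟩, e3, ?_⟩
    have h5 : (g'.2 : Ω) = f₂ (f (k₁ (g'.1 : Ω))) := h4
    rw [h5, ← e3, hk₁f a ha]

/-- The diagonal copy of a subgroup `P`. -/
def diagSub (P : Subgroup Ω) : Subgroup (S × S) where
  carrier := {g | (g.1 : Ω) ∈ P ∧ (g.2 : Ω) = (g.1 : Ω)}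
  mul_mem' := by
    rintro a b ⟨ha1, ha2⟩ ⟨hb1, hb2⟩
    refine ⟨?_, ?_⟩
    · show ((a.1 * b.1 : S) : Ω) ∈ P
      rw [Subgroup.coe_mul]; exact P.mul_mem ha1 hb1
    · show ((a.2 * b.2 : S) : Ω) = ((a.1 * b.1 : S) : Ω)
      rw [Subgroup.coe_mul, Subgroup.coe_mul, ha2, hb2]
  one_mem' := ⟨P.one_mem, rfl⟩
  inv_mem' := by
    rintro a ⟨ha1, ha2⟩
    refine ⟨?_, ?_⟩
    · show ((a.1⁻¹ : S) : Ω) ∈ P
      rw [Subgroup.coe_inv]; exact P.inv_mem ha1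
    · show ((a.2⁻¹ : S) : Ω) = ((a.1⁻¹ : S) : Ω)
      rw [Subgroup.coe_inv, Subgroup.coe_inv, ha2]

theorem mem_diagSub {P : Subgroup Ω} {g : S × S} :
    g ∈ (diagSub P : Subgroup (S × S)) ↔ (g.1 : Ω) ∈ P ∧ (g.2 : Ω) = (g.1 : Ω) := Iff.rfl

theorem isFGraph_diag (F : FusionSystem S) {P : Subgroup Ω} (hP : P ≤ S) :
    IsFGraph F (diagSub P : Subgroup (S × S)) :=
  ⟨P, fun x => x, mor_id F hP, fun _ => Iff.rfl⟩

theorem pr1_diagSub (F : FusionSystem S) {P : Subgroup Ω} (hP : P ≤ S) :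
    pr1 (diagSub P : Subgroup (S × S)) = P :=
  pr1_of_graph (mor_id F hP) (fun _ => Iff.rfl)

theorem IsFGraph.card_le [Finite S] {F : FusionSystem S} {D : Subgroup (S × S)}
    (h : IsFGraph F D) : Nat.card D ≤ Nat.card S := by
  obtain ⟨P, f, hf, hD⟩ := h
  apply Nat.card_le_card_of_injective (fun g : D => g.1.1)
  intro a b hab
  have hab' : a.1.1 = b.1.1 := hab
  have ha := ((hD a.1).1 a.2).2
  have hb := ((hD b.1).1 b.2).2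
  exact Subtype.ext (Prod.ext hab' (Subtype.ext (by rw [ha, hb, hab'])))

theorem IsFGraph.snd_eq_one {F : FusionSystem S} {D : Subgroup (S × S)} (h : IsFGraph F D)
    {b : S} (hb : ((1 : S), b) ∈ D) : b = 1 := by
  obtain ⟨P, f, hf, hD⟩ := h
  have h2 := ((hD _).1 hb).2
  apply Subtype.ext
  have h3 : (b : Ω) = f ((1 : S) : Ω) := h2
  rw [h3, Subgroup.coe_one, hf.map_one]

theorem IsFGraph.fst_eq_one {F : FusionSystem S} {D : Subgroup (S × S)} (h : IsFGraph F D)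
    {a : S} (ha : (a, (1 : S)) ∈ D) : a = 1 := by
  obtain ⟨P, f, hf, hD⟩ := h
  have h1 := ((hD _).1 ha).1
  have h2 := ((hD _).1 ha).2
  apply Subtype.ext
  have h3 : f (a : Ω) = f 1 := by
    rw [hf.map_one]; exact h2.symm
  exact hf.inj h1 P.one_mem h3

/-- In a saturated system every graph is conjugate to the diagonal of a fully automized
receptive subgroup. -/
theorem IsFGraph.exists_best {F : FusionSystem S} {p : ℕ} (hF : F.IsSaturated p)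
    {D : Subgroup (S × S)} (h : IsFGraph F D) :
    ∃ P₀ : Subgroup Ω, F.IsFullyAutomized p P₀ ∧ F.IsReceptive P₀ ∧
      FFConj F D (diagSub P₀) := by
  obtain ⟨P, f, hf, hD⟩ := h
  obtain ⟨P₀, hconj, hfa, hrec⟩ := hF P hf.le
  obtain ⟨k, hk, hkimg⟩ := (isConj_iff F).1 hconj
  obtain ⟨f', hf', hf'f⟩ := hf.exists_inv
  have hf'P : ∀ y ∈ img P f, f' y ∈ P := by
    intro y hy
    obtain ⟨x, hx, rfl⟩ := hf.mem_img.1 hy
    rw [hf'f x hx]; exact hx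
  have e1 := pr1_of_graph hf hD
  have e2 := pr2_of_graph hf hD
  refine ⟨P₀, hfa, hrec, k, fun y => k (f' y), by rw [e1]; exact hk,
    by rw [e2]; exact hf'.comp hk hf'P, fun g' => ?_⟩
  rw [mem_diagSub]
  constructor
  · rintro ⟨h1, h2⟩
    rw [← hkimg] at h1
    obtain ⟨a, ha, e3⟩ := hk.mem_img.1 h1
    refine ⟨(⟨a, hf.le ha⟩, ⟨f a, hf.mem_S ha⟩), (hD _).2 ⟨ha, rfl⟩, e3, ?_⟩
    show k (f' (f a)) = (g'.2 : Ω)
    rw [hf'f a ha, h2, e3]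
  · rintro ⟨g, hg, e3, e4⟩
    have hgP := ((hD g).1 hg).1
    have hg2 := ((hD g).1 hg).2
    refine ⟨?_, ?_⟩
    · rw [← e3, ← hkimg]; exact hk.apply_mem_img hgP
    · have e4' : k (f' (g.2 : Ω)) = (g'.2 : Ω) := e4
      rw [← e4', ← e3, hg2, hf'f _ hgP]

/-- The homomorphism induced on a subgroup of `S × S` by a pair of maps of the system. -/
def ffHom (F : FusionSystem S) (K : Subgroup (S × S)) {f₁ f₂ : Ω → Ω}
    (h1 : Mor F (pr1 K) f₁) (h2 : Mor F (pr2 K) f₂) : K →* S × S where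
  toFun g := (⟨f₁ g.1.1, h1.mem_S (fst_mem_pr1 g.2)⟩, ⟨f₂ g.1.2, h2.mem_S (snd_mem_pr2 g.2)⟩)
  map_one' := Prod.ext (Subtype.ext h1.map_one) (Subtype.ext h2.map_one)
  map_mul' a b := Prod.ext (Subtype.ext (h1.map_mul (fst_mem_pr1 a.2) (fst_mem_pr1 b.2)))
    (Subtype.ext (h2.map_mul (snd_mem_pr2 a.2) (snd_mem_pr2 b.2)))

theorem ffHom_injective (F : FusionSystem S) (K : Subgroup (S × S)) {f₁ f₂ : Ω → Ω}
    (h1 : Mor F (pr1 K) f₁) (h2 : Mor F (pr2 K) f₂) :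
    Function.Injective (ffHom F K h1 h2) := by
  intro a b hab
  have e1 : f₁ a.1.1 = f₁ b.1.1 := congrArg (fun t : S × S => (t.1 : Ω)) hab
  have e2 : f₂ a.1.2 = f₂ b.1.2 := congrArg (fun t : S × S => (t.2 : Ω)) hab
  exact Subtype.ext (Prod.ext (Subtype.ext (h1.inj (fst_mem_pr1 a.2) (fst_mem_pr1 b.2) e1))
    (Subtype.ext (h2.inj (snd_mem_pr2 a.2) (snd_mem_pr2 b.2) e2)))

theorem ffconj_map_ffHom (F : FusionSystem S) (K : Subgroup (S × S)) {f₁ f₂ : Ω → Ω}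
    (h1 : Mor F (pr1 K) f₁) (h2 : Mor F (pr2 K) f₂) (D : Subgroup K) :
    FFConj F (D.map K.subtype) (D.map (ffHom F K h1 h2)) := by
  have hle : D.map K.subtype ≤ K := by
    rintro _ ⟨d, -, rfl⟩; exact d.2
  refine ⟨f₁, f₂, h1.res (pr1_mono hle), h2.res (pr2_mono hle), fun g' => ?_⟩
  constructor
  · rintro ⟨d, hd, rfl⟩
    exact ⟨d.1, ⟨d, hd, rfl⟩, rfl, rfl⟩
  · rintro ⟨g, ⟨d, hd, rfl⟩, e1, e2⟩
    exact ⟨d, hd, Prod.ext (Subtype.ext e1) (Subtype.ext e2)⟩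

end Cfsg.Agent.Lib.Helper88
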