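import Mathlib

set_option autoImplicit false

namespace Cfsg.Agent.Lib.Helper88

open MulAction

universe u v w

section Marks

variable {G : Type u} [Group G]

/-- The number of points of `X` fixed by the subgroup `H`. -/
noncomputable def mark (H : Subgroup G) (X : Type v) [MulAction G X] : ℕ :=
  Nat.card {x : X // ∀ g ∈ H, g • x = x}

/-- The number of points of `X` with stabilizer exactly `H`. -/
noncomputable def ecount (H : Subgroup G) (X : Type v) [MulAction G X] : ℕ :=
  Nat.card {x : X // stabilizer G x = H}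

theorem mark_eq_sum (H : Subgroup G) (X : Type v) [MulAction G X] [Finite X]
    [Fintype {K : Subgroup G // H ≤ K}] :
    mark H X = ∑ K : {K : Subgroup G // H ≤ K}, ecount K.1 X := by
  unfold mark ecount
  rw [← Nat.card_sigma]
  exact Nat.card_congr (Equiv.sigmaSubtypeFiberEquivSubtype (fun x : X => stabilizer G x)
    (p := fun x => ∀ g ∈ H, g • x = x) (q := fun K => H ≤ K) (fun x => Iff.rfl)).symm

/-- Equal marks on an upward closed family of subgroups give equal stabilizer counts there. -/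
theorem ecount_eq_of_mark_eq [Finite G] {X : Type v} {Y : Type w} [MulAction G X] [MulAction G Y]
    [Finite X] [Finite Y] (U : Set (Subgroup G)) (hU : ∀ H ∈ U, ∀ K, H ≤ K → K ∈ U)
    (h : ∀ H ∈ U, mark H X = mark H Y) : ∀ H ∈ U, ecount H X = ecount H Y := by
  classical
  intro H
  induction H using WellFoundedGT.induction with
  | _ H ih =>
    intro hH
    let _ := Fintype.ofFinite {K : Subgroup G // H ≤ K}
    have e := h H hH
    rw [mark_eq_sum H X, mark_eq_sum H Y] at e
    have hX := Finset.add_sum_erase Finset.univ (fun K : {K : Subgroup G // H ≤ K} => ecount K.1 X)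
      (Finset.mem_univ (⟨H, le_rfl⟩ : {K : Subgroup G // H ≤ K}))
    have hY := Finset.add_sum_erase Finset.univ (fun K : {K : Subgroup G // H ≤ K} => ecount K.1 Y)
      (Finset.mem_univ (⟨H, le_rfl⟩ : {K : Subgroup G // H ≤ K}))
    rw [← hX, ← hY] at e
    have e2 : ∑ K ∈ (Finset.univ : Finset {K : Subgroup G // H ≤ K}).erase ⟨H, le_rfl⟩,
        ecount K.1 X = ∑ K ∈ (Finset.univ : Finset {K : Subgroup G // H ≤ K}).erase ⟨H, le_rfl⟩,
        ecount K.1 Y := by
      refine Finset.sum_congr rfl (fun K hK => ?_)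
      have hne : K ≠ ⟨H, le_rfl⟩ := Finset.ne_of_mem_erase hK
      have hlt : H < K.1 := lt_of_le_of_ne K.2 (fun heq => hne (Subtype.ext heq.symm))
      exact ih K.1 hlt (hU H hH K.1 K.2)
    simp only at e
    omega

theorem map_conj_eq_of_normal (Δ : Subgroup G) [hΔ : Δ.Normal] (g : G) :
    Δ.map (MulAut.conj g).toMonoidHom = Δ := by
  ext x
  constructor
  · rintro ⟨y, hy, rfl⟩
    exact hΔ.conj_mem y hy g
  · intro hx
    refine ⟨g⁻¹ * x * g, ?_, ?_⟩
    · have := hΔ.conj_mem x hx g⁻¹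
      simpa using this
    · simp [mul_assoc]

/-- The number of points with stabilizer exactly a normal subgroup `Δ` is a multiple of its index. -/
theorem index_dvd_ecount [Finite G] (Δ : Subgroup G) [hΔ : Δ.Normal] (X : Type v) [MulAction G X]
    [Finite X] : Δ.index ∣ ecount Δ X := by
  classical
  let p : SubMulAction G X :=
    { carrier := {x | stabilizer G x = Δ}
      smul_mem' := by
        intro g x hx
        show stabilizer G (g • x) = Δ
        rw [stabilizer_smul_eq_stabilizer_map_conj, show stabilizer G x = Δ from hx,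
          map_conj_eq_of_normal] }
  have h1 : ecount Δ X = Nat.card p := rfl
  let _ := Fintype.ofFinite (orbitRel.Quotient G p)
  have h2 : Nat.card p = ∑ ω : orbitRel.Quotient G p, Nat.card (orbit G ω.out) := by
    rw [← Nat.card_sigma]
    exact Nat.card_congr (selfEquivSigmaOrbits G p)
  have h3 : ∀ ω : orbitRel.Quotient G p, Nat.card (orbit G ω.out) = Δ.index := by
    intro ω
    rw [Nat.card_coe_set_eq, ← index_stabilizer, SubMulAction.stabilizer_of_subMul]
    exact congrArg Subgroup.index (show stabilizer G (ω.out : X) = Δ from ω.out.2)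
  rw [h1, h2, Finset.sum_congr rfl (fun ω _ => h3 ω), Finset.sum_const, smul_eq_mul]
  exact Dvd.intro_left _ rfl

/-- If two finite `G`-sets have the same marks at all subgroups properly containing the normal
subgroup `Δ`, their marks at `Δ` are congruent modulo the index of `Δ`. -/
theorem mark_modEq [Finite G] (Δ : Subgroup G) [hΔ : Δ.Normal] {X : Type v} {Y : Type w}
    [MulAction G X] [MulAction G Y] [Finite X] [Finite Y]
    (h : ∀ D : Subgroup G, Δ < D → mark D X = mark D Y) :
    mark Δ X ≡ mark Δ Y [MOD Δ.index] := by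
  classical
  let _ := Fintype.ofFinite {K : Subgroup G // Δ ≤ K}
  have hU : ∀ H ∈ {D : Subgroup G | Δ < D}, ∀ K, H ≤ K → K ∈ {D : Subgroup G | Δ < D} :=
    fun H hH K hHK => lt_of_lt_of_le hH hHK
  have he := ecount_eq_of_mark_eq (X := X) (Y := Y) {D : Subgroup G | Δ < D} hU h
  rw [mark_eq_sum Δ X, mark_eq_sum Δ Y]
  have hX := Finset.add_sum_erase Finset.univ (fun K : {K : Subgroup G // Δ ≤ K} => ecount K.1 X)
    (Finset.mem_univ (⟨Δ, le_rfl⟩ : {K : Subgroup G // Δ ≤ K}))
  have hY := Finset.add_sum_erase Finset.univ (fun K : {K : Subgroup G // Δ ≤ K} => ecount K.1 Y)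
    (Finset.mem_univ (⟨Δ, le_rfl⟩ : {K : Subgroup G // Δ ≤ K}))
  rw [← hX, ← hY]
  have e2 : ∑ K ∈ (Finset.univ : Finset {K : Subgroup G // Δ ≤ K}).erase ⟨Δ, le_rfl⟩,
      ecount K.1 X = ∑ K ∈ (Finset.univ : Finset {K : Subgroup G // Δ ≤ K}).erase ⟨Δ, le_rfl⟩,
      ecount K.1 Y := by
    refine Finset.sum_congr rfl (fun K hK => ?_)
    have hne : K ≠ ⟨Δ, le_rfl⟩ := Finset.ne_of_mem_erase hK
    have hlt : Δ < K.1 := lt_of_le_of_ne K.2 (fun heq => hne (Subtype.ext heq.symm))
    exact he K.1 hlt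
  rw [e2]
  apply Nat.ModEq.add_right
  exact ((Nat.modEq_zero_iff_dvd).2 (index_dvd_ecount Δ X)).trans
    ((Nat.modEq_zero_iff_dvd).2 (index_dvd_ecount Δ Y)).symm

end Marks

section Burnside

variable {G : Type u} [Group G]

theorem smul_mem_orbit_iff {X : Type v} [MulAction G X] (g : G) (x x₀ : X) :
    g • x ∈ orbit G x₀ ↔ x ∈ orbit G x₀ := by
  rw [← orbit_eq_iff, ← orbit_eq_iff, orbit_smul]

theorem exists_bijOn_of_ecount {X : Type v} {Y : Type w} [MulAction G X] [MulAction G Y]
    [Nonempty Y] :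
    ∀ (n : ℕ) (A : Set X) (B : Set Y), A.Finite → B.Finite → A.ncard = n →
      (∀ g : G, ∀ x ∈ A, g • x ∈ A) → (∀ g : G, ∀ y ∈ B, g • y ∈ B) →
      (∀ K : Subgroup G, {x ∈ A | stabilizer G x = K}.ncard = {y ∈ B | stabilizer G y = K}.ncard) →
      ∃ f : X → Y, Set.BijOn f A B ∧ ∀ g : G, ∀ x ∈ A, f (g • x) = g • f x := by
  classical
  intro n
  induction n using Nat.strong_induction_on with
  | _ n ih =>
    intro A B hA hB hn hAinv hBinv hcount
    by_cases hAe : A = ∅
    · have hBe : B = ∅ := by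
        by_contra hne
        obtain ⟨y, hy⟩ := Set.nonempty_iff_ne_empty.2 hne
        have h1 := hcount (stabilizer G y)
        have h2 : {x ∈ A | stabilizer G x = stabilizer G y} = ∅ := by
          rw [hAe]; simp
        rw [h2, Set.ncard_empty] at h1
        have h3 : ({y' ∈ B | stabilizer G y' = stabilizer G y} : Set Y).Nonempty := ⟨y, hy, rfl⟩
        have h4 : ({y' ∈ B | stabilizer G y' = stabilizer G y} : Set Y).Finite :=
          hB.subset (fun z hz => hz.1)
        have := (Set.ncard_pos h4).2 h3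
        omega
      refine ⟨fun _ => Classical.arbitrary Y, ?_, ?_⟩
      · rw [hAe, hBe]; exact Set.bijOn_empty _
      · intro g x hx; rw [hAe] at hx; exact absurd hx (Set.notMem_empty x)
    · obtain ⟨x₀, hx₀⟩ := Set.nonempty_iff_ne_empty.2 hAe
      obtain ⟨y₀, hy₀, hstab⟩ : ∃ y₀ ∈ B, stabilizer G y₀ = stabilizer G x₀ := by
        have h1 := hcount (stabilizer G x₀)
        have h3 : ({x ∈ A | stabilizer G x = stabilizer G x₀} : Set X).Nonempty := ⟨x₀, hx₀, rfl⟩
        have h4 : ({x ∈ A | stabilizer G x = stabilizer G x₀} : Set X).Finite :=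
          hA.subset (fun z hz => hz.1)
        have h5 := (Set.ncard_pos h4).2 h3
        rw [h1] at h5
        have h6 : ({y ∈ B | stabilizer G y = stabilizer G x₀} : Set Y).Finite :=
          hB.subset (fun z hz => hz.1)
        obtain ⟨y₀, hy₀⟩ := (Set.ncard_pos h6).1 h5
        exact ⟨y₀, hy₀.1, hy₀.2⟩
      have key : ∀ g₁ g₂ : G, g₁ • x₀ = g₂ • x₀ ↔ g₁ • y₀ = g₂ • y₀ := by
        intro g₁ g₂
        have hx : g₁ • x₀ = g₂ • x₀ ↔ g₂⁻¹ * g₁ ∈ stabilizer G x₀ := by
          rw [mem_stabilizer_iff, mul_smul, inv_smul_eq_iff]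
        have hy : g₁ • y₀ = g₂ • y₀ ↔ g₂⁻¹ * g₁ ∈ stabilizer G y₀ := by
          rw [mem_stabilizer_iff, mul_smul, inv_smul_eq_iff]
        rw [hx, hy, hstab]
      let f₀ : X → Y := fun x => if h : ∃ g : G, g • x₀ = x then (Classical.choose h) • y₀ else y₀
      have hf₀ : ∀ g : G, f₀ (g • x₀) = g • y₀ := by
        intro g
        have h : ∃ g' : G, g' • x₀ = g • x₀ := ⟨g, rfl⟩
        show (if h : ∃ g' : G, g' • x₀ = g • x₀ then (Classical.choose h) • y₀ else y₀) = g • y₀
        rw [dif_pos h]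
        exact (key _ _).1 (Classical.choose_spec h)
      have horbX : ∀ x, x ∈ orbit G x₀ ↔ ∃ g : G, g • x₀ = x := fun x => Iff.rfl
      have horbY : ∀ y, y ∈ orbit G y₀ ↔ ∃ g : G, g • y₀ = y := fun y => Iff.rfl
      have hsubA : orbit G x₀ ⊆ A := by
        rintro _ ⟨g, rfl⟩; exact hAinv g x₀ hx₀
      have hsubB : orbit G y₀ ⊆ B := by
        rintro _ ⟨g, rfl⟩; exact hBinv g y₀ hy₀
      have hf₀stab : ∀ x ∈ orbit G x₀, stabilizer G (f₀ x) = stabilizer G x := by
        rintro _ ⟨g, rfl⟩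
        show stabilizer G (f₀ (g • x₀)) = stabilizer G (g • x₀)
        rw [hf₀, stabilizer_smul_eq_stabilizer_map_conj, stabilizer_smul_eq_stabilizer_map_conj,
          hstab]
      have hf₀inj : Set.InjOn f₀ (orbit G x₀) := by
        rintro _ ⟨g₁, rfl⟩ _ ⟨g₂, rfl⟩ h
        have h' : f₀ (g₁ • x₀) = f₀ (g₂ • x₀) := h
        rw [hf₀, hf₀] at h'
        exact (key _ _).2 h'
      -- the remaining parts
      have hA'inv : ∀ g : G, ∀ x ∈ A \ orbit G x₀, g • x ∈ A \ orbit G x₀ := by
        intro g x hx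
        exact ⟨hAinv g x hx.1, fun h => hx.2 ((smul_mem_orbit_iff g x x₀).1 h)⟩
      have hB'inv : ∀ g : G, ∀ y ∈ B \ orbit G y₀, g • y ∈ B \ orbit G y₀ := by
        intro g y hy
        exact ⟨hBinv g y hy.1, fun h => hy.2 ((smul_mem_orbit_iff g y y₀).1 h)⟩
      have hlt : (A \ orbit G x₀).ncard < n := by
        rw [← hn]
        apply Set.ncard_lt_ncard _ hA
        refine ⟨Set.sdiff_subset, fun h => ?_⟩
        exact (h hx₀).2 (mem_orbit_self x₀)
      have hcount' : ∀ K : Subgroup G,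
          {x ∈ A \ orbit G x₀ | stabilizer G x = K}.ncard
            = {y ∈ B \ orbit G y₀ | stabilizer G y = K}.ncard := by
        intro K
        have e1 : {x ∈ A \ orbit G x₀ | stabilizer G x = K}
            = {x ∈ A | stabilizer G x = K} \ {x ∈ orbit G x₀ | stabilizer G x = K} := by
          ext x
          simp only [Set.mem_ofPred_eq, Set.mem_sdiff]
          tauto
        have e2 : {y ∈ B \ orbit G y₀ | stabilizer G y = K}
            = {y ∈ B | stabilizer G y = K} \ {y ∈ orbit G y₀ | stabilizer G y = K} := by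
          ext y
          simp only [Set.mem_ofPred_eq, Set.mem_sdiff]
          tauto
        have e3 : {y ∈ orbit G y₀ | stabilizer G y = K}
            = f₀ '' {x ∈ orbit G x₀ | stabilizer G x = K} := by
          ext y
          constructor
          · rintro ⟨⟨g, rfl⟩, hK⟩
            refine ⟨g • x₀, ⟨⟨g, rfl⟩, ?_⟩, hf₀ g⟩
            have h1 := hf₀stab (g • x₀) ⟨g, rfl⟩
            rw [hf₀] at h1
            rw [← h1]; exact hK
          · rintro ⟨x, ⟨hx, hK⟩, rfl⟩
            obtain ⟨g, rfl⟩ := hx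
            refine ⟨?_, ?_⟩
            · show f₀ (g • x₀) ∈ orbit G y₀
              rw [hf₀]; exact ⟨g, rfl⟩
            · show stabilizer G (f₀ (g • x₀)) = K
              rw [hf₀stab (g • x₀) ⟨g, rfl⟩]; exact hK
        have hfinX : ({x ∈ orbit G x₀ | stabilizer G x = K} : Set X).Finite :=
          hA.subset (fun z hz => hsubA hz.1)
        have hfinY : ({y ∈ orbit G y₀ | stabilizer G y = K} : Set Y).Finite :=
          hB.subset (fun z hz => hsubB hz.1)
        have hsX : {x ∈ orbit G x₀ | stabilizer G x = K} ⊆ {x ∈ A | stabilizer G x = K} :=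
          fun z hz => ⟨hsubA hz.1, hz.2⟩
        have hsY : {y ∈ orbit G y₀ | stabilizer G y = K} ⊆ {y ∈ B | stabilizer G y = K} :=
          fun z hz => ⟨hsubB hz.1, hz.2⟩
        rw [e1, e2, Set.ncard_sdiff hsX hfinX, Set.ncard_sdiff hsY hfinY, hcount K, e3,
          Set.InjOn.ncard_image (hf₀inj.mono (fun z hz => hz.1))]
      obtain ⟨f', hf'bij, hf'eq⟩ := ih _ hlt (A \ orbit G x₀) (B \ orbit G y₀)
        (hA.subset Set.sdiff_subset) (hB.subset Set.sdiff_subset) rfl hA'inv hB'inv hcount'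
      refine ⟨fun x => if x ∈ orbit G x₀ then f₀ x else f' x, ⟨?_, ?_, ?_⟩, ?_⟩
      · intro x hx
        by_cases hxo : x ∈ orbit G x₀
        · simp only [if_pos hxo]
          obtain ⟨g, rfl⟩ := hxo
          rw [hf₀]; exact hBinv g y₀ hy₀
        · simp only [if_neg hxo]
          exact (hf'bij.mapsTo ⟨hx, hxo⟩).1
      · intro x₁ hx₁ x₂ hx₂ h
        by_cases h1 : x₁ ∈ orbit G x₀ <;> by_cases h2 : x₂ ∈ orbit G x₀
        · simp only [if_pos h1, if_pos h2] at h
          exact hf₀inj h1 h2 h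
        · simp only [if_pos h1, if_neg h2] at h
          exfalso
          have h3 := (hf'bij.mapsTo ⟨hx₂, h2⟩).2
          rw [← h] at h3
          obtain ⟨g, rfl⟩ := h1
          rw [hf₀] at h3
          exact h3 ⟨g, rfl⟩
        · simp only [if_neg h1, if_pos h2] at h
          exfalso
          have h3 := (hf'bij.mapsTo ⟨hx₁, h1⟩).2
          rw [h] at h3
          obtain ⟨g, rfl⟩ := h2
          rw [hf₀] at h3
          exact h3 ⟨g, rfl⟩
        · simp only [if_neg h1, if_neg h2] at h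
          exact hf'bij.injOn ⟨hx₁, h1⟩ ⟨hx₂, h2⟩ h
      · intro y hy
        by_cases hyo : y ∈ orbit G y₀
        · obtain ⟨g, rfl⟩ := hyo
          refine ⟨g • x₀, hAinv g x₀ hx₀, ?_⟩
          have : g • x₀ ∈ orbit G x₀ := ⟨g, rfl⟩
          simp only [if_pos this]
          exact hf₀ g
        · obtain ⟨x, hx, rfl⟩ := hf'bij.surjOn ⟨hy, hyo⟩
          refine ⟨x, hx.1, ?_⟩
          simp only [if_neg hx.2]
      · intro g x hx
        by_cases hxo : x ∈ orbit G x₀
        · have hgx : g • x ∈ orbit G x₀ := (smul_mem_orbit_iff g x x₀).2 hxo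
          simp only [if_pos hxo, if_pos hgx]
          obtain ⟨g', rfl⟩ := hxo
          rw [← mul_smul, hf₀, hf₀, mul_smul]
        · have hgx : g • x ∉ orbit G x₀ := fun h => hxo ((smul_mem_orbit_iff g x x₀).1 h)
          simp only [if_neg hxo, if_neg hgx]
          exact hf'eq g x ⟨hx, hxo⟩

theorem mark_bot (X : Type v) [MulAction G X] : mark (⊥ : Subgroup G) X = Nat.card X := by
  unfold mark
  refine Nat.card_congr (Equiv.subtypeUnivEquiv (fun x g hg => ?_))
  rw [Subgroup.mem_bot.1 hg, one_smul]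

/-- Burnside: two finite `G`-sets with the same marks are isomorphic. -/
theorem exists_equivariant_equiv [Finite G] {X : Type v} {Y : Type w} [MulAction G X]
    [MulAction G Y] [Finite X] [Finite Y] (h : ∀ H : Subgroup G, mark H X = mark H Y) :
    ∃ e : X ≃ Y, ∀ (g : G) (x : X), e (g • x) = g • e x := by
  classical
  have he := ecount_eq_of_mark_eq (X := X) (Y := Y) Set.univ (fun _ _ _ _ => Set.mem_univ _)
    (fun H _ => h H)
  by_cases hY : Nonempty Y
  · have hc : ∀ K : Subgroup G, {x ∈ (Set.univ : Set X) | stabilizer G x = K}.ncard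
        = {y ∈ (Set.univ : Set Y) | stabilizer G y = K}.ncard := by
      intro K
      have hcX : {x ∈ (Set.univ : Set X) | stabilizer G x = K}.ncard = ecount K X := by
        rw [← Nat.card_coe_set_eq]
        exact Nat.card_congr (Equiv.subtypeEquivRight (fun x => by simp))
      have hcY : {y ∈ (Set.univ : Set Y) | stabilizer G y = K}.ncard = ecount K Y := by
        rw [← Nat.card_coe_set_eq]
        exact Nat.card_congr (Equiv.subtypeEquivRight (fun x => by simp))
      rw [hcX, hcY]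
      exact he K (Set.mem_univ K)
    obtain ⟨f, hf, hfe⟩ := exists_bijOn_of_ecount (G := G) (X := X) (Y := Y) _ Set.univ Set.univ
      Set.finite_univ Set.finite_univ rfl (fun _ _ _ => Set.mem_univ _)
      (fun _ _ _ => Set.mem_univ _) hc
    have hbij : Function.Bijective f := Set.bijOn_univ.1 hf
    exact ⟨Equiv.ofBijective f hbij, fun g x => hfe g x (Set.mem_univ x)⟩
  · have hYe : IsEmpty Y := not_nonempty_iff.1 hY
    have hX : Nat.card X = 0 := by
      rw [← mark_bot (G := G) X, h, mark_bot, Nat.card_of_isEmpty]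
    have hXe : IsEmpty X := by
      rcases Nat.card_eq_zero.1 hX with h1 | h1
      · exact h1
      · exact absurd h1 (not_infinite_iff_finite.2 inferInstance)
    exact ⟨Equiv.equivOfIsEmpty X Y, fun g x => isEmptyElim x⟩

end Burnside

section Quot

variable {G : Type u} [Group G]

/-- Marks are invariant under conjugation of the subgroup. -/
theorem mark_conj (X : Type v) [MulAction G X] (D H : Subgroup G) (g : G)
    (h : ∀ d, d ∈ D ↔ g⁻¹ * d * g ∈ H) : mark D X = mark H X := by
  unfold mark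
  refine Nat.card_congr ⟨fun x => ⟨g⁻¹ • x.1, ?_⟩, fun x => ⟨g • x.1, ?_⟩, ?_, ?_⟩
  · intro k hk
    have hd : g * k * g⁻¹ ∈ D := (h _).2 (by simpa [mul_assoc] using hk)
    calc k • g⁻¹ • x.1 = g⁻¹ • ((g * k * g⁻¹) • x.1) := by simp [mul_smul]
      _ = g⁻¹ • x.1 := by rw [x.2 _ hd]
  · intro d hd
    have hk : g⁻¹ * d * g ∈ H := (h d).1 hd
    calc d • g • x.1 = g • ((g⁻¹ * d * g) • x.1) := by simp [mul_smul]
      _ = g • x.1 := by rw [x.2 _ hk]
  · intro x; exact Subtype.ext (smul_inv_smul g x.1)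
  · intro x; exact Subtype.ext (inv_smul_smul g x.1)

theorem fixed_quotient_iff (D H : Subgroup G) (g : G) :
    (∀ d ∈ D, d • (g : G ⧸ H) = (g : G ⧸ H)) ↔ ∀ d ∈ D, g⁻¹ * d * g ∈ H := by
  have key : ∀ d : G, d • (g : G ⧸ H) = (g : G ⧸ H) ↔ g⁻¹ * d * g ∈ H := by
    intro d
    have h1 : d • (g : G ⧸ H) = ((d * g : G) : G ⧸ H) := rfl
    rw [h1, QuotientGroup.eq, ← H.inv_mem_iff]
    have h2 : ((d * g)⁻¹ * g)⁻¹ = g⁻¹ * d * g := by group
    rw [h2]
  exact ⟨fun h d hd => (key d).1 (h d hd), fun h d hd => (key d).2 (h d hd)⟩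

theorem card_le_of_conj_le [Finite G] (D H : Subgroup G) (g : G)
    (h : ∀ d ∈ D, g⁻¹ * d * g ∈ H) : Nat.card D ≤ Nat.card H := by
  have h1 : D.map (MulAut.conj g⁻¹).toMonoidHom ≤ H := by
    rintro _ ⟨d, hd, rfl⟩
    have := h d hd
    simpa using this
  have h2 := Subgroup.card_le_of_le h1
  rwa [Subgroup.card_map_of_injective (MulAut.conj g⁻¹).injective] at h2

theorem conj_eq_of_card_eq [Finite G] (D H : Subgroup G) (g : G)
    (h : ∀ d ∈ D, g⁻¹ * d * g ∈ H) (hc : Nat.card D = Nat.card H) :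
    ∀ d, d ∈ D ↔ g⁻¹ * d * g ∈ H := by
  have h1 : D.map (MulAut.conj g⁻¹).toMonoidHom ≤ H := by
    rintro _ ⟨d, hd, rfl⟩
    have := h d hd
    simpa using this
  have h2 : D.map (MulAut.conj g⁻¹).toMonoidHom = H := by
    apply Subgroup.eq_of_le_of_card_ge h1
    rw [Subgroup.card_map_of_injective (MulAut.conj g⁻¹).injective, hc]
  intro d
  refine ⟨h d, fun hd => ?_⟩
  rw [← h2] at hd
  obtain ⟨d', hd', he⟩ := hd
  have he' : g⁻¹ * d' * g⁻¹⁻¹ = g⁻¹ * d * g := he
  have : d' = d := by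
    have h3 : g⁻¹ * d' * g = g⁻¹ * d * g := by simpa using he'
    have h4 := congrArg (fun t => g * t * g⁻¹) h3
    simpa [mul_assoc] using h4
  rw [← this]; exact hd'

theorem mark_quotient_of_card_lt [Finite G] (D H : Subgroup G) (h : Nat.card H < Nat.card D) :
    mark D (G ⧸ H) = 0 := by
  unfold mark
  rw [Nat.card_eq_zero]
  left
  constructor
  rintro ⟨q, hq⟩
  induction q using QuotientGroup.induction_on with
  | H g =>
    have := card_le_of_conj_le D H g ((fixed_quotient_iff D H g).1 hq)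
    omega

theorem exists_conj_of_mark_ne_zero [Finite G] (D H : Subgroup G) (hc : Nat.card D = Nat.card H)
    (h : mark D (G ⧸ H) ≠ 0) : ∃ g : G, ∀ d, d ∈ D ↔ g⁻¹ * d * g ∈ H := by
  unfold mark at h
  have hne : Nonempty {x : G ⧸ H // ∀ g ∈ D, g • x = x} := by
    by_contra hcon
    rw [not_nonempty_iff] at hcon
    exact h (Nat.card_of_isEmpty)
  obtain ⟨q, hq⟩ := hne
  induction q using QuotientGroup.induction_on with
  | H g => exact ⟨g, conj_eq_of_card_eq D H g ((fixed_quotient_iff D H g).1 hq) hc⟩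

theorem mark_quotient_self [Finite G] (H : Subgroup G) :
    mark H (G ⧸ H) = H.relIndex (Subgroup.normalizer (H : Set G)) := by
  unfold mark
  have e := Sylow.fixedPointsMulLeftCosetsEquivQuotient H
  have h1 : Nat.card {x : G ⧸ H // ∀ g ∈ H, g • x = x}
      = Nat.card (MulAction.fixedPoints H (G ⧸ H)) :=
    Nat.card_congr (Equiv.subtypeEquivRight (fun x =>
      ⟨fun h m => h m.1 m.2, fun h g hg => h ⟨g, hg⟩⟩))
  rw [h1, Nat.card_congr e]
  rfl

theorem mark_quotient_of_conj [Finite G] (D H : Subgroup G) (g : G)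
    (h : ∀ d, d ∈ D ↔ g⁻¹ * d * g ∈ H) :
    mark D (G ⧸ H) = H.relIndex (Subgroup.normalizer (H : Set G)) := by
  rw [mark_conj _ D H g h, mark_quotient_self]

theorem stabilizer_quotient_mk (H : Subgroup G) (g : G) (k : G) :
    k ∈ stabilizer G (g : G ⧸ H) ↔ g⁻¹ * k * g ∈ H := by
  rw [mem_stabilizer_iff]
  have h1 : k • (g : G ⧸ H) = ((k * g : G) : G ⧸ H) := rfl
  rw [h1, QuotientGroup.eq, ← H.inv_mem_iff]
  have h2 : ((k * g)⁻¹ * g)⁻¹ = g⁻¹ * k * g := by group
  rw [h2]

end Quot

section Sums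

variable {G : Type u} [Group G]

theorem mark_sum (D : Subgroup G) (X : Type v) (Y : Type w) [MulAction G X] [MulAction G Y]
    [Finite X] [Finite Y] : mark D (X ⊕ Y) = mark D X + mark D Y := by
  unfold mark
  rw [← Nat.card_sum]
  refine Nat.card_congr ((Equiv.subtypeSum).trans (Equiv.sumCongr
    (Equiv.subtypeEquivRight (fun x => ?_)) (Equiv.subtypeEquivRight (fun y => ?_))))
  · simp only [Sum.smul_inl, Sum.inl.injEq]
  · simp only [Sum.smul_inr, Sum.inr.injEq]

theorem mark_sigma {ι : Type w} [Fintype ι] (D : Subgroup G) (X : ι → Type v)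
    [∀ i, MulAction G (X i)] [∀ i, Finite (X i)] :
    mark D (Σ i, X i) = ∑ i, mark D (X i) := by
  unfold mark
  rw [← Nat.card_sigma]
  refine Nat.card_congr ⟨fun z => ⟨z.1.1, ⟨z.1.2, fun g hg => ?_⟩⟩,
    fun w => ⟨⟨w.1, w.2.1⟩, fun g hg => ?_⟩, ?_, ?_⟩
  · have h := z.2 g hg
    obtain ⟨⟨i, x⟩, hz⟩ := z
    have h' : (⟨i, g • x⟩ : Σ i, X i) = ⟨i, x⟩ := h
    exact eq_of_heq (Sigma.mk.inj h').2
  · show (⟨w.1, g • w.2.1⟩ : Σ i, X i) = ⟨w.1, w.2.1⟩
    rw [w.2.2 g hg]
  · intro z; rfl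
  · intro w; rfl

theorem stabilizer_inl {X : Type v} {Y : Type w} [MulAction G X] [MulAction G Y] (x : X) :
    stabilizer G (Sum.inl x : X ⊕ Y) = stabilizer G x := by
  ext g
  simp only [mem_stabilizer_iff, Sum.smul_inl, Sum.inl.injEq]

theorem stabilizer_inr {X : Type v} {Y : Type w} [MulAction G X] [MulAction G Y] (y : Y) :
    stabilizer G (Sum.inr y : X ⊕ Y) = stabilizer G y := by
  ext g
  simp only [mem_stabilizer_iff, Sum.smul_inr, Sum.inr.injEq]

theorem stabilizer_sigma_mk {ι : Type w} {X : ι → Type v} [∀ i, MulAction G (X i)] (i : ι)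
    (x : X i) : stabilizer G (⟨i, x⟩ : Σ i, X i) = stabilizer G x := by
  ext g
  simp only [mem_stabilizer_iff]
  constructor
  · intro h
    have h' : (⟨i, g • x⟩ : Σ i, X i) = ⟨i, x⟩ := h
    exact eq_of_heq (Sigma.mk.inj h').2
  · intro h
    show (⟨i, g • x⟩ : Σ i, X i) = ⟨i, x⟩
    rw [h]

end Sums

end Cfsg.Agent.Lib.Helper88
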