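import Mathlib
import Cfsg.Prelude.Def_FusionSystem
import Cfsg.Agent.Lib.Helper88.FusBasic
import Cfsg.Agent.Lib.Helper88.FusSat
import Cfsg.Agent.Lib.Helper88.GSetMarks
import Cfsg.Agent.Lib.Helper88.FGraph

set_option autoImplicit false

namespace Cfsg.Agent.Lib.Helper88

open Cfsg Cfsg.FusionSystem MulAction

universe u

variable {Ω : Type u} [Group Ω] {S : Subgroup Ω}

/-- `D` is a conjugate of `H`. -/
def IsConjSub {G : Type*} [Group G] (D H : Subgroup G) : Prop :=
  ∃ g : G, ∀ d, d ∈ D ↔ g⁻¹ * d * g ∈ H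

theorem IsConjSub.refl {G : Type*} [Group G] (D : Subgroup G) : IsConjSub D D :=
  ⟨1, fun d => by simp⟩

theorem IsConjSub.symm {G : Type*} [Group G] {D H : Subgroup G} (h : IsConjSub D H) :
    IsConjSub H D := by
  obtain ⟨g, hg⟩ := h
  refine ⟨g⁻¹, fun d => ?_⟩
  rw [hg]
  have : g⁻¹ * (g⁻¹⁻¹ * d * g⁻¹) * g = d := by group
  rw [this]

theorem IsConjSub.trans {G : Type*} [Group G] {D H K : Subgroup G} (h : IsConjSub D H)
    (h' : IsConjSub H K) : IsConjSub D K := by
  obtain ⟨g, hg⟩ := h
  obtain ⟨k, hk⟩ := h'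
  refine ⟨g * k, fun d => ?_⟩
  rw [hg, hk]
  have : k⁻¹ * (g⁻¹ * d * g) * k = (g * k)⁻¹ * d * (g * k) := by group
  rw [this]

theorem IsConjSub.eq_map {G : Type*} [Group G] {D H : Subgroup G} {g : G}
    (hg : ∀ d, d ∈ D ↔ g⁻¹ * d * g ∈ H) : D = H.map (MulAut.conj g).toMonoidHom := by
  ext d
  rw [hg]
  constructor
  · intro h
    exact ⟨g⁻¹ * d * g, h, by simp [mul_assoc]⟩
  · rintro ⟨k, hk, rfl⟩
    have : g⁻¹ * ((MulAut.conj g).toMonoidHom k) * g = k := by simp [mul_assoc]
    rw [this]; exact hk

theorem IsConjSub.card_eq {G : Type*} [Group G] {D H : Subgroup G} (h : IsConjSub D H) :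
    Nat.card D = Nat.card H := by
  obtain ⟨g, hg⟩ := h
  rw [IsConjSub.eq_map hg]
  exact Subgroup.card_map_of_injective (MulAut.conj g).injective

/-- A chosen representative of the conjugacy class of a subgroup. -/
noncomputable def repSub {G : Type*} [Group G] (D : Subgroup G) : Subgroup G :=
  Classical.epsilon (fun D' => IsConjSub D' D)

theorem repSub_conj {G : Type*} [Group G] (D : Subgroup G) : IsConjSub (repSub D) D :=
  Classical.epsilon_spec (p := fun D' => IsConjSub D' D) ⟨D, IsConjSub.refl D⟩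

theorem repSub_eq {G : Type*} [Group G] {D D' : Subgroup G} (h : IsConjSub D' D) :
    repSub D' = repSub D := by
  unfold repSub
  congr 1
  funext K
  exact propext ⟨fun hK => hK.trans h, fun hK => hK.trans h.symm⟩

theorem ffconj_of_isConjSub (F : FusionSystem S) {D D' : Subgroup (S × S)} (h : IsConjSub D' D) :
    FFConj F D D' := by
  obtain ⟨γ, hγ⟩ := h
  rw [IsConjSub.eq_map hγ]
  exact ffconj_conj F D γ

theorem FFConj.card_eq [Finite S] {F : FusionSystem S} {D D' : Subgroup (S × S)}
    (h : FFConj F D D') : Nat.card D = Nat.card D' := by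
  obtain ⟨f₁, f₂, h1, h2, hD⟩ := h
  refine Nat.card_congr (Equiv.ofBijective (fun g : D =>
    (⟨(⟨f₁ g.1.1, h1.mem_S (fst_mem_pr1 g.2)⟩, ⟨f₂ g.1.2, h2.mem_S (snd_mem_pr2 g.2)⟩),
      (hD _).2 ⟨g.1, g.2, rfl, rfl⟩⟩ : D')) ⟨?_, ?_⟩)
  · intro a b hab
    have e1 : f₁ a.1.1 = f₁ b.1.1 := congrArg (fun t : D' => (t.1.1 : Ω)) hab
    have e2 : f₂ a.1.2 = f₂ b.1.2 := congrArg (fun t : D' => (t.1.2 : Ω)) hab
    exact Subtype.ext (Prod.ext (Subtype.ext (h1.inj (fst_mem_pr1 a.2) (fst_mem_pr1 b.2) e1))
      (Subtype.ext (h2.inj (snd_mem_pr2 a.2) (snd_mem_pr2 b.2) e2)))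
  · rintro ⟨g', hg'⟩
    obtain ⟨g, hg, e1, e2⟩ := (hD g').1 hg'
    exact ⟨⟨g, hg⟩, Subtype.ext (Prod.ext (Subtype.ext e1) (Subtype.ext e2))⟩

/-- Every point stabilizer is the graph of a map of the system. -/
def GenBy (F : FusionSystem S) (X : Type u) [MulAction (S × S) X] : Prop :=
  ∀ x : X, IsFGraph F (stabilizer (S × S) x)

/-- Marks agree on conjugate subgroups of order more than `n`. -/
def StableAbove (F : FusionSystem S) (X : Type u) [MulAction (S × S) X] (n : ℕ) : Prop :=
  ∀ D D' : Subgroup (S × S), FFConj F D D' → n < Nat.card D → mark D X = mark D' X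

theorem mark_eq_zero_of_not_graph {F : FusionSystem S} {X : Type u} [MulAction (S × S) X]
    (hgen : GenBy F X) {D : Subgroup (S × S)} (hD : ¬ IsFGraph F D) : mark D X = 0 := by
  unfold mark
  rw [Nat.card_eq_zero]
  left
  constructor
  rintro ⟨x, hx⟩
  exact hD ((hgen x).of_le (fun g hg => hx g hg))

theorem mark_le_card {G : Type*} [Group G] (D : Subgroup G) (X : Type u) [MulAction G X] [Finite X] :
    mark D X ≤ Nat.card X :=
  Nat.card_le_card_of_injective (fun x : {x : X // ∀ g ∈ D, g • x = x} => x.1)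
    Subtype.val_injective

theorem stableAbove_top [Finite S] {F : FusionSystem S} {X : Type u} [MulAction (S × S) X]
    (hgen : GenBy F X) : StableAbove F X (Nat.card S) := by
  intro D D' hDD' hcard
  have h1 : ¬ IsFGraph F D := fun h => by
    have := h.card_le
    omega
  have h2 : ¬ IsFGraph F D' := fun h => h1 (h.ffconj hDD'.symm)
  rw [mark_eq_zero_of_not_graph hgen h1, mark_eq_zero_of_not_graph hgen h2]

/-- The step of the construction: adding orbits with stabilizers of order `n` to reach prescribed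
marks at the graphs of order `n`. -/
theorem biset_step [Finite S] (F : FusionSystem S) (X : Type u) [MulAction (S × S) X] [Finite X]
    (n : ℕ) (hgen : GenBy F X) (hst : StableAbove F X n) (M : Subgroup (S × S) → ℕ)
    (hM1 : ∀ E, IsFGraph F E → Nat.card E = n → mark E X ≤ M E)
    (hM2 : ∀ E, IsFGraph F E → Nat.card E = n →
      E.relIndex (Subgroup.normalizer (E : Set (S × S))) ∣ M E - mark E X)
    (hM3 : ∀ E E', IsFGraph F E → Nat.card E = n → FFConj F E E' → M E = M E') :
    ∃ (X' : Type u) (_ : MulAction (S × S) X') (_ : Finite X'), GenBy F X' ∧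
      (∀ D D' : Subgroup (S × S), FFConj F D D' → n ≤ Nat.card D → mark D X' = mark D' X') ∧
      (∀ E : Subgroup (S × S), n < Nat.card E → mark E X' = mark E X) ∧
      (∀ E, IsFGraph F E → Nat.card E = n → mark E X' = M E) ∧
      (∀ D₀ : Subgroup (S × S), (∃ x : X, stabilizer (S × S) x = D₀) →
        ∃ x' : X', stabilizer (S × S) x' = D₀) ∧
      (∀ m : ℕ, (∀ E : Subgroup (S × S), m ∣ mark E X) → (∀ E, IsFGraph F E → Nat.card E = n →
        m * E.relIndex (Subgroup.normalizer (E : Set (S × S))) ∣ M E - mark E X) →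
        ∀ E : Subgroup (S × S), m ∣ mark E X') := by
  classical
  let _ := Fintype.ofFinite (Subgroup (S × S))
  let k : Subgroup (S × S) → ℕ := fun D =>
    if repSub D = D ∧ IsFGraph F D ∧ Nat.card D = n then
      (M D - mark D X) / D.relIndex (Subgroup.normalizer (D : Set (S × S))) else 0
  let X' : Type u := X ⊕ Σ D : Subgroup (S × S), Σ _ : Fin (k D), (S × S) ⧸ D
  have hk : ∀ D, k D ≠ 0 → repSub D = D ∧ IsFGraph F D ∧ Nat.card D = n := by
    intro D hD
    by_contra hcon
    exact hD (if_neg hcon)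
  have hmark : ∀ E : Subgroup (S × S),
      mark E X' = mark E X + ∑ D : Subgroup (S × S), k D * mark E ((S × S) ⧸ D) := by
    intro E
    show mark E (X ⊕ Σ D : Subgroup (S × S), Σ _ : Fin (k D), (S × S) ⧸ D) = _
    rw [mark_sum, mark_sigma]
    congr 1
    refine Finset.sum_congr rfl (fun D _ => ?_)
    rw [mark_sigma, Finset.sum_const, Finset.card_univ, Fintype.card_fin, smul_eq_mul]
  have hgen' : GenBy F X' := by
    intro x'
    rcases x' with x | ⟨D, i, q⟩
    · rw [stabilizer_inl]; exact hgen x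
    · rw [stabilizer_inr, stabilizer_sigma_mk, stabilizer_sigma_mk]
      have hkD : k D ≠ 0 := fun h0 => by
        have : Fin (k D) := i
        rw [h0] at this
        exact this.elim0
      obtain ⟨-, hDg, -⟩ := hk D hkD
      induction q using QuotientGroup.induction_on with
      | H γ =>
        have hc : IsConjSub (stabilizer (S × S) ((γ : S × S) : (S × S) ⧸ D)) D :=
          ⟨γ, fun d => stabilizer_quotient_mk D γ d⟩
        exact hDg.ffconj (ffconj_of_isConjSub F hc)
  have hgt : ∀ E : Subgroup (S × S), n < Nat.card E → mark E X' = mark E X := by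
    intro E hE
    rw [hmark, Nat.add_eq_left]
    refine Finset.sum_eq_zero (fun D _ => ?_)
    by_cases hkD : k D = 0
    · rw [hkD, zero_mul]
    · obtain ⟨-, -, hc⟩ := hk D hkD
      rw [mark_quotient_of_card_lt E D (by omega), mul_zero]
  have heq : ∀ E, IsFGraph F E → Nat.card E = n → mark E X' = M E := by
    intro E hE hcE
    have hrc : IsConjSub (repSub E) E := repSub_conj E
    have hrg : IsFGraph F (repSub E) := hE.ffconj (ffconj_of_isConjSub F hrc)
    have hrn : Nat.card (repSub E) = n := by rw [hrc.card_eq, hcE]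
    have hrr : repSub (repSub E) = repSub E := repSub_eq hrc
    have hsum : ∑ D : Subgroup (S × S), k D * mark E ((S × S) ⧸ D)
        = k (repSub E) * mark E ((S × S) ⧸ repSub E) := by
      refine Finset.sum_eq_single (repSub E) (fun D _ hD => ?_) (fun h => absurd (Finset.mem_univ _) h)
      by_cases hkD : k D = 0
      · rw [hkD, zero_mul]
      · obtain ⟨hr, -, hc⟩ := hk D hkD
        by_cases hm : mark E ((S × S) ⧸ D) = 0
        · rw [hm, mul_zero]
        · exfalso
          obtain ⟨g, hg⟩ := exists_conj_of_mark_ne_zero E D (by rw [hcE, hc]) hm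
          have : repSub E = repSub D := repSub_eq ⟨g, hg⟩
          exact hD (by rw [← hr, this])
    obtain ⟨g, hg⟩ := hrc.symm
    have hkr : k (repSub E) = (M (repSub E) - mark (repSub E) X)
        / (repSub E).relIndex (Subgroup.normalizer ((repSub E : Subgroup (S × S)) : Set (S × S))) :=
      if_pos ⟨hrr, hrg, hrn⟩
    rw [hmark, hsum, hkr, mark_quotient_of_conj E (repSub E) g hg,
      Nat.div_mul_cancel (hM2 (repSub E) hrg hrn)]
    have h1 : M (repSub E) = M E := (hM3 E (repSub E) hE hcE (ffconj_of_isConjSub F hrc)).symm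
    have h2 : mark (repSub E) X = mark E X := (mark_conj X E (repSub E) g hg).symm
    rw [h1, h2]
    have := hM1 E hE hcE
    omega
  refine ⟨X', inferInstance, inferInstance, hgen', ?_, hgt, heq, ?_, ?_⟩
  · intro D D' hDD' hn
    rcases Nat.lt_or_eq_of_le hn with hlt | heqn
    · rw [hgt D hlt, hgt D' (by rw [← hDD'.card_eq]; exact hlt)]
      exact hst D D' hDD' hlt
    · by_cases hDg : IsFGraph F D
      · have hD'g : IsFGraph F D' := hDg.ffconj hDD'
        rw [heq D hDg heqn.symm, heq D' hD'g (by rw [← hDD'.card_eq]; exact heqn.symm)]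
        exact hM3 D D' hDg heqn.symm hDD'
      · have hD'g : ¬ IsFGraph F D' := fun h => hDg (h.ffconj hDD'.symm)
        rw [mark_eq_zero_of_not_graph hgen' hDg, mark_eq_zero_of_not_graph hgen' hD'g]
  · rintro D₀ ⟨x, hx⟩
    exact ⟨Sum.inl x, by rw [stabilizer_inl]; exact hx⟩
  · intro m hm hmM E
    rw [hmark]
    refine Dvd.dvd.add (hm E) (Finset.dvd_sum (fun D _ => ?_))
    by_cases hkD : k D = 0
    · rw [hkD, zero_mul]; exact dvd_zero m
    · obtain ⟨hr, hDg, hc⟩ := hk D hkD
      have hkr : k D = (M D - mark D X)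
          / D.relIndex (Subgroup.normalizer ((D : Subgroup (S × S)) : Set (S × S))) :=
        if_pos ⟨hr, hDg, hc⟩
      rw [hkr]
      apply Dvd.dvd.mul_right
      have h3 := hmM D hDg hc
      rw [mul_comm] at h3
      exact Nat.dvd_div_of_mul_dvd h3

theorem stabilizer_base (D : Subgroup (S × S)) :
    stabilizer (S × S) (((1 : S × S) : (S × S) ⧸ D)) = D := by
  ext k
  rw [stabilizer_quotient_mk]
  simp

theorem genBy_quotient (F : FusionSystem S) {D : Subgroup (S × S)} (hD : IsFGraph F D)
    (q : (S × S) ⧸ D) : IsFGraph F (stabilizer (S × S) q) := by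
  induction q using QuotientGroup.induction_on with
  | H γ =>
    have hc : IsConjSub (stabilizer (S × S) ((γ : S × S) : (S × S) ⧸ D)) D :=
      ⟨γ, fun d => stabilizer_quotient_mk D γ d⟩
    exact hD.ffconj (ffconj_of_isConjSub F hc)

theorem relIndex_normalizer_dvd [Finite S] (E : Subgroup (S × S)) :
    E.relIndex (Subgroup.normalizer (E : Set (S × S))) ∣ Nat.card (S × S) :=
  (Subgroup.relIndex_dvd_card _ _).trans (Subgroup.card_subgroup_dvd_card _)

/-- For any fusion system over a finite group `S` there is a finite `(S, S)`-biset, generated by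
maps of the system, whose marks are invariant under the system, containing a copy of `S`. -/
theorem exists_stable_biset [Finite S] (F : FusionSystem S) :
    ∃ (X : Type u) (_ : MulAction (S × S) X) (_ : Finite X), GenBy F X ∧
      (∀ D D' : Subgroup (S × S), FFConj F D D' → mark D X = mark D' X) ∧
      ∃ x : X, stabilizer (S × S) x = diagSub S := by
  classical
  set q := Nat.card (S × S) with hq
  have hqpos : 0 < q := Nat.card_pos
  have main : ∀ j, j ≤ Nat.card S → ∃ (X : Type u) (_ : MulAction (S × S) X) (_ : Finite X),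
      GenBy F X ∧ StableAbove F X (Nat.card S - j) ∧
      (∃ x : X, stabilizer (S × S) x = diagSub S) ∧
      ∀ E : Subgroup (S × S), q ^ (Nat.card S + 1 - j) ∣ mark E X := by
    intro j
    induction j with
    | zero =>
      intro _
      have hN : 0 < q ^ (Nat.card S + 1) := Nat.pow_pos hqpos
      have hgen : GenBy F (Σ _ : Fin (q ^ (Nat.card S + 1)),
          (S × S) ⧸ (diagSub S : Subgroup (S × S))) := by
        rintro ⟨i, x⟩
        rw [stabilizer_sigma_mk]
        exact genBy_quotient F (isFGraph_diag F le_rfl) x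
      refine ⟨Σ _ : Fin (q ^ (Nat.card S + 1)), (S × S) ⧸ (diagSub S : Subgroup (S × S)),
        inferInstance, inferInstance, hgen, stableAbove_top hgen, ?_, ?_⟩
      · refine ⟨⟨⟨0, hN⟩, ((1 : S × S) : (S × S) ⧸ (diagSub S : Subgroup (S × S)))⟩, ?_⟩
        rw [stabilizer_sigma_mk, stabilizer_base]
      · intro E
        rw [mark_sigma, Finset.sum_const, Finset.card_univ, Fintype.card_fin, smul_eq_mul]
        exact Dvd.intro _ rfl
    | succ j ih =>
      intro hj
      obtain ⟨X, iX, fX, hgen, hst, hbase, hdiv⟩ := ih (by omega)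
      have e1 : Nat.card S + 1 - j = (Nat.card S - j) + 1 := by omega
      have e2 : Nat.card S + 1 - (j + 1) = Nat.card S - j := by omega
      have e3 : Nat.card S - (j + 1) = Nat.card S - j - 1 := by omega
      have hnpos : 0 < Nat.card S - j := by omega
      rw [e1] at hdiv
      set n := Nat.card S - j with hn
      obtain ⟨X', iX', fX', hgen', hst', -, -, hbase', hdiv'⟩ := biset_step F X n hgen hst
        (fun _ => q ^ (n + 1) * (Nat.card X + 1))
        (fun E _ _ => by
          have h1 := mark_le_card E X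
          have h2 : 0 < q ^ (n + 1) := Nat.pow_pos hqpos
          nlinarith)
        (fun E _ _ => by
          have h1 : E.relIndex (Subgroup.normalizer (E : Set (S × S))) ∣ q ^ (n + 1) :=
            (relIndex_normalizer_dvd E).trans (dvd_pow_self q (by omega))
          exact Nat.dvd_sub (h1.mul_right _) (h1.trans (hdiv E)))
        (fun _ _ _ _ _ => rfl)
      refine ⟨X', iX', fX', hgen', ?_, hbase' _ hbase, ?_⟩
      · intro D D' hDD' hlt
        exact hst' D D' hDD' (by omega)
      · rw [e2]
        refine hdiv' (q ^ n) (fun E => (pow_dvd_pow q (Nat.le_succ n)).trans (hdiv E))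
          (fun E _ _ => ?_)
        have h1 : q ^ n * E.relIndex (Subgroup.normalizer (E : Set (S × S))) ∣ q ^ (n + 1) := by
          rw [pow_succ]
          exact mul_dvd_mul_left _ (relIndex_normalizer_dvd E)
        exact Nat.dvd_sub (h1.mul_right _) (h1.trans (hdiv E))
  obtain ⟨X, iX, fX, hgen, hst, hbase, -⟩ := main (Nat.card S) le_rfl
  refine ⟨X, iX, fX, hgen, fun D D' hDD' => hst D D' hDD' ?_, hbase⟩
  rw [Nat.sub_self]
  exact Nat.card_pos

end Cfsg.Agent.Lib.Helper88
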