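import Mathlib
import Cfsg.Prelude.Def_FusionSystem
import Cfsg.Agent.Lib.Helper88.FusBasic
import Cfsg.Agent.Lib.Helper88.FusSat
import Cfsg.Agent.Lib.Helper88.GSetMarks
import Cfsg.Agent.Lib.Helper88.FGraph
import Cfsg.Agent.Lib.Helper88.Biset

set_option autoImplicit false

namespace Cfsg.Agent.Lib.Helper88

open Cfsg Cfsg.FusionSystem MulAction

universe u

variable {Ω : Type u} [Group Ω] {S : Subgroup Ω}

/-- The permutations of an `(S, S)`-biset commuting with the right action. -/
def rightPerm (S : Subgroup Ω) (X : Type u) [MulAction (S × S) X] : Subgroup (Equiv.Perm X) where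
  carrier := {θ | ∀ (b : S) (x : X), θ (((1 : S), b) • x) = ((1 : S), b) • θ x}
  mul_mem' := by
    intro θ θ' h h' b x
    show θ (θ' (((1 : S), b) • x)) = ((1 : S), b) • θ (θ' x)
    rw [h', h]
  one_mem' := fun _ _ => rfl
  inv_mem' := by
    intro θ h b x
    apply θ.injective
    rw [h]
    simp

theorem mem_rightPerm {X : Type u} [MulAction (S × S) X] {θ : Equiv.Perm X} :
    θ ∈ (rightPerm S X : Subgroup (Equiv.Perm X)) ↔
      ∀ (b : S) (x : X), θ (((1 : S), b) • x) = ((1 : S), b) • θ x := Iff.rfl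

/-- The left action, as a homomorphism into the permutations commuting with the right action. -/
def leftHom (S : Subgroup Ω) (X : Type u) [MulAction (S × S) X] :
    S →* (rightPerm S X : Subgroup (Equiv.Perm X)) :=
  ((MulAction.toPermHom (S × S) X).comp (MonoidHom.inl S S)).codRestrict _ (by
    intro a b x
    show (a, (1 : S)) • ((1 : S), b) • x = ((1 : S), b) • (a, (1 : S)) • x
    rw [smul_smul, smul_smul]
    simp)

theorem leftHom_apply (X : Type u) [MulAction (S × S) X] (a : S) (x : X) :
    ((leftHom S X a : rightPerm S X) : Equiv.Perm X) x = (a, (1 : S)) • x := rfl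

theorem mark_compHom {G H : Type*} [Group G] [Group H] (j : H →* G) (D : Subgroup H)
    (X : Type u) [MulAction G X] :
    @mark H _ D X (MulAction.compHom X j) = mark (D.map j) X := by
  unfold mark
  refine Nat.card_congr (Equiv.subtypeEquivRight (fun x => ?_))
  constructor
  · rintro h _ ⟨d, hd, rfl⟩
    exact h d hd
  · intro h d hd
    exact h (j d) ⟨d, hd, rfl⟩

/-- In a biset with marks invariant under the system, every map of the system is induced by a
permutation commuting with the right action. -/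
theorem exists_perm_of_hom [Finite S] (F : FusionSystem S) (X : Type u) [MulAction (S × S) X]
    [Finite X] (hst : ∀ D D' : Subgroup (S × S), FFConj F D D' → mark D X = mark D' X)
    {P : Subgroup Ω} (hP : P ≤ S) {φ : P →* Ω} (hφ : φ ∈ F.Hom P)
    (hφS : ∀ x : P, φ x ∈ S) :
    ∃ θ : Equiv.Perm X, θ ∈ (rightPerm S X : Subgroup (Equiv.Perm X)) ∧
      ∀ (a : P) (x : X), θ (((⟨a, hP a.2⟩ : S), (1 : S)) • x)
        = ((⟨φ a, hφS a⟩ : S), (1 : S)) • θ x := by
  have hfinP : Finite P := Finite.of_injective _ (Subgroup.inclusion_injective hP)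
  let j₁ : P × S →* S × S := (Subgroup.inclusion hP).prodMap (MonoidHom.id S)
  let j₂ : P × S →* S × S := (φ.codRestrict S hφS).prodMap (MonoidHom.id S)
  have hmor : Mor F P (extFun φ) := mor_of_hom F hφ
  have hmarks : ∀ H : Subgroup (P × S),
      @mark (P × S) _ H X (MulAction.compHom X j₁) = @mark (P × S) _ H X (MulAction.compHom X j₂) := by
    intro H
    rw [mark_compHom, mark_compHom]
    apply hst
    have hle : pr1 (H.map j₁) ≤ P := by
      intro x hx
      obtain ⟨g, ⟨h, -, rfl⟩, rfl⟩ := mem_pr1.1 hx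
      exact h.1.2
    refine ⟨extFun φ, fun x => x, hmor.res hle, mor_id F (pr2_le _), fun g' => ?_⟩
    constructor
    · rintro ⟨h, hh, rfl⟩
      refine ⟨j₁ h, ⟨h, hh, rfl⟩, ?_, rfl⟩
      show extFun φ ((h.1 : P) : Ω) = φ h.1
      exact extFun_apply φ h.1
    · rintro ⟨g, ⟨h, hh, rfl⟩, e1, e2⟩
      refine ⟨h, hh, Prod.ext (Subtype.ext ?_) (Subtype.ext ?_)⟩
      · rw [← e1]
        show φ h.1 = extFun φ ((h.1 : P) : Ω)
        exact (extFun_apply φ h.1).symm
      · exact e2
  obtain ⟨e, he⟩ := @exists_equivariant_equiv (P × S) _ _ X X (MulAction.compHom X j₁)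
    (MulAction.compHom X j₂) _ _ hmarks
  have he' : ∀ (h : P × S) (x : X), e (j₁ h • x) = j₂ h • e x := he
  refine ⟨e, ?_, ?_⟩
  · intro b x
    have := he' ((1 : P), b) x
    have h1 : j₁ ((1 : P), b) = ((1 : S), b) := Prod.ext (Subtype.ext rfl) rfl
    have h2 : j₂ ((1 : P), b) = ((1 : S), b) :=
      Prod.ext (Subtype.ext (by show φ 1 = ((1 : S) : Ω); rw [map_one]; rfl)) rfl
    rw [h1, h2] at this
    exact this
  · intro a x
    have := he' (a, (1 : S)) x
    exact this

end Cfsg.Agent.Lib.Helper88
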