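import Mathlib
import Cfsg.Prelude.Def_FusionSystem
import Cfsg.Agent.Lib.Helper88.FusBasic
import Cfsg.Agent.Lib.Helper88.FusSat
import Cfsg.Agent.Lib.Helper88.GSetMarks
import Cfsg.Agent.Lib.Helper88.FGraph
import Cfsg.Agent.Lib.Helper88.Biset
import Cfsg.Agent.Lib.Helper88.BisetPerm

set_option autoImplicit false

namespace Cfsg.Agent.Lib.Helper88

open Cfsg Cfsg.FusionSystem MulAction

universe u

variable {Ω : Type u} [Group Ω] {S : Subgroup Ω}

theorem card_lt_of_lt {G : Type*} [Group G] [Finite G] {H K : Subgroup G} (h : H < K) :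
    Nat.card H < Nat.card K := by
  by_contra hcon
  have := Subgroup.eq_of_le_of_card_ge h.le (not_lt.1 hcon)
  exact h.ne this

theorem le_normalizerIn_self {P : Subgroup Ω} (hP : P ≤ S) : P ≤ normalizerIn S P :=
  le_inf hP Subgroup.le_normalizer

/-- The action of an element of the normalizer of a graph on the graph. -/
theorem normalizer_graph {F : FusionSystem S} {E : Subgroup (S × S)} {P : Subgroup Ω} {f : Ω → Ω}
    (hf : Mor F P f) (hD : ∀ g : S × S, g ∈ E ↔ (g.1 : Ω) ∈ P ∧ (g.2 : Ω) = f (g.1 : Ω))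
    {γ : S × S} (hγ : γ ∈ Subgroup.normalizer (E : Set (S × S))) {x : Ω} (hx : x ∈ P) :
    (γ.1 : Ω) * x * (γ.1 : Ω)⁻¹ ∈ P ∧
      f ((γ.1 : Ω) * x * (γ.1 : Ω)⁻¹) = (γ.2 : Ω) * f x * (γ.2 : Ω)⁻¹ := by
  have hg : ((⟨x, hf.le hx⟩ : S), (⟨f x, hf.mem_S hx⟩ : S)) ∈ E := (hD _).2 ⟨hx, rfl⟩
  have h1 := (Subgroup.mem_normalizer_iff.1 hγ _).1 hg
  have h2 := (hD _).1 h1
  exact ⟨h2.1, h2.2.symm⟩

/-- The balancing congruence (Broto–Levi–Oliver): the mark of a graph is congruent to the mark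
of the diagonal of a fully automized receptive conjugate, modulo the index of the graph in its
normalizer. -/
theorem balance [Finite S] {p : ℕ} [Fact p.Prime] (hS : IsPGroup p S) (F : FusionSystem S)
    (X : Type u) [MulAction (S × S) X] [Finite X] (n : ℕ) (hst : StableAbove F X n)
    {E : Subgroup (S × S)} (hE : IsFGraph F E) (hcE : Nat.card E = n) {P₀ : Subgroup Ω}
    (hfa : F.IsFullyAutomized p P₀) (hrec : F.IsReceptive P₀)
    (hconj : FFConj F E (diagSub P₀)) :
    mark E X ≡ mark (diagSub P₀ : Subgroup (S × S)) X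
      [MOD E.relIndex (Subgroup.normalizer (E : Set (S × S)))] := by
  obtain ⟨P, f, hf, hD⟩ := hE
  have e1 := pr1_of_graph hf hD
  have e2 := pr2_of_graph hf hD
  have hPS : P ≤ S := hf.le
  obtain ⟨k₁, k₂, hk1, hk2, hDk⟩ := hconj
  have hk1img : img P k₁ = P₀ := by
    have := pr1_of_ff hk1 hk2 hDk
    rw [pr1_diagSub F hfa.1, e1] at this
    exact this.symm
  rw [e1] at hk1
  obtain ⟨χ₁, hχ₁, hχ₁img⟩ := lemma26a hS hfa hrec hk1 hk1img
  set N' : Subgroup (S × S) := Subgroup.normalizer (E : Set (S × S)) with hN'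
  have hEN : E ≤ N' := Subgroup.le_normalizer
  have hpr1N : pr1 N' ≤ normalizerIn S P := by
    intro a ha
    obtain ⟨γ, hγ, rfl⟩ := mem_pr1.1 ha
    refine ⟨γ.1.2, Subgroup.mem_normalizer_iff.2 (fun x => ⟨fun hx => ?_, fun hx => ?_⟩)⟩
    · exact (normalizer_graph hf hD hγ hx).1
    · have hγ' : γ⁻¹ ∈ N' := N'.inv_mem hγ
      have := (normalizer_graph hf hD hγ' hx).1
      have e : (((γ⁻¹).1 : S) : Ω) * ((γ.1 : Ω) * x * (γ.1 : Ω)⁻¹) * (((γ⁻¹).1 : S) : Ω)⁻¹ = x := by
        show (((γ.1)⁻¹ : S) : Ω) * ((γ.1 : Ω) * x * (γ.1 : Ω)⁻¹) * (((γ.1)⁻¹ : S) : Ω)⁻¹ = x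
        rw [Subgroup.coe_inv]; group
      rw [e] at this
      exact this
  have hχ₁N : Mor F (pr1 N') χ₁ := hχ₁.res hpr1N
  obtain ⟨f', hf', hf'f⟩ := hf.exists_inv
  have hf'P : ∀ y ∈ img P f, f' y ∈ P := by
    intro y hy
    obtain ⟨x, hx, rfl⟩ := hf.mem_img.1 hy
    rw [hf'f x hx]; exact hx
  have hρ : Mor F (img P f) (fun y => χ₁ (f' y)) :=
    hf'.comp (hχ₁.res (le_normalizerIn_self hPS)) hf'P
  have hρimg : img (img P f) (fun y => χ₁ (f' y)) = P₀ := by
    rw [← hχ₁img]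
    ext y
    rw [hρ.mem_img, (hχ₁.res (le_normalizerIn_self hPS)).mem_img]
    constructor
    · rintro ⟨z, hz, rfl⟩
      exact ⟨f' z, hf'P z hz, rfl⟩
    · rintro ⟨x, hx, rfl⟩
      exact ⟨f x, hf.apply_mem_img hx, by show χ₁ (f' (f x)) = χ₁ x; rw [hf'f x hx]⟩
  have hnorm2 : ∀ γ ∈ N', ∀ y ∈ img P f, (γ.2 : Ω) * y * (γ.2 : Ω)⁻¹ ∈ img P f := by
    intro γ hγ y hy
    obtain ⟨x, hx, rfl⟩ := hf.mem_img.1 hy
    rw [← (normalizer_graph hf hD hγ hx).2]
    exact hf.apply_mem_img (normalizer_graph hf hD hγ hx).1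
  have hrecN : ∀ g ∈ pr2 N', g ∈ S ∧ g ∈ Subgroup.normalizer ((img P f : Subgroup Ω) : Set Ω) ∧
      ∃ h ∈ S, ∀ x ∈ img P f, (fun y => χ₁ (f' y)) (g * x * g⁻¹) = h * (fun y => χ₁ (f' y)) x * h⁻¹ := by
    intro b hb
    obtain ⟨γ, hγ, rfl⟩ := mem_pr2.1 hb
    refine ⟨γ.2.2, Subgroup.mem_normalizer_iff.2 (fun y => ⟨fun hy => hnorm2 γ hγ y hy, fun hy => ?_⟩), ?_⟩
    · have hγ' : γ⁻¹ ∈ N' := N'.inv_mem hγ
      have := hnorm2 γ⁻¹ hγ' _ hy
      have e : (((γ⁻¹).2 : S) : Ω) * ((γ.2 : Ω) * y * (γ.2 : Ω)⁻¹) * (((γ⁻¹).2 : S) : Ω)⁻¹ = y := by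
        show (((γ.2)⁻¹ : S) : Ω) * ((γ.2 : Ω) * y * (γ.2 : Ω)⁻¹) * (((γ.2)⁻¹ : S) : Ω)⁻¹ = y
        rw [Subgroup.coe_inv]; group
      rw [e] at this
      exact this
    · have haN : (γ.1 : Ω) ∈ normalizerIn S P := hpr1N (fst_mem_pr1 hγ)
      refine ⟨χ₁ γ.1, hχ₁.mem_S haN, fun y hy => ?_⟩
      obtain ⟨x, hx, rfl⟩ := hf.mem_img.1 hy
      have hxN : x ∈ normalizerIn S P := le_normalizerIn_self hPS hx
      have h1 := normalizer_graph hf hD hγ hx
      show χ₁ (f' ((γ.2 : Ω) * f x * (γ.2 : Ω)⁻¹)) = χ₁ γ.1 * χ₁ (f' (f x)) * (χ₁ γ.1)⁻¹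
      rw [← h1.2, hf'f _ h1.1, hf'f x hx,
        hχ₁.map_mul ((normalizerIn S P).mul_mem haN hxN) ((normalizerIn S P).inv_mem haN),
        hχ₁.map_mul haN hxN, hχ₁.map_inv haN]
  have hPN : img P f ≤ pr2 N' := by
    rw [← e2]; exact pr2_mono hEN
  obtain ⟨χ₂, hχ₂, hχ₂ρ⟩ := receptive_extend hrec hρ hρimg hrecN hPN
  -- the two actions of the normalizer
  let ι : N' →* S × S := ffHom F N' hχ₁N hχ₂
  let Δ : Subgroup N' := E.subgroupOf N'
  have hΔn : Δ.Normal := Subgroup.normal_in_normalizer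
  have hcΔ : Nat.card Δ = n := by
    rw [← hcE]; exact Nat.card_congr (Subgroup.subgroupOfEquivOfLe hEN).toEquiv
  have hmain := @mark_modEq N' _ _ Δ hΔn X X (MulAction.compHom X N'.subtype)
    (MulAction.compHom X ι) _ _ (by
      intro D hD'
      rw [mark_compHom, mark_compHom]
      apply hst _ _ (ffconj_map_ffHom F N' hχ₁N hχ₂ D)
      rw [Subgroup.card_map_of_injective N'.subtype_injective, ← hcΔ]
      exact card_lt_of_lt hD')
  rw [mark_compHom, mark_compHom] at hmain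
  have h1 : Δ.map N'.subtype = E := by
    rw [Subgroup.subgroupOf_map_subtype]; exact inf_eq_left.2 hEN
  have h2 : Δ.map ι = diagSub P₀ := by
    ext g'
    rw [mem_diagSub]
    constructor
    · rintro ⟨d, hd, rfl⟩
      have hdE : (d : S × S) ∈ E := hd
      have hdP := ((hD _).1 hdE).1
      have hd2 := ((hD _).1 hdE).2
      have e3 : ((ι d).1 : Ω) = χ₁ (d.1.1 : Ω) := rfl
      have e4 : ((ι d).2 : Ω) = χ₂ (d.1.2 : Ω) := rfl
      refine ⟨?_, ?_⟩
      · rw [e3, ← hχ₁img]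
        exact (hχ₁.res (le_normalizerIn_self hPS)).apply_mem_img hdP
      · rw [e3, e4, hd2, hχ₂ρ _ (hf.apply_mem_img hdP)]
        show χ₁ (f' (f (d.1.1 : Ω))) = χ₁ (d.1.1 : Ω)
        rw [hf'f _ hdP]
    · rintro ⟨h3, h4⟩
      rw [← hχ₁img] at h3
      obtain ⟨x, hx, e3⟩ := (hχ₁.res (le_normalizerIn_self hPS)).mem_img.1 h3
      have hgE : ((⟨x, hf.le hx⟩ : S), (⟨f x, hf.mem_S hx⟩ : S)) ∈ E := (hD _).2 ⟨hx, rfl⟩
      refine ⟨⟨_, hEN hgE⟩, hgE, Prod.ext (Subtype.ext ?_) (Subtype.ext ?_)⟩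
      · exact e3
      · show χ₂ (f x) = (g'.2 : Ω)
        rw [hχ₂ρ _ (hf.apply_mem_img hx), h4, ← e3]
        show χ₁ (f' (f x)) = χ₁ x
        rw [hf'f x hx]
  rw [h1, h2] at hmain
  exact hmain

theorem card_diagSub_top : Nat.card (diagSub S : Subgroup (S × S)) = Nat.card S := by
  refine Nat.card_congr ⟨fun g => g.1.1, fun a => ⟨(a, a), mem_diagSub.2 ⟨a.2, rfl⟩⟩, ?_, ?_⟩
  · rintro ⟨g, hg⟩
    exact Subtype.ext (Prod.ext rfl (Subtype.ext (mem_diagSub.1 hg).2.symm))
  · intro a; rfl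

/-- The characteristic biset of a saturated fusion system (Broto–Levi–Oliver). -/
theorem exists_char_biset [Finite S] {p : ℕ} [Fact p.Prime] (hS : IsPGroup p S)
    (F : FusionSystem S) (hF : F.IsSaturated p) :
    ∃ (X : Type u) (_ : MulAction (S × S) X) (_ : Finite X), GenBy F X ∧
      (∀ D D' : Subgroup (S × S), FFConj F D D' → mark D X = mark D' X) ∧
      (∃ x : X, stabilizer (S × S) x = diagSub S) ∧
      ∃ c : ℕ, mark (diagSub S : Subgroup (S × S)) X
        = (diagSub S : Subgroup (S × S)).relIndex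
            (Subgroup.normalizer ((diagSub S : Subgroup (S × S)) : Set (S × S)))
          + p * Nat.card S * c := by
  classical
  set q := Nat.card (S × S) with hq
  have hqpos : 0 < q := Nat.card_pos
  have hqS : q = Nat.card S * Nat.card S := Nat.card_prod S S
  have hppos : 0 < p := (Fact.out : p.Prime).pos
  set z₀ := (diagSub S : Subgroup (S × S)).relIndex
    (Subgroup.normalizer ((diagSub S : Subgroup (S × S)) : Set (S × S))) with hz₀
  let best : Subgroup (S × S) → Subgroup (S × S) := fun E =>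
    Classical.epsilon (fun D₀ => FFConj F E D₀ ∧
      ∃ P₀ : Subgroup Ω, D₀ = diagSub P₀ ∧ F.IsFullyAutomized p P₀ ∧ F.IsReceptive P₀)
  have hbest : ∀ E, IsFGraph F E → FFConj F E (best E) ∧
      ∃ P₀ : Subgroup Ω, best E = diagSub P₀ ∧ F.IsFullyAutomized p P₀ ∧ F.IsReceptive P₀ := by
    intro E hE
    obtain ⟨P₀, hfa, hrec, hc⟩ := hE.exists_best hF
    exact Classical.epsilon_spec (p := fun D₀ => FFConj F E D₀ ∧
      ∃ P₀ : Subgroup Ω, D₀ = diagSub P₀ ∧ F.IsFullyAutomized p P₀ ∧ F.IsReceptive P₀)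
      ⟨diagSub P₀, hc, P₀, rfl, hfa, hrec⟩
  have hbest_eq : ∀ E E', FFConj F E E' → best E = best E' := by
    intro E E' hEE'
    show Classical.epsilon _ = Classical.epsilon _
    congr 1
    funext D₀
    exact propext ⟨fun h => ⟨hEE'.symm.trans h.1, h.2⟩, fun h => ⟨hEE'.trans h.1, h.2⟩⟩
  have hbest_top : best (diagSub S) = diagSub S := by
    obtain ⟨hc, P₀, hP₀, hfa, -⟩ := hbest (diagSub S) (isFGraph_diag F le_rfl)
    rw [hP₀] at hc ⊢
    obtain ⟨k₁, k₂, hk1, hk2, hDk⟩ := hc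
    have := pr1_of_ff hk1 hk2 hDk
    rw [pr1_diagSub F hfa.1, pr1_diagSub F le_rfl] at this
    rw [pr1_diagSub F le_rfl] at hk1
    rw [this, hk1.img_top]
  have main : ∀ j, j ≤ Nat.card S → ∃ (X : Type u) (_ : MulAction (S × S) X) (_ : Finite X),
      GenBy F X ∧ StableAbove F X (Nat.card S - j) ∧
      (∃ x : X, stabilizer (S × S) x = diagSub S) ∧
      ∃ c : ℕ, mark (diagSub S : Subgroup (S × S)) X = z₀ + p * Nat.card S * c := by
    intro j
    induction j with
    | zero =>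
      intro _
      have hgen : GenBy F ((S × S) ⧸ (diagSub S : Subgroup (S × S))) :=
        fun x => genBy_quotient F (isFGraph_diag F le_rfl) x
      refine ⟨(S × S) ⧸ (diagSub S : Subgroup (S × S)), inferInstance, inferInstance, hgen,
        stableAbove_top hgen, ⟨((1 : S × S) : (S × S) ⧸ (diagSub S : Subgroup (S × S))),
          stabilizer_base _⟩, 0, ?_⟩
      rw [mark_quotient_self, mul_zero, add_zero]
    | succ j ih =>
      intro hj
      obtain ⟨X, iX, fX, hgen, hst, hbase, c, hc⟩ := ih (by omega)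
      have hnpos : 0 < Nat.card S - j := by omega
      set n := Nat.card S - j with hn
      have hM1 : ∀ E : Subgroup (S × S), mark E X ≤ mark (best E) X + p * Nat.card X * q := by
        intro E
        have h1 := mark_le_card E X
        have h2 : Nat.card X ≤ p * Nat.card X * q := by
          calc Nat.card X = 1 * Nat.card X * 1 := by ring
            _ ≤ p * Nat.card X * q := by gcongr <;> omega
        omega
      obtain ⟨X', iX', fX', hgen', hst', hgt', heq', hbase', -⟩ := biset_step F X n hgen hst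
        (fun E => mark (best E) X + p * Nat.card X * q)
        (fun E _ _ => hM1 E)
        (fun E hE hcE => by
          obtain ⟨hcb, P₀, hP₀, hfa, hrec⟩ := hbest E hE
          rw [hP₀] at hcb
          have hb := balance hS F X n hst hE hcE hfa hrec hcb
          rw [← hP₀] at hb
          have hr := relIndex_normalizer_dvd E
          have h3 : mark (best E) X + p * Nat.card X * q ≡ mark (best E) X
              [MOD E.relIndex (Subgroup.normalizer (E : Set (S × S)))] := by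
            have h4 : E.relIndex (Subgroup.normalizer (E : Set (S × S))) ∣ p * Nat.card X * q :=
              Dvd.dvd.mul_left hr _
            have h5 := Nat.ModEq.add_left (mark (best E) X) (Nat.modEq_zero_iff_dvd.2 h4)
            simpa using h5
          exact (Nat.modEq_iff_dvd' (hM1 E)).1 (hb.trans h3.symm))
        (fun E E' _ _ hEE' => by
          show mark (best E) X + p * Nat.card X * q = mark (best E') X + p * Nat.card X * q
          rw [hbest_eq E E' hEE'])
      refine ⟨X', iX', fX', hgen', ?_, hbase' _ hbase, ?_⟩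
      · intro D D' hDD' hlt
        exact hst' D D' hDD' (by omega)
      · rcases Nat.lt_or_ge n (Nat.card S) with hlt | hge
        · refine ⟨c, ?_⟩
          rw [hgt' (diagSub S) (by rw [card_diagSub_top]; exact hlt)]
          exact hc
        · have hnS : n = Nat.card S := by omega
          refine ⟨c + Nat.card X * Nat.card S, ?_⟩
          rw [heq' (diagSub S) (isFGraph_diag F le_rfl) (by rw [card_diagSub_top]; exact hnS.symm)]
          show mark (best (diagSub S)) X + p * Nat.card X * q = _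
          rw [hbest_top, hc, hqS]
          ring
  obtain ⟨X, iX, fX, hgen, hst, hbase, hc⟩ := main (Nat.card S) le_rfl
  refine ⟨X, iX, fX, hgen, fun D D' hDD' => hst D D' hDD' ?_, hbase, hc⟩
  rw [Nat.sub_self]
  exact Nat.card_pos

end Cfsg.Agent.Lib.Helper88
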