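import Mathlib
import Cfsg.Prelude.Def_FusionSystem
import Cfsg.Agent.Lib.Helper88.FusBasic
import Cfsg.Agent.Lib.Helper88.FusSat
import Cfsg.Agent.Lib.Helper88.GSetMarks
import Cfsg.Agent.Lib.Helper88.FGraph
import Cfsg.Agent.Lib.Helper88.Biset
import Cfsg.Agent.Lib.Helper88.BisetPerm

set_option autoImplicit false

namespace Cfsg.Agent.Lib.Helper88

open Cfsg Cfsg.FusionSystem MulAction

universe u v

variable {Ω : Type u} [Group Ω] {S : Subgroup Ω}

/-- Two points of a biset lie in the same orbit of the right action. -/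
def rightSetoid (S : Subgroup Ω) (X : Type u) [MulAction (S × S) X] : Setoid X where
  r x x' := ∃ b : S, ((1 : S), b) • x = x'
  iseqv := by
    refine ⟨fun x => ⟨1, one_smul (S × S) x⟩, ?_, ?_⟩
    · rintro x x' ⟨b, hb⟩
      refine ⟨b⁻¹, ?_⟩
      rw [← hb, smul_smul]
      have : ((1 : S), b⁻¹) * ((1 : S), b) = 1 := by ext <;> simp
      rw [this, one_smul]
    · rintro x x' x'' ⟨b, hb⟩ ⟨b', hb'⟩
      refine ⟨b' * b, ?_⟩
      rw [← hb', ← hb, smul_smul]
      have : ((1 : S), b') * ((1 : S), b) = ((1 : S), b' * b) := by ext <;> simp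
      rw [this]

/-- The set of orbits of the right action. -/
abbrev RQ (S : Subgroup Ω) (X : Type u) [MulAction (S × S) X] : Type u :=
  Quotient (rightSetoid S X)

/-- The right orbit of a point. -/
def rq (S : Subgroup Ω) {X : Type u} [MulAction (S × S) X] (x : X) : RQ S X :=
  Quotient.mk (rightSetoid S X) x

theorem rq_eq_iff {X : Type u} [MulAction (S × S) X] {x x' : X} :
    rq S x = rq S x' ↔ ∃ b : S, ((1 : S), b) • x = x' :=
  Quotient.eq (r := rightSetoid S X)

theorem rq_smul {X : Type u} [MulAction (S × S) X] (b : S) (x : X) :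
    rq S (((1 : S), b) • x) = rq S x :=
  (rq_eq_iff.2 ⟨b, rfl⟩).symm

noncomputable instance rqFintype (S : Subgroup Ω) (X : Type u) [MulAction (S × S) X] [Finite X] :
    Fintype (RQ S X) := Fintype.ofFinite _

/-- The right action is free. -/
def RightFree (S : Subgroup Ω) (X : Type u) [MulAction (S × S) X] : Prop :=
  ∀ (b : S) (x : X), ((1 : S), b) • x = x → b = 1

theorem genBy_rightFree {F : FusionSystem S} {X : Type u} [MulAction (S × S) X]
    (hgen : GenBy F X) : RightFree S X :=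
  fun _ x h => (hgen x).snd_eq_one (mem_stabilizer_iff.2 h)

section Section

variable {X : Type u} [MulAction (S × S) X] (σ : RQ S X → X) (hσ : ∀ y, rq S (σ y) = y)

include hσ in
theorem exists_bet (x : X) : ∃ b : S, ((1 : S), b) • σ (rq S x) = x :=
  rq_eq_iff.1 (hσ (rq S x))

/-- The position of a point relative to the chosen representative of its right orbit. -/
noncomputable def bet (x : X) : S := Classical.choose (exists_bet σ hσ x)

theorem bet_spec (x : X) : ((1 : S), bet σ hσ x) • σ (rq S x) = x :=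
  Classical.choose_spec (exists_bet σ hσ x)

theorem bet_unique (hfree : RightFree S X) {x : X} {b : S}
    (h : ((1 : S), b) • σ (rq S x) = x) : b = bet σ hσ x := by
  have h1 := bet_spec σ hσ x
  have h2 : ((1 : S), (bet σ hσ x)⁻¹ * b) • σ (rq S x) = σ (rq S x) := by
    have e : ((1 : S), (bet σ hσ x)⁻¹ * b) = ((1 : S), bet σ hσ x)⁻¹ * ((1 : S), b) := by
      ext <;> simp
    rw [e, mul_smul, h, inv_smul_eq_iff, h1]
  have h3 := hfree _ _ h2
  exact (inv_mul_eq_one.1 h3).symm

theorem bet_smul (hfree : RightFree S X) (b : S) (x : X) :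
    bet σ hσ (((1 : S), b) • x) = b * bet σ hσ x := by
  symm
  apply bet_unique σ hσ hfree
  rw [rq_smul]
  have e : ((1 : S), b * bet σ hσ x) = ((1 : S), b) * ((1 : S), bet σ hσ x) := by
    ext <;> simp
  rw [e, mul_smul, bet_spec]

theorem bet_section (hfree : RightFree S X) (y : RQ S X) : bet σ hσ (σ y) = 1 := by
  symm
  apply bet_unique σ hσ hfree
  rw [hσ y]
  exact one_smul (S × S) _

include hσ in
theorem card_eq_card_rq_mul [Finite S] [Finite X] (hfree : RightFree S X) :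
    Nat.card X = Nat.card (RQ S X) * Nat.card S := by
  rw [← Nat.card_prod]
  refine Nat.card_congr ⟨fun x => (rq S x, bet σ hσ x), fun w => ((1 : S), w.2) • σ w.1, ?_, ?_⟩
  · intro x
    exact bet_spec σ hσ x
  · rintro ⟨y, b⟩
    refine Prod.ext ?_ ?_
    · show rq S (((1 : S), b) • σ y) = y
      rw [rq_smul, hσ]
    · show bet σ hσ (((1 : S), b) • σ y) = b
      rw [bet_smul σ hσ hfree, bet_section σ hσ hfree, mul_one]

include hσ in
theorem rq_perm {θ : Equiv.Perm X} (hθ : θ ∈ rightPerm S X) (x : X) :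
    rq S (θ x) = rq S (θ (σ (rq S x))) := by
  conv_lhs => rw [← bet_spec σ hσ x]
  rw [hθ, rq_smul]

theorem bet_perm (hfree : RightFree S X) {θ : Equiv.Perm X} (hθ : θ ∈ rightPerm S X) (x : X) :
    bet σ hσ (θ x) = bet σ hσ x * bet σ hσ (θ (σ (rq S x))) := by
  conv_lhs => rw [← bet_spec σ hσ x]
  rw [hθ, bet_smul σ hσ hfree]

include hσ in
theorem bar_bijective [Finite X] {θ : Equiv.Perm X} (hθ : θ ∈ rightPerm S X) :
    Function.Bijective (fun y : RQ S X => rq S (θ (σ y))) := by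
  apply Finite.injective_iff_bijective.1
  intro y₁ y₂ h
  obtain ⟨b, hb⟩ := rq_eq_iff.1 (h : rq S (θ (σ y₁)) = rq S (θ (σ y₂)))
  rw [← hθ] at hb
  have h2 := θ.injective hb
  have h3 := congrArg (rq S) h2
  rw [rq_smul, hσ, hσ] at h3
  exact h3

/-- The transfer homomorphism of a right-free biset, from the permutations commuting with the
right action to a commutative group. -/
noncomputable def transferHom [Finite X] (hfree : RightFree S X) {A : Type v} [CommGroup A]
    (ψ : S →* A) : rightPerm S X →* A where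
  toFun θ := ∏ y : RQ S X, ψ (bet σ hσ ((θ : Equiv.Perm X) (σ y)))
  map_one' := by
    apply Finset.prod_eq_one
    intro y _
    show ψ (bet σ hσ (σ y)) = 1
    rw [bet_section σ hσ hfree, map_one]
  map_mul' := by
    intro θ θ'
    have h1 : ∀ y : RQ S X, ψ (bet σ hσ (((θ * θ' : rightPerm S X) : Equiv.Perm X) (σ y)))
        = ψ (bet σ hσ ((θ' : Equiv.Perm X) (σ y)))
          * ψ (bet σ hσ ((θ : Equiv.Perm X) (σ (rq S ((θ' : Equiv.Perm X) (σ y)))))) := by
      intro y
      show ψ (bet σ hσ ((θ : Equiv.Perm X) ((θ' : Equiv.Perm X) (σ y)))) = _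
      rw [bet_perm σ hσ hfree θ.2, map_mul]
    rw [Finset.prod_congr rfl (fun y _ => h1 y), Finset.prod_mul_distrib,
      (bar_bijective σ hσ θ'.2).prod_comp
        (fun y' => ψ (bet σ hσ ((θ : Equiv.Perm X) (σ y')))), mul_comm]

theorem transferHom_apply [Finite X] (hfree : RightFree S X) {A : Type v} [CommGroup A]
    (ψ : S →* A) (θ : rightPerm S X) :
    transferHom σ hσ hfree ψ θ = ∏ y : RQ S X, ψ (bet σ hσ ((θ : Equiv.Perm X) (σ y))) := rfl

end Section

/-- The transfer is invariant under the maps of the system. -/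
theorem transfer_stable [Finite S] (F : FusionSystem S) (X : Type u) [MulAction (S × S) X]
    [Finite X] (hst : ∀ D D' : Subgroup (S × S), FFConj F D D' → mark D X = mark D' X)
    {A : Type v} [CommGroup A] (T : rightPerm S X →* A)
    {P : Subgroup Ω} (hP : P ≤ S) {φ : P →* Ω} (hφ : φ ∈ F.Hom P) (hφS : ∀ x : P, φ x ∈ S)
    (a : P) : T (leftHom S X ⟨φ a, hφS a⟩) = T (leftHom S X ⟨a, hP a.2⟩) := by
  obtain ⟨θ, hθ, hθa⟩ := exists_perm_of_hom F X hst hP hφ hφS
  have h1 : (⟨θ, hθ⟩ : rightPerm S X) * leftHom S X ⟨a, hP a.2⟩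
      = leftHom S X ⟨φ a, hφS a⟩ * ⟨θ, hθ⟩ := by
    apply Subtype.ext
    apply Equiv.ext
    intro x
    exact hθa a x
  have h2 := congrArg T h1
  rw [map_mul, map_mul, mul_comm] at h2
  exact (mul_right_cancel h2).symm

/-- A section of the right orbits that is equivariant for a permutation acting on the biset
with the same point stabilizers as on the set of right orbits. -/
theorem exists_equivariant_section {X : Type u} [MulAction (S × S) X] [Finite X]
    (κ : Equiv.Perm X) (hκ : κ ∈ rightPerm S X)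
    (hprop : ∀ (x : X) (k : ℕ), rq S ((κ ^ k) x) = rq S x → (κ ^ k) x = x) :
    ∃ σ : RQ S X → X, (∀ y, rq S (σ y) = y) ∧ ∀ y, κ (σ y) = σ (rq S (κ (σ y))) := by
  classical
  set N := orderOf κ with hN
  have hNpos : 0 < N := orderOf_pos κ
  have hκN : κ ^ N = 1 := pow_orderOf_eq_one κ
  have hpowmem : ∀ k : ℕ, κ ^ k ∈ rightPerm S X := fun k => (rightPerm S X).pow_mem hκ k
  have key : ∀ (x₀ : X) (a b : ℕ), rq S ((κ ^ a) x₀) = rq S ((κ ^ b) x₀) →
      (κ ^ a) x₀ = (κ ^ b) x₀ := by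
    intro x₀ a b h
    have e : (κ ^ (a + (N - 1) * b)) ((κ ^ b) x₀) = (κ ^ a) x₀ := by
      rw [← Equiv.Perm.mul_apply, ← pow_add]
      have : a + (N - 1) * b + b = a + N * b := by
        have : N - 1 + 1 = N := by omega
        calc a + (N - 1) * b + b = a + (N - 1 + 1) * b := by ring
          _ = a + N * b := by rw [this]
      rw [this, pow_add, pow_mul, hκN, one_pow, mul_one]
    have h2 := hprop ((κ ^ b) x₀) (a + (N - 1) * b) (by rw [e]; exact h)
    rw [e] at h2
    exact h2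
  let R : Setoid X :=
    { r := fun x x' => ∃ (k : ℕ) (b : S), x' = ((1 : S), b) • (κ ^ k) x
      iseqv := by
        refine ⟨fun x => ⟨0, 1, by rw [pow_zero]; exact (one_smul (S × S) _).symm⟩, ?_, ?_⟩
        · rintro x x' ⟨k, b, rfl⟩
          refine ⟨(N - 1) * k, b⁻¹, ?_⟩
          rw [hpowmem ((N - 1) * k), smul_smul, ← Equiv.Perm.mul_apply, ← pow_add]
          have e1 : (N - 1) * k + k = N * k := by
            have : N - 1 + 1 = N := by omega
            calc (N - 1) * k + k = (N - 1 + 1) * k := by ring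
              _ = N * k := by rw [this]
          have e2 : ((1 : S), b⁻¹) * ((1 : S), b) = 1 := by ext <;> simp
          rw [e1, pow_mul, hκN, one_pow, e2, one_smul]
          rfl
        · rintro x x' x'' ⟨k, b, rfl⟩ ⟨k', b', rfl⟩
          refine ⟨k' + k, b' * b, ?_⟩
          rw [hpowmem k', smul_smul, ← Equiv.Perm.mul_apply, ← pow_add]
          have e2 : ((1 : S), b') * ((1 : S), b) = ((1 : S), b' * b) := by ext <;> simp
          rw [e2] }
  let r₀ : X → X := fun x => Quotient.out (Quotient.mk R x)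
  have hr₀ : ∀ x, ∃ (k : ℕ) (b : S), x = ((1 : S), b) • (κ ^ k) (r₀ x) := fun x =>
    Quotient.mk_out (s := R) x
  have hr₀eq : ∀ x x', (∃ (k : ℕ) (b : S), x' = ((1 : S), b) • (κ ^ k) x) → r₀ x = r₀ x' := by
    intro x x' h
    show Quotient.out (Quotient.mk R x) = Quotient.out (Quotient.mk R x')
    rw [Quotient.sound (s := R) h]
  have hr₀r₀ : ∀ x, r₀ (r₀ x) = r₀ x := fun x => hr₀eq _ _ (hr₀ x)
  let T : Set X := {t | ∃ k : ℕ, t = (κ ^ k) (r₀ t)}
  have hex : ∀ y : RQ S X, ∃ t, t ∈ T ∧ rq S t = y := by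
    intro y
    obtain ⟨x, rfl⟩ : ∃ x, rq S x = y := Quotient.exists_rep y
    obtain ⟨k, b, hx⟩ := hr₀ x
    refine ⟨(κ ^ k) (r₀ x), ⟨k, ?_⟩, ?_⟩
    · have : r₀ (r₀ x) = r₀ ((κ ^ k) (r₀ x)) :=
        hr₀eq _ _ ⟨k, 1, (one_smul (S × S) _).symm⟩
      rw [← this, hr₀r₀]
    · conv_rhs => rw [hx]
      rw [rq_smul]
  have huniq : ∀ t ∈ T, ∀ t' ∈ T, rq S t = rq S t' → t = t' := by
    rintro t ⟨k, ht⟩ t' ⟨k', ht'⟩ h
    obtain ⟨b, hb⟩ := rq_eq_iff.1 h
    have e : r₀ t = r₀ t' := hr₀eq _ _ ⟨0, b, by rw [pow_zero]; exact hb.symm⟩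
    rw [ht, ht', ← e]
    apply key
    rw [← ht, e, ← ht']
    exact h
  let σ : RQ S X → X := fun y => Classical.choose (hex y)
  have hσT : ∀ y, σ y ∈ T := fun y => (Classical.choose_spec (hex y)).1
  have hσ : ∀ y, rq S (σ y) = y := fun y => (Classical.choose_spec (hex y)).2
  refine ⟨σ, hσ, fun y => ?_⟩
  apply huniq _ _ _ (hσT _) ((hσ _).symm)
  obtain ⟨k, hk⟩ := hσT y
  refine ⟨k + 1, ?_⟩
  have e : r₀ (σ y) = r₀ (κ (σ y)) :=
    hr₀eq _ _ ⟨1, 1, by rw [pow_one]; exact (one_smul (S × S) _).symm⟩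
  rw [← e, pow_succ', Equiv.Perm.mul_apply, ← hk]

/-- The transfer of a right-free biset with marks invariant under the system: a homomorphism
`τ : S →* A` invariant under the maps of the system, whose value on an element `z` acting
centrally is a power of `ψ z`. -/
theorem exists_tau [Finite S] (F : FusionSystem S) (X : Type u) [MulAction (S × S) X] [Finite X]
    (hgen : GenBy F X)
    (hst : ∀ D D' : Subgroup (S × S), FFConj F D D' → mark D X = mark D' X)
    {A : Type v} [CommGroup A] (ψ : S →* A) (z : S) (hzc : ∀ s : S, s * z = z * s)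
    (hzF : ∀ (P : Subgroup Ω) (f : Ω → Ω), Mor F P f → ∀ k : ℕ, (z : Ω) ^ k ∈ P →
      f ((z : Ω) ^ k) = (z : Ω) ^ k) :
    ∃ τ : S →* A, (∀ (P : Subgroup Ω) (hP : P ≤ S) (φ : P →* Ω) (_ : φ ∈ F.Hom P)
        (hφS : ∀ x : P, φ x ∈ S) (a : P), τ ⟨φ a, hφS a⟩ = τ ⟨a, hP a.2⟩) ∧
      τ z = (ψ z)⁻¹ ^ Nat.card (RQ S X) := by
  have hfree : RightFree S X := genBy_rightFree hgen
  let κ : Equiv.Perm X := MulAction.toPerm ((z, z) : S × S)
  have hκ : κ ∈ rightPerm S X := by
    intro b x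
    show ((z, z) : S × S) • ((1 : S), b) • x = ((1 : S), b) • ((z, z) : S × S) • x
    rw [smul_smul, smul_smul]
    have : ((z, z) : S × S) * ((1 : S), b) = ((1 : S), b) * ((z, z) : S × S) := by
      ext
      · simp
      · show ((z * b : S) : Ω) = ((b * z : S) : Ω)
        rw [hzc b]
    rw [this]
  have hκpow : ∀ (k : ℕ) (x : X), (κ ^ k) x = ((z ^ k, z ^ k) : S × S) • x := by
    intro k x
    have : κ ^ k = MulAction.toPerm (((z, z) : S × S) ^ k) := by
      show (MulAction.toPermHom (S × S) X (z, z)) ^ k = MulAction.toPermHom (S × S) X ((z, z) ^ k)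
      rw [map_pow]
    rw [this]
    rfl
  have hprop : ∀ (x : X) (k : ℕ), rq S ((κ ^ k) x) = rq S x → (κ ^ k) x = x := by
    intro x k h
    rw [hκpow] at h ⊢
    obtain ⟨b, hb⟩ := rq_eq_iff.1 h
    rw [smul_smul] at hb
    have hmem : ((1 : S), b) * ((z ^ k, z ^ k) : S × S) ∈ stabilizer (S × S) x :=
      mem_stabilizer_iff.2 hb
    obtain ⟨P₁, f, hf, hD⟩ := hgen x
    have h1 := (hD _).1 hmem
    have h1a : ((z ^ k : S) : Ω) ∈ P₁ := by
      have := h1.1
      simpa using this
    have h1b : ((b * z ^ k : S) : Ω) = f ((z ^ k : S) : Ω) := by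
      have := h1.2
      simpa using this
    rw [Subgroup.coe_pow] at h1a h1b
    rw [hzF P₁ f hf k h1a, Subgroup.coe_mul, Subgroup.coe_pow] at h1b
    have hb1 : b = 1 := by
      apply Subtype.ext
      have : (b : Ω) * (z : Ω) ^ k = 1 * (z : Ω) ^ k := by rw [h1b, one_mul]
      exact mul_right_cancel this
    rw [hb1] at hb
    have e : ((1 : S), (1 : S)) * ((z ^ k, z ^ k) : S × S) = (z ^ k, z ^ k) := by
      ext <;> simp
    rw [e] at hb
    exact hb
  obtain ⟨σ, hσ, hσκ⟩ := exists_equivariant_section κ hκ hprop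
  let T := transferHom σ hσ hfree ψ
  refine ⟨T.comp (leftHom S X), fun P hP φ hφ hφS a => transfer_stable F X hst T hP hφ hφS a, ?_⟩
  let ρ : Equiv.Perm X := MulAction.toPerm (((1 : S), z⁻¹) : S × S)
  have hρ : ρ ∈ rightPerm S X := by
    intro b x
    show (((1 : S), z⁻¹) : S × S) • ((1 : S), b) • x = ((1 : S), b) • (((1 : S), z⁻¹) : S × S) • x
    rw [smul_smul, smul_smul]
    have : (((1 : S), z⁻¹) : S × S) * ((1 : S), b) = ((1 : S), b) * (((1 : S), z⁻¹) : S × S) := by
      ext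
      · simp
      · show ((z⁻¹ * b : S) : Ω) = ((b * z⁻¹ : S) : Ω)
        have h3 : z⁻¹ * b = b * z⁻¹ := by
          have := hzc b
          calc z⁻¹ * b = z⁻¹ * (b * z) * z⁻¹ := by group
            _ = z⁻¹ * (z * b) * z⁻¹ := by rw [this]
            _ = b * z⁻¹ := by group
        rw [h3]
    rw [this]
  have hL : leftHom S X z = (⟨κ, hκ⟩ : rightPerm S X) * ⟨ρ, hρ⟩ := by
    apply Subtype.ext
    apply Equiv.ext
    intro x
    show ((z, (1 : S)) : S × S) • x = ((z, z) : S × S) • (((1 : S), z⁻¹) : S × S) • x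
    rw [smul_smul]
    have : ((z, z) : S × S) * (((1 : S), z⁻¹) : S × S) = (z, (1 : S)) := by ext <;> simp
    rw [this]
  show T (leftHom S X z) = _
  rw [hL, map_mul]
  have hTκ : T ⟨κ, hκ⟩ = 1 := by
    rw [transferHom_apply]
    apply Finset.prod_eq_one
    intro y _
    show ψ (bet σ hσ (κ (σ y))) = 1
    rw [hσκ y, bet_section σ hσ hfree, map_one]
  have hTρ : T ⟨ρ, hρ⟩ = (ψ z)⁻¹ ^ Nat.card (RQ S X) := by
    rw [transferHom_apply]
    have : ∀ y : RQ S X, ψ (bet σ hσ (((⟨ρ, hρ⟩ : rightPerm S X) : Equiv.Perm X) (σ y)))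
        = (ψ z)⁻¹ := by
      intro y
      show ψ (bet σ hσ ((((1 : S), z⁻¹) : S × S) • σ y)) = (ψ z)⁻¹
      rw [bet_smul σ hσ hfree, bet_section σ hσ hfree, mul_one, map_inv]
    rw [Finset.prod_congr rfl (fun y _ => this y), Finset.prod_const, Finset.card_univ,
      Nat.card_eq_fintype_card]
  rw [hTκ, hTρ, one_mul]

end Cfsg.Agent.Lib.Helper88
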