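import Mathlib
import Cfsg.Prelude.Def_FusionSystem
import Cfsg.Agent.Lib.Helper88.FusBasic
import Cfsg.Agent.Lib.Helper88.FusSat
import Cfsg.Agent.Lib.Helper88.GSetMarks
import Cfsg.Agent.Lib.Helper88.FGraph
import Cfsg.Agent.Lib.Helper88.Biset
import Cfsg.Agent.Lib.Helper88.BisetPerm
import Cfsg.Agent.Lib.Helper88.BisetSat
import Cfsg.Agent.Lib.Helper88.BisetTransfer

set_option autoImplicit false

namespace Cfsg.Agent.Lib.Helper88

open Cfsg Cfsg.FusionSystem MulAction

universe u

variable {Ω : Type u} [Group Ω] {S : Subgroup Ω}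

theorem relIndex_mul_card_of_le {G : Type*} [Group G] {H K : Subgroup G} (h : H ≤ K) :
    H.relIndex K * Nat.card H = Nat.card K := by
  have h1 := Subgroup.card_mul_index (H.subgroupOf K)
  rw [Nat.card_congr (Subgroup.subgroupOfEquivOfLe h).toEquiv] at h1
  rw [mul_comm]
  exact h1

/-- The index of a subgroup of `S × S` of order less than `#S` is divisible by `p * #S`. -/
theorem index_dvd_of_card_lt [Finite S] {p : ℕ} [Fact p.Prime] (hS : IsPGroup p S)
    (K : Subgroup (S × S)) (hK : Nat.card K < Nat.card S) : p * Nat.card S ∣ K.index := by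
  have hp : p.Prime := Fact.out
  obtain ⟨s, hs⟩ := IsPGroup.exists_card_eq hS
  have hΓ : Nat.card (S × S) = p ^ (s + s) := by
    rw [Nat.card_prod, hs, pow_add]
  have hKd : Nat.card K ∣ p ^ (s + s) := by
    rw [← hΓ]; exact Subgroup.card_subgroup_dvd_card K
  obtain ⟨a, ha, hKa⟩ := (Nat.dvd_prime_pow hp).1 hKd
  have hidx := Subgroup.card_mul_index K
  rw [hΓ, hKa] at hidx
  rw [hKa, hs] at hK
  have has : a < s := (Nat.pow_lt_pow_iff_right hp.one_lt).1 hK
  have hidx' : K.index = p ^ (s + s - a) := by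
    have h1 : p ^ a * p ^ (s + s - a) = p ^ (s + s) := by
      rw [← pow_add]; congr 1; omega
    exact Nat.eq_of_mul_eq_mul_left (Nat.pow_pos hp.pos) (hidx.trans h1.symm)
  rw [hidx', hs, ← pow_succ']
  exact pow_dvd_pow p (by omega)

/-- The points with small stabilizers: their number is divisible by `p * #S`. -/
theorem card_low_dvd [Finite S] {p : ℕ} [Fact p.Prime] (hS : IsPGroup p S)
    (X : Type u) [MulAction (S × S) X] [Finite X] :
    p * Nat.card S ∣ Nat.card {x : X // Nat.card (stabilizer (S × S) x) < Nat.card S} := by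
  classical
  let q : SubMulAction (S × S) X :=
    { carrier := {x | Nat.card (stabilizer (S × S) x) < Nat.card S}
      smul_mem' := by
        intro g x hx
        show Nat.card (stabilizer (S × S) (g • x)) < Nat.card S
        rw [stabilizer_smul_eq_stabilizer_map_conj,
          Subgroup.card_map_of_injective (MulAut.conj g).injective]
        exact hx }
  have h1 : Nat.card {x : X // Nat.card (stabilizer (S × S) x) < Nat.card S} = Nat.card q := rfl
  let _ := Fintype.ofFinite (orbitRel.Quotient (S × S) q)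
  have h2 : Nat.card q = ∑ ω : orbitRel.Quotient (S × S) q, Nat.card (orbit (S × S) ω.out) := by
    rw [← Nat.card_sigma]
    exact Nat.card_congr (selfEquivSigmaOrbits (S × S) q)
  rw [h1, h2]
  refine Finset.dvd_sum (fun ω _ => ?_)
  rw [Nat.card_coe_set_eq, ← index_stabilizer, SubMulAction.stabilizer_of_subMul]
  exact index_dvd_of_card_lt hS _ ω.out.2

theorem card_split [Finite S] (F : FusionSystem S) (X : Type u) [MulAction (S × S) X] [Finite X]
    (hgen : GenBy F X) :
    Nat.card X = Nat.card {x : X // Nat.card (stabilizer (S × S) x) = Nat.card S}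
      + Nat.card {x : X // Nat.card (stabilizer (S × S) x) < Nat.card S} := by
  classical
  rw [← Nat.card_sum]
  refine Nat.card_congr ((Equiv.sumCompl
    (fun x : X => Nat.card (stabilizer (S × S) x) = Nat.card S)).symm.trans
    (Equiv.sumCongr (Equiv.refl _) (Equiv.subtypeEquivRight (fun x => ?_))))
  have := (hgen x).card_le
  omega

theorem graph_card_pr1 [Finite S] {F : FusionSystem S} {E : Subgroup (S × S)} {P : Subgroup Ω}
    {f : Ω → Ω} (hf : Mor F P f)
    (hD : ∀ g : S × S, g ∈ E ↔ (g.1 : Ω) ∈ P ∧ (g.2 : Ω) = f (g.1 : Ω)) :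
    Nat.card E = Nat.card P := by
  refine Nat.card_congr ⟨fun g => ⟨g.1.1, ((hD g.1).1 g.2).1⟩,
    fun x => ⟨((⟨x, hf.le x.2⟩ : S), (⟨f x, hf.mem_S x.2⟩ : S)), (hD _).2 ⟨x.2, rfl⟩⟩, ?_, ?_⟩
  · rintro ⟨g, hg⟩
    exact Subtype.ext (Prod.ext rfl (Subtype.ext ((hD g).1 hg).2.symm))
  · intro x; rfl

/-- A graph of full order is conjugate to the diagonal of `S`. -/
theorem top_graph_ffconj [Finite S] {F : FusionSystem S} {E : Subgroup (S × S)}
    (hE : IsFGraph F E) (hc : Nat.card E = Nat.card S) : FFConj F E (diagSub S) := by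
  obtain ⟨P, f, hf, hD⟩ := hE
  have hP : P = S := by
    apply Subgroup.eq_of_le_of_card_ge hf.le
    rw [← graph_card_pr1 hf hD, hc]
  rw [hP] at hf hD
  obtain ⟨f', hf', hf'f⟩ := hf.exists_inv
  have e1 := pr1_of_graph hf hD
  have e2 := pr2_of_graph hf hD
  refine ⟨fun x => x, f', by rw [e1]; exact mor_id F le_rfl, by rw [e2]; exact hf', fun g' => ?_⟩
  rw [mem_diagSub]
  constructor
  · rintro ⟨h1, h2⟩
    refine ⟨((⟨g'.1, h1⟩ : S), (⟨f g'.1, hf.mem_S h1⟩ : S)), (hD _).2 ⟨h1, rfl⟩, rfl, ?_⟩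
    show f' (f (g'.1 : Ω)) = (g'.2 : Ω)
    rw [hf'f _ h1, h2]
  · rintro ⟨g, hg, e3, e4⟩
    have hg1 := ((hD g).1 hg).1
    have hg2 := ((hD g).1 hg).2
    refine ⟨g'.1.2, ?_⟩
    rw [← e4, ← e3, hg2, hf'f _ hg1]

/-- The number of points with a stabilizer of full order. -/
theorem card_top_eq [Finite S] (F : FusionSystem S) (X : Type u) [MulAction (S × S) X] [Finite X]
    (hgen : GenBy F X)
    (hst : ∀ D D' : Subgroup (S × S), FFConj F D D' → mark D X = mark D' X) :
    Nat.card {x : X // Nat.card (stabilizer (S × S) x) = Nat.card S}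
      = Nat.card {E : Subgroup (S × S) // IsFGraph F E ∧ Nat.card E = Nat.card S}
        * mark (diagSub S : Subgroup (S × S)) X := by
  classical
  let _ := Fintype.ofFinite {E : Subgroup (S × S) // IsFGraph F E ∧ Nat.card E = Nat.card S}
  have h1 : Nat.card {x : X // Nat.card (stabilizer (S × S) x) = Nat.card S}
      = ∑ E : {E : Subgroup (S × S) // IsFGraph F E ∧ Nat.card E = Nat.card S},
          Nat.card {x : X // stabilizer (S × S) x = E.1} := by
    rw [← Nat.card_sigma]
    exact Nat.card_congr (Equiv.sigmaSubtypeFiberEquivSubtype (fun x : X => stabilizer (S × S) x)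
      (p := fun x => Nat.card (stabilizer (S × S) x) = Nat.card S)
      (q := fun E => IsFGraph F E ∧ Nat.card E = Nat.card S)
      (fun x => ⟨fun h => ⟨hgen x, h⟩, fun h => h.2⟩)).symm
  have h2 : ∀ E : {E : Subgroup (S × S) // IsFGraph F E ∧ Nat.card E = Nat.card S},
      Nat.card {x : X // stabilizer (S × S) x = E.1} = mark (diagSub S : Subgroup (S × S)) X := by
    intro E
    rw [← hst E.1 (diagSub S) (top_graph_ffconj E.2.1 E.2.2)]
    unfold mark
    refine Nat.card_congr (Equiv.subtypeEquivRight (fun x => ⟨fun h g hg => ?_, fun h => ?_⟩))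
    · rw [← h] at hg; exact hg
    · symm
      apply Subgroup.eq_of_le_of_card_ge (fun g hg => h g hg)
      rw [E.2.2]
      exact (hgen x).card_le
  rw [h1, Finset.sum_congr rfl (fun E _ => h2 E), Finset.sum_const, Finset.card_univ,
    smul_eq_mul]
  congr 1
  exact Nat.card_eq_fintype_card.symm

/-- The graph of an automorphism of `S`. -/
def graphAut (α : MulAut S) : Subgroup (S × S) where
  carrier := {g | g.2 = α g.1}
  mul_mem' := by
    intro a b ha hb
    show a.2 * b.2 = α (a.1 * b.1)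
    rw [map_mul, ← show a.2 = α a.1 from ha, ← show b.2 = α b.1 from hb]
  one_mem' := by
    show (1 : S) = α 1
    rw [map_one]
  inv_mem' := by
    intro a ha
    show a.2⁻¹ = α a.1⁻¹
    rw [map_inv, ← show a.2 = α a.1 from ha]

theorem mem_graphAut {α : MulAut S} {g : S × S} : g ∈ graphAut α ↔ g.2 = α g.1 := Iff.rfl

theorem isFGraph_graphAut (F : FusionSystem S) {α : MulAut S} (hα : α ∈ F.autGroup S) :
    IsFGraph F (graphAut α) := by
  refine ⟨S, extFun (fun x : S => ((α x : S) : Ω)), (mem_autGroup_iff F le_rfl α).1 hα, fun g => ?_⟩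
  rw [mem_graphAut, extFun_apply]
  constructor
  · intro h; exact ⟨g.1.2, by rw [h]⟩
  · rintro ⟨-, h⟩; exact Subtype.ext h

theorem card_graphAut (α : MulAut S) : Nat.card (graphAut α) = Nat.card S := by
  refine Nat.card_congr ⟨fun g => g.1.1, fun a => ⟨(a, α a), rfl⟩, ?_, ?_⟩
  · rintro ⟨g, hg⟩
    exact Subtype.ext (Prod.ext rfl (mem_graphAut.1 hg).symm)
  · intro a; rfl

/-- The graphs of full order correspond to the automorphisms of `S` in the system. -/
theorem card_top_graphs [Finite S] (F : FusionSystem S) :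
    Nat.card {E : Subgroup (S × S) // IsFGraph F E ∧ Nat.card E = Nat.card S}
      = Nat.card (F.autGroup S) := by
  symm
  refine Nat.card_congr (Equiv.ofBijective (fun α : F.autGroup S =>
    (⟨graphAut α.1, isFGraph_graphAut F α.2, card_graphAut α.1⟩ :
      {E : Subgroup (S × S) // IsFGraph F E ∧ Nat.card E = Nat.card S})) ⟨?_, ?_⟩)
  · intro α α' h
    have h1 : graphAut α.1 = graphAut α'.1 := congrArg Subtype.val h
    apply Subtype.ext
    apply MulEquiv.ext
    intro a
    have h2 : (a, α.1 a) ∈ graphAut α.1 := rfl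
    rw [h1] at h2
    exact h2
  · rintro ⟨E, hE, hc⟩
    obtain ⟨P, f, hf, hD⟩ := hE
    have hP : P = S := by
      apply Subgroup.eq_of_le_of_card_ge hf.le
      rw [← graph_card_pr1 hf hD, hc]
    rw [hP] at hf hD
    obtain ⟨α, hα, hαf⟩ := hf.exists_aut (fun x hx => hf.mem_S hx)
    refine ⟨⟨α, hα⟩, Subtype.ext ?_⟩
    ext g
    show g ∈ graphAut α ↔ g ∈ E
    rw [mem_graphAut, hD]
    constructor
    · intro h
      refine ⟨g.1.2, ?_⟩
      rw [h, hαf]
    · rintro ⟨-, h⟩
      apply Subtype.ext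
      rw [h, hαf]

/-- The index of the diagonal of `S` in its normalizer is the order of the centre of `S`. -/
theorem relIndex_diag [Finite S] :
    (diagSub S : Subgroup (S × S)).relIndex
      (Subgroup.normalizer ((diagSub S : Subgroup (S × S)) : Set (S × S)))
      = Nat.card (Subgroup.center S) := by
  have hmem : ∀ γ : S × S, γ ∈ Subgroup.normalizer ((diagSub S : Subgroup (S × S)) : Set (S × S))
      ↔ γ.1⁻¹ * γ.2 ∈ Subgroup.center S := by
    intro γ
    rw [Subgroup.mem_normalizer_iff, Subgroup.mem_center_iff]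
    have hdiag : ∀ h : S × S, h ∈ (diagSub S : Subgroup (S × S)) ↔ h.2 = h.1 := by
      intro h
      rw [mem_diagSub]
      exact ⟨fun hh => Subtype.ext hh.2, fun hh => ⟨h.1.2, by rw [hh]⟩⟩
    constructor
    · intro h s
      have h1 := (h (s, s)).1 ((hdiag _).2 rfl)
      have h2 : γ.2 * s * γ.2⁻¹ = γ.1 * s * γ.1⁻¹ := (hdiag _).1 h1
      calc s * (γ.1⁻¹ * γ.2) = γ.1⁻¹ * (γ.1 * s * γ.1⁻¹) * γ.2 := by group
        _ = γ.1⁻¹ * (γ.2 * s * γ.2⁻¹) * γ.2 := by rw [h2]
        _ = γ.1⁻¹ * γ.2 * s := by group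
    · intro hz h
      rw [hdiag, hdiag]
      show h.2 = h.1 ↔ γ.2 * h.2 * γ.2⁻¹ = γ.1 * h.1 * γ.1⁻¹
      have hz' := hz h.2
      constructor
      · intro hh
        rw [← hh]
        have hz2 : h.2 * (γ.1⁻¹ * γ.2) = γ.1⁻¹ * γ.2 * h.2 := hz'
        calc γ.2 * h.2 * γ.2⁻¹ = γ.1 * (γ.1⁻¹ * γ.2 * h.2) * γ.2⁻¹ := by group
          _ = γ.1 * (h.2 * (γ.1⁻¹ * γ.2)) * γ.2⁻¹ := by rw [hz2]
          _ = γ.1 * h.2 * γ.1⁻¹ := by group
      · intro hh
        have hz2 : h.2 * (γ.1⁻¹ * γ.2) = γ.1⁻¹ * γ.2 * h.2 := hz'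
        have h3 : γ.1 * h.2 * γ.1⁻¹ = γ.1 * h.1 * γ.1⁻¹ := by
          rw [← hh]
          calc γ.1 * h.2 * γ.1⁻¹ = γ.1 * (h.2 * (γ.1⁻¹ * γ.2)) * γ.2⁻¹ := by group
            _ = γ.1 * (γ.1⁻¹ * γ.2 * h.2) * γ.2⁻¹ := by rw [hz2]
            _ = γ.2 * h.2 * γ.2⁻¹ := by group
        have h4 := congrArg (fun t => γ.1⁻¹ * t * γ.1) h3
        simpa [mul_assoc] using h4
  have hcardN : Nat.card (Subgroup.normalizer ((diagSub S : Subgroup (S × S)) : Set (S × S)))
      = Nat.card S * Nat.card (Subgroup.center S) := by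
    rw [← Nat.card_prod]
    refine Nat.card_congr ⟨fun γ => (γ.1.1, ⟨γ.1.1⁻¹ * γ.1.2, (hmem γ.1).1 γ.2⟩),
      fun w => ⟨(w.1, w.1 * w.2.1), (hmem _).2 (by
        show w.1⁻¹ * (w.1 * w.2.1) ∈ Subgroup.center S
        rw [inv_mul_cancel_left]; exact w.2.2)⟩, ?_, ?_⟩
    · rintro ⟨γ, hγ⟩
      apply Subtype.ext
      show (γ.1, γ.1 * (γ.1⁻¹ * γ.2)) = γ
      rw [mul_inv_cancel_left]
    · rintro ⟨a, z⟩
      refine Prod.ext rfl (Subtype.ext ?_)
      show a⁻¹ * (a * z.1) = z.1
      rw [inv_mul_cancel_left]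
  have h1 := relIndex_mul_card_of_le
    (Subgroup.le_normalizer (H := (diagSub S : Subgroup (S × S))))
  rw [card_diagSub_top, hcardN, mul_comm] at h1
  exact Nat.eq_of_mul_eq_mul_left Nat.card_pos h1

/-- In a saturated system the automorphism group of `S` has order `#(S / Z(S))` times a number
prime to `p`. -/
theorem card_autGroup_top [Finite S] {p : ℕ} [Fact p.Prime] (F : FusionSystem S)
    (hF : F.IsSaturated p) :
    ∃ m : ℕ, ¬ p ∣ m ∧ Nat.card (F.autGroup S) * Nat.card (Subgroup.center S) = Nat.card S * m := by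
  obtain ⟨hfa, -⟩ := saturated_top hF
  obtain ⟨R, hR⟩ := fa_exists_sylow hfa
  have hfinA : Finite (F.autGroup S) := inferInstance
  have hconj : ∀ g : S, MulAut.conj g ∈ F.autGroup S := by
    intro g
    rw [mem_autGroup_iff F le_rfl]
    refine (mor_conj F le_rfl g.2).congr (fun x hx => ?_)
    rw [extFun_mem _ hx]
    rfl
  let cA : S →* F.autGroup S := (MulAut.conj : S →* MulAut S).codRestrict _ hconj
  have hrange : cA.range = (R : Subgroup (F.autGroup S)) := by
    ext α
    rw [show α ∈ (R : Subgroup (F.autGroup S)) ↔ α ∈ R from Iff.rfl, hR]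
    constructor
    · rintro ⟨g, rfl⟩
      exact ⟨g, g.2, fun x => rfl⟩
    · rintro ⟨g, hg, hgx⟩
      refine ⟨⟨g, hg⟩, Subtype.ext (MulEquiv.ext (fun x => Subtype.ext ?_))⟩
      rw [hgx]
      rfl
  have hker : cA.ker = Subgroup.center S := by
    ext g
    rw [MonoidHom.mem_ker, Subgroup.mem_center_iff]
    constructor
    · intro h s
      have h1 : MulAut.conj g s = s := by
        have := congrArg (fun α : F.autGroup S => (α : MulAut S) s) h
        exact this
      rw [MulAut.conj_apply] at h1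
      calc s * g = g * s * g⁻¹ * g := by rw [h1]
        _ = g * s := by group
    · intro h
      apply Subtype.ext
      apply MulEquiv.ext
      intro s
      show g * s * g⁻¹ = s
      rw [← h s]; group
  have hcardR : Nat.card R = (Subgroup.center S).index := by
    rw [← hker, Subgroup.index_ker, hrange]
  refine ⟨(R : Subgroup (F.autGroup S)).index, R.not_dvd_index, ?_⟩
  have h1 := Subgroup.card_mul_index (R : Subgroup (F.autGroup S))
  have h2 := Subgroup.card_mul_index (Subgroup.center S)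
  have hcardR' : Nat.card (R : Subgroup (F.autGroup S)) = (Subgroup.center S).index := hcardR
  rw [← h1, ← h2, hcardR']
  ring

/-- The number of right orbits of the characteristic biset is prime to `p`. -/
theorem card_rq_not_dvd [Finite S] {p : ℕ} [Fact p.Prime] (hS : IsPGroup p S)
    (F : FusionSystem S) (hF : F.IsSaturated p) (X : Type u) [MulAction (S × S) X] [Finite X]
    (hgen : GenBy F X)
    (hst : ∀ D D' : Subgroup (S × S), FFConj F D D' → mark D X = mark D' X) (c : ℕ)
    (hc : mark (diagSub S : Subgroup (S × S)) X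
        = (diagSub S : Subgroup (S × S)).relIndex
            (Subgroup.normalizer ((diagSub S : Subgroup (S × S)) : Set (S × S)))
          + p * Nat.card S * c) :
    ¬ p ∣ Nat.card (RQ S X) := by
  have hfree : RightFree S X := genBy_rightFree hgen
  have h1 := card_eq_card_rq_mul (S := S) (X := X) (fun y => Quotient.out y)
    (fun y => Quotient.out_eq y) hfree
  have h2 := card_split F X hgen
  have h3 := card_top_eq F X hgen hst
  obtain ⟨t, ht⟩ := card_low_dvd hS X
  obtain ⟨m, hm, hAm⟩ := card_autGroup_top F hF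
  rw [card_top_graphs, hc, relIndex_diag] at h3
  rw [h1, h3, ht] at h2
  have hSpos : 0 < Nat.card S := Nat.card_pos
  have h4 : Nat.card (RQ S X) * Nat.card S
      = Nat.card S * (m + p * (Nat.card (F.autGroup S) * c + t)) := by
    rw [h2]
    calc Nat.card (F.autGroup S) * (Nat.card (Subgroup.center S) + p * Nat.card S * c)
          + p * Nat.card S * t
        = Nat.card (F.autGroup S) * Nat.card (Subgroup.center S)
          + Nat.card S * (p * (Nat.card (F.autGroup S) * c + t)) := by ring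
      _ = Nat.card S * m + Nat.card S * (p * (Nat.card (F.autGroup S) * c + t)) := by rw [hAm]
      _ = Nat.card S * (m + p * (Nat.card (F.autGroup S) * c + t)) := by ring
  rw [mul_comm] at h4
  have h5 := Nat.eq_of_mul_eq_mul_left hSpos h4
  rw [h5]
  intro hdvd
  exact hm ((Nat.dvd_add_left (Dvd.intro _ rfl)).1 hdvd)

end Cfsg.Agent.Lib.Helper88
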