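import Mathlib
import Cfsg.Prelude.Def_FusionSystem
import Cfsg.Agent.Lib.Helper88.FusBasic
import Cfsg.Agent.Lib.Helper88.GSetMarks
import Cfsg.Agent.Lib.Helper88.FGraph
import Cfsg.Agent.Lib.Helper88.Biset
import Cfsg.Agent.Lib.Helper88.BisetPerm
import Cfsg.Agent.Lib.Helper88.BisetTransfer

/-!
# Twisted transfer of a biset

For a right-free `(S, S)`-biset `X`, a normal subgroup `T` of `S`, a map `ft : X → S` that is
equivariant for the right action and equivariant modulo `T` for the left action, and a function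
`m : S → A` into a commutative group that is multiplicative on `T` and invariant under
conjugation, the product over the right orbits of `m (ft (a x)⁻¹ a ft x)` is a homomorphism
`S → A`.  On `T` it equals `m ^ n` (`n` the number of right orbits) times a correction term which
is invariant under the twisted automorphisms of the biset.
-/

set_option autoImplicit false

namespace Cfsg.Agent.Lib.Helper88

open Cfsg Cfsg.FusionSystem MulAction

universe u v

/-- An equivariant map exists as soon as every point stabilizer fixes some point of the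
target. -/
theorem exists_equivariant_map {G : Type*} [Group G] {X Y : Type*} [MulAction G X]
    [MulAction G Y] (h : ∀ x : X, ∃ y : Y, stabilizer G x ≤ stabilizer G y) :
    ∃ f : X → Y, ∀ (g : G) (x : X), f (g • x) = g • f x := by
  classical
  let r : X → X := fun x => Quotient.out (Quotient.mk (orbitRel G X) x)
  have hr : ∀ x, ∃ g : G, g • r x = x := by
    intro x
    have h1 : (orbitRel G X).r (r x) x :=
      Quotient.exact (Quotient.out_eq (Quotient.mk (orbitRel G X) x))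
    rw [orbitRel_apply] at h1
    obtain ⟨g, hg⟩ := h1
    refine ⟨g⁻¹, ?_⟩
    rw [inv_smul_eq_iff]
    exact hg.symm
  choose g hg using hr
  choose y hy using h
  have hrk : ∀ (k : G) (x : X), r (k • x) = r x := by
    intro k x
    show Quotient.out (Quotient.mk (orbitRel G X) (k • x))
      = Quotient.out (Quotient.mk (orbitRel G X) x)
    congr 1
    apply Quotient.sound
    show (orbitRel G X).r (k • x) x
    rw [orbitRel_apply]
    exact ⟨k, rfl⟩
  refine ⟨fun x => g x • y (r x), ?_⟩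
  intro k x
  show g (k • x) • y (r (k • x)) = k • g x • y (r x)
  rw [hrk]
  have h1 : (k * g x)⁻¹ * g (k • x) ∈ stabilizer G (r x) := by
    rw [mem_stabilizer_iff, mul_smul, inv_smul_eq_iff, mul_smul, hg x]
    have := hg (k • x)
    rw [hrk] at this
    exact this
  have h2 := hy (r x) h1
  rw [mem_stabilizer_iff, mul_smul, inv_smul_eq_iff, mul_smul] at h2
  exact h2

variable {Ω : Type u} [Group Ω] {S : Subgroup Ω}

theorem smul_comm_lr {X : Type u} [MulAction (S × S) X] (a b : S) (x : X) :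
    ((a, (1 : S)) : S × S) • (((1 : S), b) : S × S) • x
      = (((1 : S), b) : S × S) • ((a, (1 : S)) : S × S) • x := by
  rw [smul_smul, smul_smul]
  simp

/-- A function on `S` that is multiplicative on `T` and invariant under conjugation. -/
structure TwFun (T : Subgroup S) {A : Type v} [CommGroup A] (m : S → A) : Prop where
  mul : ∀ s ∈ T, ∀ t ∈ T, m (s * t) = m s * m t
  conj : ∀ b s : S, m (b * s * b⁻¹) = m s

theorem TwFun.one {T : Subgroup S} {A : Type v} [CommGroup A] {m : S → A} (hm : TwFun T m) :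
    m 1 = 1 := by
  have h := hm.mul 1 T.one_mem 1 T.one_mem
  rw [mul_one] at h
  exact (mul_eq_left.1 h.symm)

theorem TwFun.inv {T : Subgroup S} {A : Type v} [CommGroup A] {m : S → A} (hm : TwFun T m)
    {t : S} (ht : t ∈ T) : m t⁻¹ = (m t)⁻¹ := by
  have h := hm.mul t⁻¹ (T.inv_mem ht) t ht
  rw [inv_mul_cancel, hm.one] at h
  exact eq_inv_of_mul_eq_one_left h.symm

/-- The product of the values of `m` on the ratios of a function along a bijection is
trivial. -/
theorem prod_ratio_eq_one {T : Subgroup S} [T.Normal] {A : Type v} [CommGroup A] {m : S → A}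
    (hm : TwFun T m) {ι : Type*} [Fintype ι] (τ : ι → ι) (hτ : Function.Bijective τ)
    (e : ι → S) (h : ∀ i, (e (τ i))⁻¹ * e i ∈ T) :
    ∏ i, m ((e (τ i))⁻¹ * e i) = 1 := by
  let j : S → S := fun s => Quotient.out (QuotientGroup.mk s : S ⧸ T)
  have hj : ∀ s, (j s)⁻¹ * s ∈ T := by
    intro s
    rw [← QuotientGroup.eq]
    exact Quotient.out_eq _
  have hjτ : ∀ i, j (e (τ i)) = j (e i) := by
    intro i
    show Quotient.out (QuotientGroup.mk (e (τ i)) : S ⧸ T)
      = Quotient.out (QuotientGroup.mk (e i) : S ⧸ T)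
    congr 1
    exact QuotientGroup.eq.2 (h i)
  have h1 : ∀ i, m ((e (τ i))⁻¹ * e i)
      = (m ((j (e (τ i)))⁻¹ * e (τ i)))⁻¹ * m ((j (e i))⁻¹ * e i) := by
    intro i
    have e1 : (e (τ i))⁻¹ * e i
        = ((j (e (τ i)))⁻¹ * e (τ i))⁻¹ * ((j (e i))⁻¹ * e i) := by
      rw [hjτ i]
      group
    rw [e1, hm.mul _ (T.inv_mem (hj _)) _ (hj _), hm.inv (hj _)]
  rw [Finset.prod_congr rfl (fun i _ => h1 i), Finset.prod_mul_distrib, Finset.prod_inv_distrib,
    hτ.prod_comp (fun i => m ((j (e i))⁻¹ * e i)), inv_mul_cancel]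

section Tw

variable {X : Type u} [MulAction (S × S) X]

/-- Equivariance for the right action. -/
def RightEq (ft : X → S) : Prop :=
  ∀ (b : S) (x : X), ft (((1 : S), b) • x) = ft x * b⁻¹

/-- A permutation preserves `ft` modulo `T`. -/
def Pres (T : Subgroup S) (ft : X → S) (θ : Equiv.Perm X) : Prop :=
  ∀ x : X, (ft (θ x))⁻¹ * ft x ∈ T

/-- Equivariance modulo `T` for the left action. -/
def LeftEq (T : Subgroup S) (ft : X → S) : Prop :=
  ∀ (a : S) (x : X), (ft ((a, (1 : S)) • x))⁻¹ * a * ft x ∈ T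

variable {A : Type v} [CommGroup A]

/-- The twisted cocycle. -/
def cfun (ft : X → S) (m : S → A) (a : S) (x : X) : A :=
  m ((ft ((a, (1 : S)) • x))⁻¹ * a * ft x)

/-- The correction term of a permutation. -/
def dfun (ft : X → S) (m : S → A) (θ : Equiv.Perm X) (x : X) : A :=
  m ((ft (θ x))⁻¹ * ft x)

theorem cfun_smul {T : Subgroup S} {ft : X → S} {m : S → A} (hm : TwFun T m)
    (hf : RightEq ft) (a b : S) (x : X) :
    cfun ft m a (((1 : S), b) • x) = cfun ft m a x := by
  unfold cfun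
  rw [smul_comm_lr, hf, hf]
  have e : (ft ((a, (1 : S)) • x) * b⁻¹)⁻¹ * a * (ft x * b⁻¹)
      = b * ((ft ((a, (1 : S)) • x))⁻¹ * a * ft x) * b⁻¹ := by group
  rw [e, hm.conj]

theorem dfun_smul {T : Subgroup S} {ft : X → S} {m : S → A} (hm : TwFun T m)
    (hf : RightEq ft) {θ : Equiv.Perm X} (hθ : θ ∈ rightPerm S X) (b : S) (x : X) :
    dfun ft m θ (((1 : S), b) • x) = dfun ft m θ x := by
  unfold dfun
  rw [hθ b x, hf, hf]
  have e : (ft (θ x) * b⁻¹)⁻¹ * (ft x * b⁻¹) = b * ((ft (θ x))⁻¹ * ft x) * b⁻¹ := by group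
  rw [e, hm.conj]

theorem pres_left {T : Subgroup S} [hTn : T.Normal] {ft : X → S} (hl : LeftEq T ft) {t : S}
    (ht : t ∈ T) : Pres T ft (leftHom S X t : rightPerm S X) := by
  intro x
  have h1 := hl t x
  have h2 : (ft x)⁻¹ * t⁻¹ * (ft x)⁻¹⁻¹ ∈ T := hTn.conj_mem _ (T.inv_mem ht) _
  have e : (ft ((t, (1 : S)) • x))⁻¹ * ft x
      = ((ft ((t, (1 : S)) • x))⁻¹ * t * ft x) * ((ft x)⁻¹ * t⁻¹ * (ft x)⁻¹⁻¹) := by group
  show (ft ((t, (1 : S)) • x))⁻¹ * ft x ∈ T
  rw [e]
  exact T.mul_mem h1 h2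

theorem cfun_mul {T : Subgroup S} {ft : X → S} {m : S → A} (hm : TwFun T m)
    (hl : LeftEq T ft) (a a' : S) (x : X) :
    cfun ft m (a * a') x = cfun ft m a ((a', (1 : S)) • x) * cfun ft m a' x := by
  unfold cfun
  rw [← hm.mul _ (hl a _) _ (hl a' x)]
  congr 1
  have e : ((a * a', (1 : S)) : S × S) • x = ((a, (1 : S)) : S × S) • ((a', (1 : S)) : S × S) • x := by
    rw [smul_smul]
    congr 1
    ext <;> simp
  rw [e]
  group

theorem cfun_of_mem {T : Subgroup S} [hTn : T.Normal] {ft : X → S} {m : S → A} (hm : TwFun T m)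
    (hl : LeftEq T ft) {t : S} (ht : t ∈ T) (x : X) :
    cfun ft m t x = dfun ft m (leftHom S X t : rightPerm S X) x * m t := by
  have h1 : (ft ((t, (1 : S)) • x))⁻¹ * ft x ∈ T := pres_left hl ht x
  have h2 : (ft x)⁻¹ * t * (ft x)⁻¹⁻¹ ∈ T := hTn.conj_mem _ ht _
  have e : (ft ((t, (1 : S)) • x))⁻¹ * t * ft x
      = ((ft ((t, (1 : S)) • x))⁻¹ * ft x) * ((ft x)⁻¹ * t * (ft x)⁻¹⁻¹) := by group
  show m ((ft ((t, (1 : S)) • x))⁻¹ * t * ft x) = m ((ft ((t, (1 : S)) • x))⁻¹ * ft x) * m t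
  rw [e, hm.mul _ h1 _ h2, hm.conj]

section Sect

variable (σ : RQ S X → X) (hσ : ∀ y, rq S (σ y) = y)

include hσ in
theorem cfun_section {T : Subgroup S} {ft : X → S} {m : S → A} (hm : TwFun T m)
    (hf : RightEq ft) (a : S) (x : X) : cfun ft m a (σ (rq S x)) = cfun ft m a x := by
  conv_rhs => rw [← bet_spec σ hσ x]
  rw [cfun_smul hm hf]

include hσ in
theorem dfun_section {T : Subgroup S} {ft : X → S} {m : S → A} (hm : TwFun T m)
    (hf : RightEq ft) {θ : Equiv.Perm X} (hθ : θ ∈ rightPerm S X) (x : X) :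
    dfun ft m θ (σ (rq S x)) = dfun ft m θ x := by
  conv_rhs => rw [← bet_spec σ hσ x]
  rw [dfun_smul hm hf hθ]

/-- The twisted transfer. -/
noncomputable def lam0 [Finite X] (ft : X → S) (m : S → A) (a : S) : A :=
  ∏ y : RQ S X, cfun ft m a (σ y)

/-- The correction term. -/
noncomputable def nu0 [Finite X] (ft : X → S) (m : S → A) (θ : Equiv.Perm X) : A :=
  ∏ y : RQ S X, dfun ft m θ (σ y)

include hσ in
theorem lam0_mul [Finite X] {T : Subgroup S} {ft : X → S} {m : S → A} (hm : TwFun T m)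
    (hf : RightEq ft) (hl : LeftEq T ft) (a a' : S) :
    lam0 σ ft m (a * a') = lam0 σ ft m a * lam0 σ ft m a' := by
  unfold lam0
  rw [Finset.prod_congr rfl (fun y _ => cfun_mul hm hl a a' (σ y)), Finset.prod_mul_distrib]
  congr 1
  have h1 : ∀ y : RQ S X, cfun ft m a ((a', (1 : S)) • σ y)
      = cfun ft m a (σ (rq S (((leftHom S X a' : rightPerm S X) : Equiv.Perm X) (σ y)))) := by
    intro y
    rw [cfun_section σ hσ hm hf]
    rfl
  rw [Finset.prod_congr rfl (fun y _ => h1 y)]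
  exact (bar_bijective σ hσ (leftHom S X a').2).prod_comp (fun y' => cfun ft m a (σ y'))

theorem lam0_of_mem [Finite X] {T : Subgroup S} [hTn : T.Normal] {ft : X → S} {m : S → A}
    (hm : TwFun T m) (hl : LeftEq T ft) {t : S} (ht : t ∈ T) :
    lam0 σ ft m t
      = nu0 σ ft m (leftHom S X t : rightPerm S X) * m t ^ Nat.card (RQ S X) := by
  unfold lam0 nu0
  rw [Finset.prod_congr rfl (fun y _ => cfun_of_mem hm hl ht (σ y)), Finset.prod_mul_distrib,
    Finset.prod_const, Finset.card_univ, Nat.card_eq_fintype_card]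

theorem lam0_mem [Finite X] {T : Subgroup S} {ft : X → S} {m : S → A} (hm : TwFun T m)
    (hl : LeftEq T ft) (a : S) : ∃ t ∈ T, lam0 σ ft m a = m t := by
  unfold lam0
  apply Finset.prod_induction (fun y => cfun ft m a (σ y)) (fun c => ∃ t ∈ T, c = m t)
  · rintro c c' ⟨t, ht, rfl⟩ ⟨t', ht', rfl⟩
    exact ⟨t * t', T.mul_mem ht ht', (hm.mul t ht t' ht').symm⟩
  · exact ⟨1, T.one_mem, hm.one.symm⟩
  · intro y _
    exact ⟨_, hl a (σ y), rfl⟩

include hσ in
/-- The correction term does not depend on the section. -/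
theorem nu0_congr [Finite X] {T : Subgroup S} {ft : X → S} {m : S → A} (hm : TwFun T m)
    (hf : RightEq ft) {θ : Equiv.Perm X} (hθ : θ ∈ rightPerm S X)
    (σ' : RQ S X → X) (hσ' : ∀ y, rq S (σ' y) = y) :
    nu0 σ' ft m θ = nu0 σ ft m θ := by
  unfold nu0
  apply Finset.prod_congr rfl
  intro y _
  rw [← dfun_section σ hσ hm hf hθ (σ' y), hσ']

include hσ in
/-- The correction term does not depend on the map `ft`. -/
theorem nu0_indep [Finite X] {T : Subgroup S} [hTn : T.Normal]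
    {ft gt : X → S} {m : S → A} (hm : TwFun T m) (hf : RightEq ft) (hg : RightEq gt)
    {θ : Equiv.Perm X} (hθ : θ ∈ rightPerm S X) (hpf : Pres T ft θ) (hpg : Pres T gt θ) :
    nu0 σ gt m θ = nu0 σ ft m θ := by
  -- a section on which `ft` is trivial
  let σf : RQ S X → X := fun y => ((1 : S), ft (σ y)) • σ y
  have hσf : ∀ y, rq S (σf y) = y := by
    intro y
    show rq S (((1 : S), ft (σ y)) • σ y) = y
    rw [rq_smul, hσ]
  have hftσf : ∀ y, ft (σf y) = 1 := by
    intro y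
    show ft (((1 : S), ft (σ y)) • σ y) = 1
    rw [hf, mul_inv_cancel]
  rw [← nu0_congr σ hσ hm hf hθ σf hσf, ← nu0_congr σ hσ hm hg hθ σf hσf]
  let bb : RQ S X → S := fun y => bet σf hσf (θ (σf y))
  let yb : RQ S X → RQ S X := fun y => rq S (θ (σf y))
  have hspec : ∀ y, ((1 : S), bb y) • σf (yb y) = θ (σf y) := fun y => bet_spec σf hσf (θ (σf y))
  have hft : ∀ y, ft (θ (σf y)) = (bb y)⁻¹ := by
    intro y
    rw [← hspec y, hf, hftσf, one_mul]
  have hbbT : ∀ y, bb y ∈ T := by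
    intro y
    have h1 := hpf (σf y)
    rw [hft, hftσf, inv_inv, mul_one] at h1
    exact h1
  have hd1 : ∀ y, dfun ft m θ (σf y) = m (bb y) := by
    intro y
    show m ((ft (θ (σf y)))⁻¹ * ft (σf y)) = m (bb y)
    rw [hft, hftσf, inv_inv, mul_one]
  have hgt : ∀ y, gt (θ (σf y)) = gt (σf (yb y)) * (bb y)⁻¹ := by
    intro y
    rw [← hspec y, hg]
  have hrat : ∀ y, (gt (σf (yb y)))⁻¹ * gt (σf y) ∈ T := by
    intro y
    have h1 := hpg (σf y)
    rw [hgt] at h1
    have e : (gt (σf (yb y)))⁻¹ * gt (σf y)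
        = (bb y)⁻¹ * ((gt (σf (yb y)) * (bb y)⁻¹)⁻¹ * gt (σf y)) := by group
    rw [e]
    exact T.mul_mem (T.inv_mem (hbbT y)) h1
  have hd2 : ∀ y, dfun gt m θ (σf y) = m (bb y) * m ((gt (σf (yb y)))⁻¹ * gt (σf y)) := by
    intro y
    show m ((gt (θ (σf y)))⁻¹ * gt (σf y)) = _
    rw [hgt, ← hm.mul _ (hbbT y) _ (hrat y)]
    congr 1
    group
  unfold nu0
  rw [Finset.prod_congr rfl (fun y _ => hd2 y), Finset.prod_congr rfl (fun y _ => hd1 y),
    Finset.prod_mul_distrib,
    prod_ratio_eq_one hm yb (bar_bijective σf hσf hθ) (fun y => gt (σf y)) hrat, mul_one]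

include hσ in
/-- The correction term is invariant under the twisted automorphisms of the biset. -/
theorem nu0_stable [Finite X] {T : Subgroup S} [hTn : T.Normal]
    {ft : X → S} {m : S → A} (hm : TwFun T m) (hf : RightEq ft) (hl : LeftEq T ft)
    {u u' : S} (hu : u ∈ T) (hu' : u' ∈ T) {θ : Equiv.Perm X} (hθ : θ ∈ rightPerm S X)
    (hθu : ∀ x : X, θ ((u, (1 : S)) • x) = (u', (1 : S)) • θ x) :
    nu0 σ ft m (leftHom S X u' : rightPerm S X) = nu0 σ ft m (leftHom S X u : rightPerm S X) := by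
  have hg : RightEq (fun x => ft (θ x)) := by
    intro b x
    show ft (θ (((1 : S), b) • x)) = ft (θ x) * b⁻¹
    rw [hθ b x, hf]
  have hpf : Pres T ft (leftHom S X u : rightPerm S X) := pres_left hl hu
  have hpf' : Pres T ft (leftHom S X u' : rightPerm S X) := pres_left hl hu'
  have hpg : Pres T (fun x => ft (θ x)) (leftHom S X u : rightPerm S X) := by
    intro x
    show (ft (θ ((u, (1 : S)) • x)))⁻¹ * ft (θ x) ∈ T
    rw [hθu]
    exact hpf' (θ x)
  rw [← nu0_indep σ hσ hm hf hg (leftHom S X u).2 hpf hpg]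
  unfold nu0
  have h1 : ∀ y : RQ S X, dfun (fun x => ft (θ x)) m (leftHom S X u : rightPerm S X) (σ y)
      = dfun ft m (leftHom S X u' : rightPerm S X) (σ (rq S (θ (σ y)))) := by
    intro y
    rw [dfun_section σ hσ hm hf (leftHom S X u').2]
    show m ((ft (θ ((u, (1 : S)) • σ y)))⁻¹ * ft (θ (σ y)))
      = m ((ft ((u', (1 : S)) • θ (σ y)))⁻¹ * ft (θ (σ y)))
    rw [hθu]
  rw [Finset.prod_congr rfl (fun y _ => h1 y)]
  exact ((bar_bijective σ hσ hθ).prod_comp
    (fun y' => dfun ft m (leftHom S X u' : rightPerm S X) (σ y'))).symm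

end Sect

/-- **Twisted transfer.**  If `T` is generated by the quotients `u⁻¹ u'` of pairs of elements of
`T` that are fused by a twisted automorphism of the biset, then the twisted transfer is a
homomorphism `S → A` restricting to `m ^ n` on `T`. -/
theorem exists_hom_of_leftEq [Finite X] (T : Subgroup S) [hTn : T.Normal]
    {ft : X → S} {m : S → A} (hm : TwFun T m) (hf : RightEq ft) (hl : LeftEq T ft)
    (hgenT : T ≤ Subgroup.closure {w : S | ∃ u u' : S, u ∈ T ∧ u' ∈ T ∧
      (∃ θ : Equiv.Perm X, θ ∈ rightPerm S X ∧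
        ∀ x : X, θ ((u, (1 : S)) • x) = (u', (1 : S)) • θ x) ∧ w = u⁻¹ * u'}) :
    ∃ lam : S →* A, (∀ t ∈ T, lam t = m t ^ Nat.card (RQ S X)) ∧ ∀ a : S, ∃ t ∈ T, lam a = m t := by
  classical
  let σ : RQ S X → X := fun y => Quotient.out y
  have hσ : ∀ y, rq S (σ y) = y := fun y => Quotient.out_eq y
  let lam : S →* A := MonoidHom.mk' (lam0 σ ft m) (lam0_mul σ hσ hm hf hl)
  have hlam : ∀ a, lam a = lam0 σ ft m a := fun _ => rfl
  let nu : S → A := fun t => nu0 σ ft m (leftHom S X t : rightPerm S X)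
  have hnu : ∀ t ∈ T, lam t = nu t * m t ^ Nat.card (RQ S X) := fun t ht =>
    lam0_of_mem σ hm hl ht
  have hnu_mul : ∀ s ∈ T, ∀ t ∈ T, nu (s * t) = nu s * nu t := by
    intro s hs t ht
    have h1 := hnu (s * t) (T.mul_mem hs ht)
    rw [map_mul, hnu s hs, hnu t ht, hm.mul s hs t ht, mul_pow] at h1
    have h2 : nu s * nu t * (m s ^ Nat.card (RQ S X) * m t ^ Nat.card (RQ S X))
        = nu (s * t) * (m s ^ Nat.card (RQ S X) * m t ^ Nat.card (RQ S X)) := by
      rw [← h1, mul_mul_mul_comm]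
    exact (mul_right_cancel h2).symm
  have hnu_one : nu 1 = 1 := by
    have h := hnu_mul 1 T.one_mem 1 T.one_mem
    rw [mul_one] at h
    exact mul_eq_left.1 h.symm
  have hnu_inv : ∀ t ∈ T, nu t⁻¹ = (nu t)⁻¹ := by
    intro t ht
    have h := hnu_mul t⁻¹ (T.inv_mem ht) t ht
    rw [inv_mul_cancel, hnu_one] at h
    exact eq_inv_of_mul_eq_one_left h.symm
  have hker : ∀ t ∈ T, nu t = 1 := by
    intro t ht
    have key : ∀ w ∈ Subgroup.closure {w : S | ∃ u u' : S, u ∈ T ∧ u' ∈ T ∧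
        (∃ θ : Equiv.Perm X, θ ∈ rightPerm S X ∧
          ∀ x : X, θ ((u, (1 : S)) • x) = (u', (1 : S)) • θ x) ∧ w = u⁻¹ * u'},
        w ∈ T ∧ nu w = 1 := by
      intro w hw
      induction hw using Subgroup.closure_induction with
      | mem w hw =>
        obtain ⟨u, u', hu, hu', ⟨θ, hθ, hθu⟩, rfl⟩ := hw
        refine ⟨T.mul_mem (T.inv_mem hu) hu', ?_⟩
        rw [hnu_mul _ (T.inv_mem hu) _ hu', hnu_inv u hu]
        have h1 : nu u' = nu u := nu0_stable σ hσ hm hf hl hu hu' hθ hθu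
        rw [h1, inv_mul_cancel]
      | one => exact ⟨T.one_mem, hnu_one⟩
      | mul a b _ _ ha hb =>
        exact ⟨T.mul_mem ha.1 hb.1, by rw [hnu_mul a ha.1 b hb.1, ha.2, hb.2, mul_one]⟩
      | inv a _ ha =>
        exact ⟨T.inv_mem ha.1, by rw [hnu_inv a ha.1, ha.2, inv_one]⟩
    exact (key t (hgenT ht)).2
  refine ⟨lam, fun t ht => ?_, fun a => ?_⟩
  · rw [hnu t ht, hker t ht, one_mul]
  · exact lam0_mem σ hm hl a

/-- The action of `S × S` on a quotient of `S` by left and right multiplication. -/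
@[reducible] def biAct (T : Subgroup S) [T.Normal] : MulAction (S × S) (S ⧸ T) where
  smul g q := (g.1 : S ⧸ T) * q * ((g.2 : S ⧸ T))⁻¹
  one_smul q := by
    show (((1 : S × S).1 : S) : S ⧸ T) * q * ((((1 : S × S).2 : S) : S ⧸ T))⁻¹ = q
    simp
  mul_smul g h q := by
    show (((g * h).1 : S) : S ⧸ T) * q * ((((g * h).2 : S) : S ⧸ T))⁻¹
      = (g.1 : S ⧸ T) * ((h.1 : S ⧸ T) * q * ((h.2 : S ⧸ T))⁻¹) * ((g.2 : S ⧸ T))⁻¹
    rw [Prod.fst_mul, Prod.snd_mul, QuotientGroup.mk_mul, QuotientGroup.mk_mul]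
    group

/-- A map `X → S`, equivariant on the right and equivariant modulo `T` on the left, exists as
soon as every point stabilizer fixes a point of `S ⧸ T`. -/
theorem exists_leftEq (hfree : RightFree S X) (T : Subgroup S) [hTn : T.Normal]
    (h : ∀ x : X, ∃ q : S ⧸ T, ∀ g ∈ stabilizer (S × S) x,
      (g.1 : S ⧸ T) * q * ((g.2 : S ⧸ T))⁻¹ = q) :
    ∃ ft : X → S, RightEq ft ∧ LeftEq T ft := by
  classical
  let _ : MulAction (S × S) (S ⧸ T) := biAct T
  have hsm : ∀ (g : S × S) (q : S ⧸ T), g • q = (g.1 : S ⧸ T) * q * ((g.2 : S ⧸ T))⁻¹ :=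
    fun _ _ => rfl
  obtain ⟨f, hfe⟩ := exists_equivariant_map (G := S × S) (X := X) (Y := S ⧸ T) (by
    intro x
    obtain ⟨q, hq⟩ := h x
    refine ⟨q, fun g hg => ?_⟩
    rw [mem_stabilizer_iff, hsm]
    exact hq g hg)
  let σ : RQ S X → X := fun y => Quotient.out y
  have hσ : ∀ y, rq S (σ y) = y := fun y => Quotient.out_eq y
  let ft : X → S := fun x => Quotient.out (f (σ (rq S x))) * (bet σ hσ x)⁻¹
  have hmk : ∀ x, (QuotientGroup.mk (ft x) : S ⧸ T) = f x := by
    intro x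
    show (QuotientGroup.mk (Quotient.out (f (σ (rq S x))) * (bet σ hσ x)⁻¹) : S ⧸ T) = f x
    rw [QuotientGroup.mk_mul, QuotientGroup.mk_inv]
    have h1 : (QuotientGroup.mk (Quotient.out (f (σ (rq S x)))) : S ⧸ T) = f (σ (rq S x)) :=
      Quotient.out_eq _
    rw [h1]
    have h2 := hfe ((1 : S), bet σ hσ x) (σ (rq S x))
    rw [bet_spec, hsm] at h2
    rw [h2]
    simp
  refine ⟨ft, ?_, ?_⟩
  · intro b x
    show Quotient.out (f (σ (rq S (((1 : S), b) • x)))) * (bet σ hσ (((1 : S), b) • x))⁻¹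
      = Quotient.out (f (σ (rq S x))) * (bet σ hσ x)⁻¹ * b⁻¹
    rw [rq_smul, bet_smul σ hσ hfree, mul_inv_rev, mul_assoc]
  · intro a x
    have h1 : (QuotientGroup.mk (ft ((a, (1 : S)) • x)) : S ⧸ T)
        = (QuotientGroup.mk (a * ft x) : S ⧸ T) := by
      rw [hmk, hfe, hsm, QuotientGroup.mk_mul, hmk]
      simp
    have h2 := QuotientGroup.eq.1 h1
    rw [← mul_assoc] at h2
    exact h2

end Tw

end Cfsg.Agent.Lib.Helper88
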