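import Mathlib
import Cfsg.Prelude.Def_FusionSystem
import Cfsg.Agent.Lib.Helper84.HypStrongly
import Cfsg.Agent.Lib.Helper84.FusionSat2
import Cfsg.Agent.Lib.Helper87.FusionHyp
import Cfsg.Agent.Lib.Helper86.PPower
import Cfsg.Agent.Lib.Helper88.FusBasic
import Cfsg.Agent.Lib.Helper88.FusPAut
import Cfsg.Agent.Lib.Helper88.BisetSat
import Cfsg.Agent.Lib.Helper88.BisetTransfer
import Cfsg.Agent.Lib.Helper88.BisetCount
import Cfsg.Agent.Lib.Helper88.BisetTw

/-!
# Extension of invariant homomorphisms of the hyperfocal subgroup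

For a saturated fusion system `F` over `S` with hyperfocal subgroup `T`, every homomorphism from
`T` to an abelian `p`-group which is invariant under conjugation by `S` extends to `S`.  We record
this in the form: for `K ≤ T` normalized by `S` there is a subgroup `M` of `S` containing `K` and
the derived subgroup of `S`, with `M T = S`, such that `T ≤ M` forces `T ≤ K`.
-/

set_option autoImplicit false

namespace Cfsg.Agent.Lib.Helper88

open Cfsg Cfsg.FusionSystem MulAction
open scoped IsMulCommutative commutatorElement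

universe u v

/-- In a nilpotent group, a subgroup contained in the join of a normal subgroup `K` with its own
commutator with the whole group is contained in `K`. -/
theorem le_of_le_sup_commutator_top {G : Type*} [Group G] [hnil : Group.IsNilpotent G]
    (K T : Subgroup G) [K.Normal] (h : T ≤ K ⊔ ⁅T, (⊤ : Subgroup G)⁆) : T ≤ K := by
  have key : ∀ n : ℕ, T ≤ K ⊔ (⊤ : Subgroup G).lowerCentralSeries n := by
    intro n
    induction n with
    | zero =>
      rw [Subgroup.lowerCentralSeries_zero]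
      exact le_sup_of_le_right le_top
    | succ n ih =>
      have hW : K ⊔ (⊤ : Subgroup G).lowerCentralSeries n ≤
          (Subgroup.center (G ⧸ (K ⊔ (⊤ : Subgroup G).lowerCentralSeries (n + 1)))).comap
            (QuotientGroup.mk' _) := by
        apply sup_le
        · intro k hk
          rw [Subgroup.mem_comap, QuotientGroup.mk'_apply,
            (QuotientGroup.eq_one_iff k).2 (Subgroup.mem_sup_left hk)]
          exact Subgroup.one_mem _
        · intro l hl
          rw [Subgroup.mem_comap, Subgroup.mem_center_iff]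
          intro q
          obtain ⟨g, rfl⟩ := QuotientGroup.mk'_surjective _ q
          rw [QuotientGroup.mk'_apply, QuotientGroup.mk'_apply, ← QuotientGroup.mk_mul,
            ← QuotientGroup.mk_mul, QuotientGroup.eq]
          apply Subgroup.mem_sup_right
          have e : (g * l)⁻¹ * (l * g) = ⁅l⁻¹, g⁻¹⁆ := by
            rw [commutatorElement_def]
            group
          rw [e]
          exact Subgroup.commutator_mem_commutator (Subgroup.inv_mem _ hl) (Subgroup.mem_top _)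
      have h1 : ⁅T, (⊤ : Subgroup G)⁆ ≤ K ⊔ (⊤ : Subgroup G).lowerCentralSeries (n + 1) := by
        rw [Subgroup.commutator_le]
        intro t ht s _
        have h2 := hW (ih ht)
        rw [Subgroup.mem_comap, Subgroup.mem_center_iff] at h2
        have h3 := h2 (QuotientGroup.mk' _ s)
        rw [← QuotientGroup.eq_one_iff, commutatorElement_def, QuotientGroup.mk_mul,
          QuotientGroup.mk_mul, QuotientGroup.mk_mul, QuotientGroup.mk_inv, QuotientGroup.mk_inv]
        rw [QuotientGroup.mk'_apply, QuotientGroup.mk'_apply] at h3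
        rw [← h3]
        group
      exact h.trans (sup_le le_sup_left h1)
  obtain ⟨n, hn⟩ := Subgroup.nilpotent_iff_lowerCentralSeries.1 hnil
  have := key n
  rw [hn, sup_bot_eq] at this
  exact this

theorem TwFun.pow {Ω : Type u} [Group Ω] {S : Subgroup Ω} {T : Subgroup S} {A : Type v}
    [CommGroup A] {m : S → A} (hm : TwFun T m) {t : S} (ht : t ∈ T) (j : ℕ) :
    m (t ^ j) = m t ^ j := by
  induction j with
  | zero => rw [pow_zero, pow_zero, hm.one]
  | succ j ih => rw [pow_succ, pow_succ, hm.mul _ (T.pow_mem ht j) _ ht, ih]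

variable {Ω : Type u} [Group Ω] {S : Subgroup Ω}

/-- Every map of a saturated system is, modulo the hyperfocal subgroup, a conjugation by an
element of `S`. -/
theorem le_compat_hyp [Finite S] {p : ℕ} [Fact p.Prime] (hS : IsPGroup p S) (F : FusionSystem S)
    (hF : F.IsSaturated p) (T : Subgroup S) [T.Normal]
    (hT : ∀ s : S, (s : Ω) ∈ F.hyperfocalSubgroup p → s ∈ T) :
    F ≤ Helper84.compatSystem F (QuotientGroup.mk' T) := by
  apply Helper84.alperin_ih p hS F hF
  intro P hfn _ α hα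
  have hPS : P ≤ S := hfn.1
  apply Subgroup.subset_closure
  refine ⟨subtype_comp_mem F hPS hα, ?_⟩
  have hfa := Helper84.fullyAutomized_of_fullyNormalized p hS F hF hfn
  obtain ⟨c, hc, β, hβ, rfl⟩ := Helper87.exists_aut_mul_pResidual F hfa hα
  obtain ⟨g, hg, hcg⟩ := (Helper84.mem_autInducedBy_iff S P c).1 hc
  refine ⟨QuotientGroup.mk' T ⟨g, hg⟩, fun x hx hφ => ?_⟩
  have hβx : (x : Ω)⁻¹ * ((β x : P) : Ω) ∈ F.hyperfocalSubgroup p :=
    Helper87.hyperfocal_gen F p hPS hβ x
  have hβS : ((β x : P) : Ω) ∈ S := hPS (β x).2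
  have h1 : (⟨(P.subtype.comp (c * β).toMonoidHom) x, hφ⟩ : S)
      = ⟨g, hg⟩ * (⟨x, hx⟩ * (⟨x, hx⟩⁻¹ * ⟨((β x : P) : Ω), hβS⟩)) * ⟨g, hg⟩⁻¹ := by
    apply Subtype.ext
    show ((c (β x) : P) : Ω) = g * ((x : Ω) * ((x : Ω)⁻¹ * ((β x : P) : Ω))) * g⁻¹
    rw [hcg]
    group
  rw [h1, map_mul, map_mul, map_mul, map_inv]
  have h2 : QuotientGroup.mk' T (⟨x, hx⟩⁻¹ * ⟨((β x : P) : Ω), hβS⟩) = 1 := by
    rw [QuotientGroup.mk'_apply, QuotientGroup.eq_one_iff]
    exact hT _ hβx
  rw [h2, mul_one]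

/-- The hyperfocal subgroup is generated by the quotients of pairs of its elements that are
fused by a twisted automorphism of a stable biset. -/
theorem hyp_le_closure_fused [Finite S] {p : ℕ} [Fact p.Prime] (hS : IsPGroup p S)
    (F : FusionSystem S) (X : Type u) [MulAction (S × S) X] [Finite X]
    (hst : ∀ D D' : Subgroup (S × S), FFConj F D D' → mark D X = mark D' X)
    (T : Subgroup S) (hT : ∀ s : S, s ∈ T ↔ (s : Ω) ∈ F.hyperfocalSubgroup p) :
    T ≤ Subgroup.closure {w : S | ∃ u u' : S, u ∈ T ∧ u' ∈ T ∧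
      (∃ θ : Equiv.Perm X, θ ∈ rightPerm S X ∧
        ∀ x : X, θ ((u, (1 : S)) • x) = (u', (1 : S)) • θ x) ∧ w = u⁻¹ * u'} := by
  set C := Subgroup.closure {w : S | ∃ u u' : S, u ∈ T ∧ u' ∈ T ∧
      (∃ θ : Equiv.Perm X, θ ∈ rightPerm S X ∧
        ∀ x : X, θ ((u, (1 : S)) • x) = (u', (1 : S)) • θ x) ∧ w = u⁻¹ * u'} with hC
  have hmain : F.hyperfocalSubgroup p ≤ C.map S.subtype := by
    unfold FusionSystem.hyperfocalSubgroup
    rw [Subgroup.closure_le]
    rintro y ⟨P, α, x, hPS, hα, rfl⟩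
    have hfinP : Finite P := Finite.of_injective _ (Subgroup.inclusion_injective hPS)
    -- elements of order prime to `p`
    have hb : ∀ α : F.autGroup P, Nat.Coprime (orderOf α) p → ∀ x : P,
        (x : Ω)⁻¹ * (((α : MulAut P) x : P) : Ω) ∈ C.map S.subtype := by
      intro α hcop x
      have hak : (α : MulAut P) ^ orderOf α = 1 := by
        rw [← Subgroup.coe_pow, pow_orderOf_eq_one]
        rfl
      have hPN : ∀ z : P, z⁻¹ * (α : MulAut P) z ∈ (F.hyperfocalSubgroup p).subgroupOf P := by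
        intro z
        rw [Subgroup.mem_subgroupOf]
        exact hyp_gen_mem F hPS α.2 hcop hak z
      have hN : IsPGroup p ((F.hyperfocalSubgroup p).subgroupOf P) :=
        (hS.to_le hPS).to_subgroup _
      have h1 := Helper86.commutator_mem_closure_of_coprime (α : MulAut P) hak hcop
        ((F.hyperfocalSubgroup p).subgroupOf P) hN hPN x
      have hle : Subgroup.closure {y : P | ∃ z ∈ (F.hyperfocalSubgroup p).subgroupOf P,
          y = z⁻¹ * (α : MulAut P) z} ≤ (C.map S.subtype).subgroupOf P := by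
        rw [Subgroup.closure_le]
        rintro y ⟨z, hz, rfl⟩
        rw [SetLike.mem_coe, Subgroup.mem_subgroupOf]
        have hzT : (z : Ω) ∈ F.hyperfocalSubgroup p := Subgroup.mem_subgroupOf.1 hz
        have hzT' : (((α : MulAut P) z : P) : Ω) ∈ F.hyperfocalSubgroup p := by
          have h2 := Subgroup.mem_subgroupOf.1 (hPN z)
          have e : (((α : MulAut P) z : P) : Ω)
              = (z : Ω) * (((z⁻¹ * (α : MulAut P) z : P) : P) : Ω) := by
            rw [Subgroup.coe_mul, Subgroup.coe_inv]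
            group
          rw [e]
          exact Subgroup.mul_mem _ hzT h2
        obtain ⟨θ, hθ, hθa⟩ := exists_perm_of_hom F X hst hPS
          (subtype_comp_mem F hPS α.2) (fun x => hPS ((α : MulAut P) x).2)
        refine ⟨(⟨z, hPS z.2⟩ : S)⁻¹ * ⟨(((α : MulAut P) z : P) : Ω), hPS ((α : MulAut P) z).2⟩,
          ?_, ?_⟩
        · apply Subgroup.subset_closure
          exact ⟨⟨z, hPS z.2⟩, ⟨(((α : MulAut P) z : P) : Ω), hPS ((α : MulAut P) z).2⟩,
            (hT _).2 hzT, (hT _).2 hzT', ⟨θ, hθ, fun x => hθa z x⟩, rfl⟩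
        · rfl
      exact Subgroup.mem_subgroupOf.1 (hle h1)
    -- the residual
    have hres : ∀ α ∈ pResidual p (F.autGroup P), ∀ x : P,
        (x : Ω)⁻¹ * (((α : MulAut P) x : P) : Ω) ∈ C.map S.subtype := by
      intro α hα
      unfold Cfsg.pResidual at hα
      induction hα using Subgroup.closure_induction with
      | mem α hα => exact hb α hα
      | one =>
        intro x
        have e : (x : Ω)⁻¹ * ((((1 : F.autGroup P) : MulAut P) x : P) : Ω) = 1 := by
          show (x : Ω)⁻¹ * (x : Ω) = 1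
          group
        rw [e]
        exact Subgroup.one_mem _
      | mul α β _ _ hα hβ =>
        intro x
        have e : (x : Ω)⁻¹ * ((((α * β : F.autGroup P) : MulAut P) x : P) : Ω)
            = ((x : Ω)⁻¹ * (((β : MulAut P) x : P) : Ω))
              * ((((β : MulAut P) x : P) : Ω)⁻¹
                * (((α : MulAut P) ((β : MulAut P) x) : P) : Ω)) := by
          show (x : Ω)⁻¹ * (((α : MulAut P) ((β : MulAut P) x) : P) : Ω) = _
          group
        rw [e]
        exact Subgroup.mul_mem _ (hβ x) (hα _)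
      | inv α _ hα =>
        intro x
        have h1 := hα ((α : MulAut P)⁻¹ x)
        have e2 : (α : MulAut P) ((α : MulAut P)⁻¹ x) = x := by simp
        rw [e2] at h1
        have e : (x : Ω)⁻¹ * ((((α⁻¹ : F.autGroup P) : MulAut P) x : P) : Ω)
            = ((((α : MulAut P)⁻¹ x : P) : Ω)⁻¹ * (x : Ω))⁻¹ := by
          show (x : Ω)⁻¹ * (((α : MulAut P)⁻¹ x : P) : Ω) = _
          group
        rw [e]
        exact Subgroup.inv_mem _ h1
    exact hres α hα x
  intro s hs
  obtain ⟨c, hc, hcs⟩ := hmain ((hT s).1 hs)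
  have : c = s := Subtype.ext hcs
  rw [← this]
  exact hc

/-- **Extension of invariant homomorphisms of the hyperfocal subgroup.**  For a subgroup `K` of
the hyperfocal subgroup `T` of a saturated system, normalized by `S`, there is a subgroup `M` of
`S` containing `K` and all commutators of `S`, with `S = M T`, such that `T ≤ M` implies
`T ≤ K`. -/
theorem hyp_ext [Finite S] {p : ℕ} [Fact p.Prime] (hS : IsPGroup p S) (F : FusionSystem S)
    (hF : F.IsSaturated p) (K : Subgroup Ω) (hK : K ≤ F.hyperfocalSubgroup p)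
    (hKn : ∀ s ∈ S, ∀ k ∈ K, s * k * s⁻¹ ∈ K) :
    ∃ M : Subgroup Ω, M ≤ S ∧ (∀ a ∈ S, ∀ b ∈ S, a * b * a⁻¹ * b⁻¹ ∈ M) ∧ K ≤ M ∧
      S ≤ M ⊔ F.hyperfocalSubgroup p ∧
      (F.hyperfocalSubgroup p ≤ M → F.hyperfocalSubgroup p ≤ K) := by
  classical
  have hThS : F.hyperfocalSubgroup p ≤ S := Helper87.hyperfocal_le F p
  obtain ⟨T, hTdef⟩ : ∃ T : Subgroup S, T = (F.hyperfocalSubgroup p).subgroupOf S := ⟨_, rfl⟩
  have hT : ∀ s : S, s ∈ T ↔ (s : Ω) ∈ F.hyperfocalSubgroup p := by
    intro s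
    rw [hTdef, Subgroup.mem_subgroupOf]
  have hTn : T.Normal := by
    constructor
    intro t ht s
    rw [hT] at ht ⊢
    exact Helper87.hyperfocal_conj_mem F p s.2 ht
  obtain ⟨K', hK'def⟩ : ∃ K' : Subgroup S, K' = K.subgroupOf S := ⟨_, rfl⟩
  have hK' : ∀ s : S, s ∈ K' ↔ (s : Ω) ∈ K := by
    intro s
    rw [hK'def, Subgroup.mem_subgroupOf]
  have hK'n : K'.Normal := by
    constructor
    intro k hk s
    rw [hK'] at hk ⊢
    exact hKn s s.2 k hk
  have hK'T : K' ≤ T := by
    intro k hk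
    rw [hT]
    exact hK ((hK' k).1 hk)
  obtain ⟨T₀, hT₀def⟩ : ∃ T₀ : Subgroup S, T₀ = K' ⊔ ⁅T, (⊤ : Subgroup S)⁆ := ⟨_, rfl⟩
  have hT₀n : T₀.Normal := by
    rw [hT₀def]
    infer_instance
  have hT₀T : T₀ ≤ T := by
    rw [hT₀def]
    exact sup_le hK'T (Subgroup.commutator_le_left T ⊤)
  have hcen : ∀ t ∈ T, (QuotientGroup.mk t : S ⧸ T₀) ∈ Subgroup.center (S ⧸ T₀) := by
    intro t ht
    rw [Subgroup.mem_center_iff]
    intro q
    obtain ⟨g, rfl⟩ := QuotientGroup.mk_surjective q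
    rw [← QuotientGroup.mk_mul, ← QuotientGroup.mk_mul, QuotientGroup.eq, hT₀def]
    apply Subgroup.mem_sup_right
    have e : (g * t)⁻¹ * (t * g) = ⁅t⁻¹, g⁻¹⁆ := by
      rw [commutatorElement_def]
      group
    rw [e]
    exact Subgroup.commutator_mem_commutator (T.inv_mem ht) (Subgroup.mem_top _)
  let m : S → Subgroup.center (S ⧸ T₀) := fun s =>
    if h : s ∈ T then ⟨QuotientGroup.mk s, hcen s h⟩ else 1
  have hm_pos : ∀ s (h : s ∈ T), m s = ⟨QuotientGroup.mk s, hcen s h⟩ := fun s h => dif_pos h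
  have hm_neg : ∀ s, s ∉ T → m s = 1 := fun s h => dif_neg h
  have hm_val : ∀ s ∈ T, ((m s : Subgroup.center (S ⧸ T₀)) : S ⧸ T₀) = QuotientGroup.mk s := by
    intro s hs
    rw [hm_pos s hs]
  have hm : TwFun T m := by
    constructor
    · intro s hs t ht
      apply Subtype.ext
      rw [Subgroup.coe_mul, hm_val _ (T.mul_mem hs ht), hm_val s hs, hm_val t ht]
      rfl
    · intro b s
      by_cases hs : s ∈ T
      · have hbs : b * s * b⁻¹ ∈ T := hTn.conj_mem s hs b
        apply Subtype.ext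
        rw [hm_val _ hbs, hm_val s hs, QuotientGroup.mk_mul, QuotientGroup.mk_mul,
          QuotientGroup.mk_inv]
        have h1 := (Subgroup.mem_center_iff.1 (hcen s hs)) (QuotientGroup.mk b)
        rw [h1]
        group
      · have hbs : b * s * b⁻¹ ∉ T := by
          intro h
          apply hs
          have h2 := hTn.conj_mem _ h b⁻¹
          have e : b⁻¹ * (b * s * b⁻¹) * b⁻¹⁻¹ = s := by group
          rwa [e] at h2
        rw [hm_neg _ hbs, hm_neg _ hs]
  have hm_one : ∀ t ∈ T, m t = 1 ↔ t ∈ T₀ := by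
    intro t ht
    constructor
    · intro h
      have h1 := hm_val t ht
      rw [h] at h1
      exact (QuotientGroup.eq_one_iff t).1 h1.symm
    · intro h
      apply Subtype.ext
      rw [hm_val t ht]
      exact (QuotientGroup.eq_one_iff t).2 h
  have hexp : ∀ c : Subgroup.center (S ⧸ T₀), c ^ Nat.card S = 1 := by
    intro c
    obtain ⟨s, hs⟩ := QuotientGroup.mk_surjective (c : S ⧸ T₀)
    apply Subtype.ext
    rw [Subgroup.coe_pow, ← hs, ← QuotientGroup.mk_pow, pow_card_eq_one']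
    rfl
  -- the characteristic biset
  obtain ⟨X, iX, fX, hgen, hst, -, c, hc⟩ := exists_char_biset hS F hF
  have hn := card_rq_not_dvd hS F hF X hgen hst c hc
  have hfree : RightFree S X := genBy_rightFree hgen
  have hcompat := le_compat_hyp hS F hF T (fun s hs => (hT s).2 hs)
  obtain ⟨ft, hf, hl⟩ := exists_leftEq hfree T (by
    intro x
    obtain ⟨P, f, ⟨φ, hφ, hφf⟩, hD⟩ := hgen x
    obtain ⟨-, γ, hγ⟩ := hcompat P hφ
    refine ⟨γ⁻¹, fun g hg => ?_⟩
    obtain ⟨h1, h2⟩ := (hD g).1 hg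
    have hφS : φ ⟨(g.1 : Ω), h1⟩ ∈ S := (F.le_of_mem hφ).2 _
    have h3 := hγ ⟨(g.1 : Ω), h1⟩ g.1.2 hφS
    have e1 : (⟨φ ⟨(g.1 : Ω), h1⟩, hφS⟩ : S) = g.2 := by
      apply Subtype.ext
      show φ ⟨(g.1 : Ω), h1⟩ = (g.2 : Ω)
      rw [h2, hφf]
    have e2 : (⟨((⟨(g.1 : Ω), h1⟩ : P) : Ω), g.1.2⟩ : S) = g.1 := Subtype.ext rfl
    rw [e1, e2, QuotientGroup.mk'_apply, QuotientGroup.mk'_apply] at h3
    rw [h3]
    group)
  have hgenT := hyp_le_closure_fused hS F X hst T hT
  obtain ⟨lam, hlam1, hlam2⟩ := exists_hom_of_leftEq T hm hf hl hgenT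
  -- extraction of a root
  have hp : p.Prime := Fact.out
  have hcop : Nat.Coprime (Nat.card (RQ S X)) (Nat.card S) := by
    obtain ⟨k, hk⟩ := IsPGroup.iff_card.1 hS
    rw [hk]
    exact Nat.Coprime.pow_right k ((Nat.Prime.coprime_iff_not_dvd hp).2 hn).symm
  have hroot : ∃ j : ℕ, ∀ c : Subgroup.center (S ⧸ T₀), c ^ (Nat.card (RQ S X) * j) = c := by
    rcases Nat.lt_or_ge 1 (Nat.card S) with h1 | h1
    · obtain ⟨j, -, hj⟩ := Nat.exists_mul_mod_eq_one_of_coprime hcop h1
      refine ⟨j, fun c => ?_⟩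
      have h2 := Nat.div_add_mod (Nat.card (RQ S X) * j) (Nat.card S)
      rw [hj] at h2
      rw [← h2, pow_add, pow_mul, hexp, one_pow, one_mul, pow_one]
    · refine ⟨1, fun c => ?_⟩
      have h2 : Nat.card S = 1 := le_antisymm h1 Nat.card_pos
      have h3 := hexp c
      rw [h2, pow_one] at h3
      rw [h3, one_pow]
  obtain ⟨j, hj⟩ := hroot
  have hlam1' : ∀ t ∈ T, (lam ^ j) t = m t := by
    intro t ht
    rw [MonoidHom.pow_apply, hlam1 t ht, ← pow_mul, hj]
  have hlam2' : ∀ a : S, ∃ t ∈ T, (lam ^ j) a = m t := by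
    intro a
    obtain ⟨t, ht, hta⟩ := hlam2 a
    refine ⟨t ^ j, T.pow_mem ht j, ?_⟩
    rw [MonoidHom.pow_apply, hta, hm.pow ht]
  refine ⟨((lam ^ j).ker).map S.subtype, Subgroup.map_subtype_le _, ?_, ?_, ?_, ?_⟩
  · intro a ha b hb
    refine ⟨(⟨a, ha⟩ * ⟨b, hb⟩) * (⟨b, hb⟩ * ⟨a, ha⟩)⁻¹, ?_, ?_⟩
    · rw [SetLike.mem_coe, MonoidHom.mem_ker, map_mul, map_inv, map_mul, map_mul,
        mul_comm ((lam ^ j) ⟨a, ha⟩), mul_inv_cancel]
    · show a * b * (b * a)⁻¹ = a * b * a⁻¹ * b⁻¹
      group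
  · intro k hk
    have hkS : k ∈ S := hThS (hK hk)
    have hkK' : (⟨k, hkS⟩ : S) ∈ K' := (hK' _).2 hk
    have hkT : (⟨k, hkS⟩ : S) ∈ T := hK'T hkK'
    refine ⟨⟨k, hkS⟩, ?_, rfl⟩
    rw [SetLike.mem_coe, MonoidHom.mem_ker, hlam1' _ hkT, hm_one _ hkT, hT₀def]
    exact Subgroup.mem_sup_left hkK'
  · intro s hs
    obtain ⟨t, ht, hts⟩ := hlam2' ⟨s, hs⟩
    have h1 : (⟨s, hs⟩ : S) * t⁻¹ ∈ (lam ^ j).ker := by
      rw [MonoidHom.mem_ker, map_mul, map_inv, hts, hlam1' t ht, mul_inv_cancel]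
    have e : s = ((⟨s, hs⟩ : S) * t⁻¹ : S) * (t : Ω) := by
      rw [Subgroup.coe_mul, Subgroup.coe_inv]
      group
    rw [e]
    exact Subgroup.mul_mem_sup ⟨_, h1, rfl⟩ ((hT t).1 ht)
  · intro hle
    have hTT₀ : T ≤ K' ⊔ ⁅T, (⊤ : Subgroup S)⁆ := by
      intro t ht
      rw [← hT₀def, ← hm_one t ht, ← hlam1' t ht]
      obtain ⟨c, hc, hct⟩ := hle ((hT t).1 ht)
      have : c = t := Subtype.ext hct
      rw [← this]
      exact hc
    have : Group.IsNilpotent S := hS.isNilpotent
    have hTK := le_of_le_sup_commutator_top K' T hTT₀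
    intro x hx
    have hxS : x ∈ S := hThS hx
    exact (hK' ⟨x, hxS⟩).1 (hTK ((hT ⟨x, hxS⟩).2 hx))

/-- **Tate's criterion for fusion systems**: the hyperfocal subgroup of a saturated system is
trivial as soon as it lies in the Frattini subgroup of `S`. -/
theorem hyp_eq_bot_of_le_frattini [Finite S] {p : ℕ} [Fact p.Prime] (hS : IsPGroup p S)
    (F : FusionSystem S) (hF : F.IsSaturated p)
    (h : F.hyperfocalSubgroup p ≤ (frattini ↥S).map S.subtype) : F.hyperfocalSubgroup p = ⊥ := by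
  obtain ⟨M, hMS, -, -, hsup, himp⟩ := hyp_ext hS F hF ⊥ bot_le (by
    intro s _ k hk
    rw [Subgroup.mem_bot] at hk ⊢
    rw [hk]
    group)
  have hle : M ⊔ F.hyperfocalSubgroup p ≤ (M.subgroupOf S ⊔ frattini ↥S).map S.subtype := by
    rw [Subgroup.map_sup, Subgroup.map_subgroupOf_eq_of_le hMS]
    exact sup_le_sup_left h M
  have h1 : M.subgroupOf S ⊔ frattini ↥S = ⊤ := by
    rw [eq_top_iff]
    rintro s -
    obtain ⟨c, hc, hcs⟩ := hle (hsup s.2)
    have : c = s := Subtype.ext hcs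
    rw [← this]
    exact hc
  have h2 := frattini_nongenerating h1
  have h3 : S ≤ M := Subgroup.subgroupOf_eq_top.1 h2
  exact le_bot_iff.1 (himp ((Helper87.hyperfocal_le F p).trans h3))

/-- A saturated system with trivial hyperfocal subgroup is the inner system. -/
theorem eq_inner_of_hyp_eq_bot [Finite S] {p : ℕ} [Fact p.Prime] (hS : IsPGroup p S)
    (F : FusionSystem S) (hF : F.IsSaturated p) (h : F.hyperfocalSubgroup p = ⊥) :
    ∀ P : Subgroup Ω, F.Hom P = (innerFusionSystem S).Hom P := by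
  apply eq_inner_of_isPGroup hS F hF
  intro P hP
  apply isPGroup_autGroup_of_coprime_trivial F hP
  intro b hb m hm hbm
  ext x
  have h1 := hyp_gen_mem F hP hb hm hbm x
  rw [h, Subgroup.mem_bot] at h1
  have h2 : x⁻¹ * b x = 1 := Subtype.ext h1
  have h3 := inv_mul_eq_one.1 h2
  show ((b x : P) : Ω) = (x : Ω)
  rw [← h3]

end Cfsg.Agent.Lib.Helper88
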