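import Mathlib
import Cfsg.Agent.Lib.Helper88.FusW
import Cfsg.Agent.Lib.Helper88.FusNormal

set_option autoImplicit false

namespace Cfsg.Agent.Lib.Helper88

open Cfsg Cfsg.FusionSystem

variable {Ω : Type*} [Group Ω] {S : Subgroup Ω}

theorem subgroups_le_finite (T : Subgroup Ω) [Finite T] : Set.Finite {Q : Subgroup Ω | Q ≤ T} := by
  refine Set.Finite.subset (Set.finite_range (fun H : Subgroup T => H.map T.subtype)) ?_
  intro Q hQ
  exact ⟨Q.subgroupOf T, Subgroup.map_subgroupOf_eq_of_le hQ⟩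

theorem normal_sSup_fin [Finite S] (F : FusionSystem S) (t : Set (Subgroup Ω)) (ht : t.Finite)
    (h : ∀ Q ∈ t, F.IsNormal Q) : F.IsNormal (sSup t) := by
  induction t, ht using Set.Finite.induction_on with
  | empty => rw [sSup_empty]; exact normal_bot F
  | @insert a s _ _ ih =>
    rw [sSup_insert]
    exact normal_sup (h a (Set.mem_insert a s)) (ih fun Q hQ => h Q (Set.mem_insert_of_mem a hQ))

theorem stronglyClosed_mor {F : FusionSystem S} {Q U : Subgroup Ω} (hQ : F.StronglyClosed Q)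
    (hU : U ≤ Q) {f : Ω → Ω} (hf : Mor F U f) : ∀ x ∈ U, f x ∈ Q := by
  intro x hx
  obtain ⟨φ, hφ, hφf⟩ := hf
  rw [← hφf ⟨x, hx⟩]
  exact hQ.2 U hU φ hφ ⟨x, hx⟩

theorem normal_stronglyClosed {F : FusionSystem S} {Q : Subgroup Ω} (hQ : F.IsNormal Q) :
    F.StronglyClosed Q := Helper87.isNormal_stronglyClosed F hQ

/-- The image of a join under a map of the system. -/
theorem img_sup {F : FusionSystem S} {T A B : Subgroup Ω} {a : Ω → Ω} (ha : Mor F T a)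
    (hA : A ≤ T) (hB : B ≤ T) : img (A ⊔ B) a = img A a ⊔ img B a := by
  have ha0 := ha
  obtain ⟨ψ, hψ, hψa⟩ := ha
  have key : ∀ X : Subgroup Ω, X ≤ T → img X a = (X.subgroupOf T).map ψ := by
    intro X hX
    ext y
    rw [(ha0.res hX).mem_img, Subgroup.mem_map]
    constructor
    · rintro ⟨x, hx, rfl⟩
      exact ⟨⟨x, hX hx⟩, Subgroup.mem_subgroupOf.mpr hx, hψa _⟩
    · rintro ⟨x, hx, rfl⟩
      exact ⟨x, Subgroup.mem_subgroupOf.mp hx, (hψa x).symm⟩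
  rw [key _ (sup_le hA hB), key _ hA, key _ hB, Subgroup.subgroupOf_sup hA hB, Subgroup.map_sup]

/-- A function-level automorphism of `T` in `F`, for `T` strongly closed: it has an inverse. -/
theorem aut_inverse [Finite S] {F : FusionSystem S} {T : Subgroup Ω} (hT : F.StronglyClosed T)
    {a : Ω → Ω} (ha : Mor F T a) :
    ∃ a', Mor F T a' ∧ (∀ x ∈ T, a x ∈ T) ∧ (∀ x ∈ T, a' x ∈ T) ∧ (∀ x ∈ T, a' (a x) = x) ∧
      ∀ x ∈ T, a (a' x) = x := by
  have hTT : ∀ x ∈ T, a x ∈ T := stronglyClosed_mor hT le_rfl ha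
  obtain ⟨a', ha', -, h1, h2⟩ := ha.exists_inv_img (ha.img_eq_self hTT)
  exact ⟨a', ha', hTT, fun x hx => (h2 x hx).1, h1, fun x hx => (h2 x hx).2⟩

/-- Invariance of an invariant subsystem, at the level of functions. -/
theorem invariant_conj [Finite S] {F : FusionSystem S} {T : Subgroup Ω} {E : FusionSystem T}
    (hE : E.IsInvariantIn F) {P : Subgroup Ω} (hPT : P ≤ T) {f : Ω → Ω} (hf : Mor E P f)
    {a a' : Ω → Ω} (ha : Mor F T a) (ha' : ∀ x ∈ T, a' (a x) = x) :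
    Mor E (img P a) (fun y => a (f (a' y))) := by
  obtain ⟨-, hT, hinv, -⟩ := hE
  obtain ⟨φ, hφ, hφf⟩ := hf
  have hTT : ∀ x ∈ T, a x ∈ T := stronglyClosed_mor hT le_rfl ha
  obtain ⟨α, hα, hαa⟩ := ha.exists_aut hTT
  obtain ⟨χ, hχ, hχ'⟩ := hinv P hPT φ hφ α hα
  have hP' : (P.subgroupOf T).map (T.subtype.comp α.toMonoidHom) = img P a := by
    ext y
    rw [(ha.res hPT).mem_img, Subgroup.mem_map]
    constructor
    · rintro ⟨x, hx, rfl⟩
      exact ⟨x, Subgroup.mem_subgroupOf.mp hx, (hαa x).symm⟩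
    · rintro ⟨x, hx, rfl⟩
      exact ⟨⟨x, hPT hx⟩, Subgroup.mem_subgroupOf.mpr hx, hαa _⟩
  have key : Mor E ((P.subgroupOf T).map (T.subtype.comp α.toMonoidHom))
      (fun y => a (f (a' y))) := by
    refine ⟨χ, hχ, ?_⟩
    rintro ⟨y, hy⟩
    obtain ⟨x, hx, rfl⟩ := Subgroup.mem_map.mp hy
    have hxP : (x : Ω) ∈ P := Subgroup.mem_subgroupOf.mp hx
    have hφx : φ ⟨x, hxP⟩ ∈ T := (E.le_of_mem hφ).2 _
    have h1 := hχ' ⟨x, hxP⟩ hφx hy
    have h2 : (T.subtype.comp α.toMonoidHom) x = a (x : Ω) := hαa x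
    have h3 : a (f (a' ((T.subtype.comp α.toMonoidHom) x))) = ((α ⟨φ ⟨x, hxP⟩, hφx⟩ : T) : Ω) := by
      rw [h2, ha' _ x.2, ← hφf ⟨x, hxP⟩, ← hαa ⟨_, hφx⟩]
    show χ ⟨_, hy⟩ = a (f (a' ((T.subtype.comp α.toMonoidHom) x)))
    rw [h3]
    exact h1
  rw [hP'] at key
  exact key

/-- The Frattini condition of an invariant subsystem, at the level of functions. -/
theorem invariant_frattini {F : FusionSystem S} {T : Subgroup Ω} {E : FusionSystem T}
    (hE : E.IsInvariantIn F) {P : Subgroup Ω} (hPT : P ≤ T) {f : Ω → Ω} (hf : Mor F P f) :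
    ∃ a f₀, Mor F T a ∧ Mor E P f₀ ∧ ∀ x ∈ P, f x = a (f₀ x) := by
  obtain ⟨-, hT, -, hfrat⟩ := hE
  obtain ⟨φ, hφ, hφf⟩ := hf
  obtain ⟨α, hα, φ₀, hφ₀, h⟩ := hfrat P hPT φ hφ
  refine ⟨extFun (fun x : T => ((α x : T) : Ω)), extFun φ₀, (mem_autGroup_iff F hT.1 α).mp hα,
    mor_of_hom E hφ₀, ?_⟩
  intro x hx
  have hx' : φ₀ ⟨x, hx⟩ ∈ T := (E.le_of_mem hφ₀).2 _
  rw [← hφf ⟨x, hx⟩, h ⟨x, hx⟩ hx', extFun_mem φ₀ hx, extFun_mem _ hx']

theorem subsystem_mor {F : FusionSystem S} {T : Subgroup Ω} {E : FusionSystem T}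
    (hE : E.IsSubsystemOf F) {P : Subgroup Ω} {f : Ω → Ω} (hf : Mor E P f) : Mor F P f := by
  obtain ⟨φ, hφ, hφf⟩ := hf
  exact ⟨φ, hE P hφ, hφf⟩

/-- The image of a subgroup normal in an invariant subsystem `E` under an automorphism of `T` in
`F` is normal in `E`. -/
theorem invariant_normal_img [Finite S] {F : FusionSystem S} {T : Subgroup Ω}
    {E : FusionSystem T} (hE : E.IsInvariantIn F) {R : Subgroup Ω} (hR : E.IsNormal R)
    {a : Ω → Ω} (ha : Mor F T a) : E.IsNormal (img R a) := by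
  have hT := hE.2.1
  have hfinT : Finite T := Finite.of_injective _ (Subgroup.inclusion_injective hT.1)
  obtain ⟨a', ha', haT, ha'T, ha'a, haa'⟩ := aut_inverse hT ha
  have hRT : R ≤ T := hR.1
  have himgT : img R a ≤ T := by
    intro y hy
    obtain ⟨x, hx, rfl⟩ := (ha.res hRT).mem_img.mp hy
    exact haT x (hRT hx)
  apply isNormal_of himgT
  intro P f hf
  have hPT : P ≤ T := hf.le
  -- transport `f` back along `a`
  have hf₀ : Mor E (img P a') (fun y => a' (f (a y))) := invariant_conj hE hPT hf ha' haa'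
  have hP₀T : img P a' ≤ T := hf₀.le
  obtain ⟨f₁, hf₁, hf₁P, hf₁R, -⟩ := normal_extend hR hf₀
  have hsupT : img P a' ⊔ R ≤ T := sup_le hP₀T hRT
  have hf' : Mor E (img (img P a' ⊔ R) a) (fun y => a (f₁ (a' y))) :=
    invariant_conj hE hsupT hf₁ ha ha'a
  have himg : img (img P a' ⊔ R) a = P ⊔ img R a := by
    rw [img_sup ha hP₀T hRT]
    congr 1
    ext y
    rw [(ha.res hP₀T).mem_img]
    constructor
    · rintro ⟨x, hx, rfl⟩
      obtain ⟨z, hz, rfl⟩ := (ha'.res hPT).mem_img.mp hx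
      rw [haa' z (hPT hz)]; exact hz
    · intro hy
      exact ⟨a' y, (ha'.res hPT).apply_mem_img hy, haa' y (hPT hy)⟩
  rw [himg] at hf'
  refine ⟨_, hf', ?_, ?_⟩
  · intro x hx
    show a (f₁ (a' x)) = f x
    rw [hf₁P _ ((ha'.res hPT).apply_mem_img hx)]
    show a (a' (f (a (a' x)))) = f x
    rw [haa' x (hPT hx), haa' _ (hf.mem_S hx)]
  · intro x hx
    obtain ⟨r, hr, rfl⟩ := (ha.res hRT).mem_img.mp hx
    show a (f₁ (a' (a r))) ∈ img R a
    rw [ha'a r (hRT hr)]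
    exact (ha.res hRT).apply_mem_img (hf₁R r hr)

end Cfsg.Agent.Lib.Helper88
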