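import Mathlib
import Cfsg.Prelude.Def_FusionComponents
import Cfsg.Agent.Lib.Helper88.FusBasic
import Cfsg.Agent.Lib.Helper85.FusionFactor
import Cfsg.Agent.S5133
import Cfsg.Agent.S5134
import Cfsg.Agent.S5256

set_option autoImplicit false

namespace Cfsg.Agent.Lib.Helper88

open Cfsg Cfsg.FusionSystem

section

variable {Ω : Type*} [Group Ω] {Ω' : Type*} [Group Ω']

/-- The image of `P` under a function into another group, as a subgroup. -/
def imgX (P : Subgroup Ω) (a : Ω → Ω') : Subgroup Ω' := Subgroup.closure (a '' (P : Set Ω))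

/-- `a` is multiplicative on `S`. -/
def MulOn (S : Subgroup Ω) (a : Ω → Ω') : Prop := ∀ x ∈ S, ∀ y ∈ S, a (x * y) = a x * a y

/-- The homomorphism on `S` given by a function multiplicative on `S`. -/
def homOn (S : Subgroup Ω) (a : Ω → Ω') (h : MulOn S a) : S →* Ω' :=
  MonoidHom.mk' (fun s : S => a s) (fun x y => h x x.2 y y.2)

theorem homOn_apply (S : Subgroup Ω) (a : Ω → Ω') (h : MulOn S a) (s : S) :
    homOn S a h s = a s := rfl

theorem MulOn.map_one {S : Subgroup Ω} {a : Ω → Ω'} (h : MulOn S a) : a 1 = 1 := by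
  have := h 1 S.one_mem 1 S.one_mem
  rw [mul_one] at this
  have h2 : a 1 * a 1 = a 1 * 1 := by rw [mul_one]; exact this.symm
  exact mul_left_cancel h2

theorem MulOn.mono {S T : Subgroup Ω} {a : Ω → Ω'} (h : MulOn S a) (hT : T ≤ S) : MulOn T a :=
  fun x hx y hy => h x (hT hx) y (hT hy)

theorem MulOn.map_inv {S : Subgroup Ω} {a : Ω → Ω'} (h : MulOn S a) {x : Ω} (hx : x ∈ S) :
    a x⁻¹ = (a x)⁻¹ := by
  have := h x hx x⁻¹ (S.inv_mem hx)
  rw [mul_inv_cancel, h.map_one] at this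
  exact eq_inv_of_mul_eq_one_right this.symm

theorem imgX_eq_map {S P : Subgroup Ω} {a : Ω → Ω'} (h : MulOn S a) (hP : P ≤ S) :
    imgX P a = (P.subgroupOf S).map (homOn S a h) := by
  have hset : a '' (P : Set Ω) = (((P.subgroupOf S).map (homOn S a h) : Subgroup Ω') : Set Ω') := by
    ext z
    constructor
    · rintro ⟨x, hx, rfl⟩
      exact ⟨⟨x, hP hx⟩, Subgroup.mem_subgroupOf.mpr hx, rfl⟩
    · rintro ⟨x, hx, rfl⟩
      exact ⟨x, Subgroup.mem_subgroupOf.mp hx, rfl⟩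
  unfold imgX
  rw [hset, Subgroup.closure_eq]

theorem mem_imgX {S P : Subgroup Ω} {a : Ω → Ω'} (h : MulOn S a) (hP : P ≤ S) {y : Ω'} :
    y ∈ imgX P a ↔ ∃ x ∈ P, a x = y := by
  rw [imgX_eq_map h hP]
  constructor
  · rintro ⟨x, hx, rfl⟩
    exact ⟨x, Subgroup.mem_subgroupOf.mp hx, rfl⟩
  · rintro ⟨x, hx, rfl⟩
    exact ⟨⟨x, hP hx⟩, Subgroup.mem_subgroupOf.mpr hx, rfl⟩

theorem imgX_mono {P Q : Subgroup Ω} (a : Ω → Ω') (h : P ≤ Q) : imgX P a ≤ imgX Q a :=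
  Subgroup.closure_mono (Set.image_mono h)

theorem imgX_congr {P : Subgroup Ω} {a a₁ : Ω → Ω'} (h : ∀ x ∈ P, a x = a₁ x) :
    imgX P a = imgX P a₁ := by
  unfold imgX
  congr 1
  exact Set.image_congr h

theorem imgX_sup {S P Q : Subgroup Ω} {a : Ω → Ω'} (h : MulOn S a) (hP : P ≤ S) (hQ : Q ≤ S) :
    imgX (P ⊔ Q) a = imgX P a ⊔ imgX Q a := by
  rw [imgX_eq_map h (sup_le hP hQ), imgX_eq_map h hP, imgX_eq_map h hQ,
    Subgroup.subgroupOf_sup hP hQ, Subgroup.map_sup]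

theorem imgX_bot {S : Subgroup Ω} {a : Ω → Ω'} (h : MulOn S a) : imgX ⊥ a = ⊥ := by
  rw [eq_bot_iff]
  intro y hy
  obtain ⟨x, hx, rfl⟩ := (mem_imgX h bot_le).mp hy
  rw [Subgroup.mem_bot] at hx
  rw [hx, h.map_one]
  exact Subgroup.one_mem _

theorem apply_mem_imgX {P : Subgroup Ω} (a : Ω → Ω') {x : Ω} (hx : x ∈ P) : a x ∈ imgX P a :=
  Subgroup.subset_closure ⟨x, hx, rfl⟩

variable {S : Subgroup Ω} {S' : Subgroup Ω'}

/-- One half of an isomorphism of fusion systems, at the level of functions. -/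
structure HIso (F : FusionSystem S) (F' : FusionSystem S') (a : Ω → Ω') (b : Ω' → Ω) : Prop where
  mem : ∀ x ∈ S, a x ∈ S'
  inv : ∀ x ∈ S, b (a x) = x
  mul : MulOn S a
  mor : ∀ (P : Subgroup Ω) (f : Ω → Ω), Mor F P f → Mor F' (imgX P a) (fun y => a (f (b y)))

/-- An isomorphism of fusion systems, at the level of functions. -/
structure FIso (F : FusionSystem S) (F' : FusionSystem S') (a : Ω → Ω') (b : Ω' → Ω) : Prop where
  fwd : HIso F F' a b
  bwd : HIso F' F b a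

variable {F : FusionSystem S} {F' : FusionSystem S'} {a : Ω → Ω'} {b : Ω' → Ω}

theorem FIso.symm (h : FIso F F' a b) : FIso F' F b a := ⟨h.bwd, h.fwd⟩

theorem FIso.imgX_top (h : FIso F F' a b) : imgX S a = S' := by
  ext y
  rw [mem_imgX h.fwd.mul le_rfl]
  constructor
  · rintro ⟨x, hx, rfl⟩
    exact h.fwd.mem x hx
  · intro hy
    exact ⟨b y, h.bwd.mem y hy, h.bwd.inv y hy⟩

theorem FIso.imgX_le (h : FIso F F' a b) {P : Subgroup Ω} (hP : P ≤ S) : imgX P a ≤ S' := by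
  rw [← h.imgX_top]
  exact imgX_mono a hP

theorem FIso.imgX_imgX (h : FIso F F' a b) {P : Subgroup Ω} (hP : P ≤ S) :
    imgX (imgX P a) b = P := by
  ext x
  rw [mem_imgX h.bwd.mul (h.imgX_le hP)]
  constructor
  · rintro ⟨y, hy, rfl⟩
    obtain ⟨x, hx, rfl⟩ := (mem_imgX h.fwd.mul hP).mp hy
    rw [h.fwd.inv x (hP hx)]
    exact hx
  · intro hx
    exact ⟨a x, (mem_imgX h.fwd.mul hP).mpr ⟨x, hx, rfl⟩, h.fwd.inv x (hP hx)⟩

theorem FIso.mem_imgX_iff (h : FIso F F' a b) {P : Subgroup Ω} (hP : P ≤ S) {x : Ω} (hx : x ∈ S) :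
    a x ∈ imgX P a ↔ x ∈ P := by
  constructor
  · intro hax
    obtain ⟨x₀, hx₀, h0⟩ := (mem_imgX h.fwd.mul hP).mp hax
    have := congrArg b h0
    rw [h.fwd.inv x₀ (hP hx₀), h.fwd.inv x hx] at this
    rw [← this]
    exact hx₀
  · intro hxP
    exact apply_mem_imgX a hxP

theorem FIso.mor_of (h : FIso F F' a b) {P' : Subgroup Ω'} (hP' : P' ≤ S') {g : Ω' → Ω'}
    (hg : ∀ y ∈ P', g y ∈ S') (hm : Mor F (imgX P' b) (fun x => b (g (a x)))) : Mor F' P' g := by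
  have h1 := h.fwd.mor _ _ hm
  rw [h.symm.imgX_imgX hP'] at h1
  refine h1.congr (fun y hy => ?_)
  show a (b (g (a (b y)))) = g y
  rw [h.bwd.inv y (hP' hy), h.bwd.inv _ (hg y hy)]

theorem HIso.congr (h : HIso F F' a b) {a₁ : Ω → Ω'} {b₁ : Ω' → Ω}
    (ha : ∀ x ∈ S, a₁ x = a x) (hb : ∀ y ∈ S', b₁ y = b y) : HIso F F' a₁ b₁ := by
  refine ⟨fun x hx => ?_, fun x hx => ?_, ?_, ?_⟩
  · rw [ha x hx]
    exact h.mem x hx
  · rw [ha x hx, hb _ (h.mem x hx)]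
    exact h.inv x hx
  · intro x hx y hy
    rw [ha _ (S.mul_mem hx hy), ha x hx, ha y hy]
    exact h.mul x hx y hy
  · intro P f hf
    have hP : P ≤ S := hf.le
    have h1 := h.mor P f hf
    have h2 : imgX P a = imgX P a₁ := imgX_congr (fun x hx => (ha x (hP hx)).symm)
    rw [h2] at h1
    refine h1.congr (fun y hy => ?_)
    rw [← h2] at hy
    obtain ⟨x, hx, rfl⟩ := (mem_imgX h.mul hP).mp hy
    show a (f (b (a x))) = a₁ (f (b₁ (a x)))
    rw [hb _ (h.mem x (hP hx)), h.inv x (hP hx), ha _ (hf.mem_S hx)]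

theorem FIso.congr (h : FIso F F' a b) {a₁ : Ω → Ω'} {b₁ : Ω' → Ω}
    (ha : ∀ x ∈ S, a₁ x = a x) (hb : ∀ y ∈ S', b₁ y = b y) : FIso F F' a₁ b₁ :=
  ⟨h.fwd.congr ha hb, h.bwd.congr hb ha⟩

theorem HIso.trans {Ω'' : Type*} [Group Ω''] {S'' : Subgroup Ω''} {F'' : FusionSystem S''}
    {a₂ : Ω' → Ω''} {b₂ : Ω'' → Ω'} (h : HIso F F' a b) (h₂ : HIso F' F'' a₂ b₂) :
    HIso F F'' (fun x => a₂ (a x)) (fun z => b (b₂ z)) := by
  have hmul : MulOn S (fun x => a₂ (a x)) := by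
    intro x hx y hy
    show a₂ (a (x * y)) = a₂ (a x) * a₂ (a y)
    rw [h.mul x hx y hy, h₂.mul _ (h.mem x hx) _ (h.mem y hy)]
  refine ⟨fun x hx => h₂.mem _ (h.mem x hx), fun x hx => ?_, hmul, ?_⟩
  · show b (b₂ (a₂ (a x))) = x
    rw [h₂.inv _ (h.mem x hx), h.inv x hx]
  · intro P f hf
    have hP : P ≤ S := hf.le
    have h1 := h₂.mor _ _ (h.mor P f hf)
    have hP' : imgX P a ≤ S' := by
      intro y hy
      obtain ⟨x, hx, rfl⟩ := (mem_imgX h.mul hP).mp hy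
      exact h.mem x (hP hx)
    have h2 : imgX (imgX P a) a₂ = imgX P (fun x => a₂ (a x)) := by
      ext z
      rw [mem_imgX h₂.mul hP', mem_imgX hmul hP]
      constructor
      · rintro ⟨y, hy, rfl⟩
        obtain ⟨x, hx, rfl⟩ := (mem_imgX h.mul hP).mp hy
        exact ⟨x, hx, rfl⟩
      · rintro ⟨x, hx, rfl⟩
        exact ⟨a x, (mem_imgX h.mul hP).mpr ⟨x, hx, rfl⟩, rfl⟩
    rw [h2] at h1
    exact h1

theorem FIso.trans {Ω'' : Type*} [Group Ω''] {S'' : Subgroup Ω''} {F'' : FusionSystem S''}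
    {a₂ : Ω' → Ω''} {b₂ : Ω'' → Ω'} (h : FIso F F' a b) (h₂ : FIso F' F'' a₂ b₂) :
    FIso F F'' (fun x => a₂ (a x)) (fun z => b (b₂ z)) :=
  ⟨h.fwd.trans h₂.fwd, h₂.bwd.trans h.bwd⟩

theorem stronglyClosed_bot (F : FusionSystem S) : F.StronglyClosed ⊥ := by
  refine ⟨bot_le, fun R hR φ _ x => ?_⟩
  have hx : x = 1 := Subtype.ext (Subgroup.mem_bot.mp (hR x.2))
  rw [hx, map_one]
  exact Subgroup.one_mem _

/-- An isomorphism given as a factor system modulo the trivial subgroup is an isomorphism at the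
level of functions. -/
theorem fiso_of_factor [Finite S] (p : ℕ) [Fact p.Prime] (hS : IsPGroup p S)
    {F : FusionSystem S} (hF : F.IsSaturated p) {F' : FusionSystem S'} {θ : S →* Ω'}
    (hfac : F.IsFactorSystem ⊥ θ F') {a : Ω → Ω'} {b : Ω' → Ω}
    (ha : ∀ s : S, a s = θ s) (hb : ∀ s : S, b (θ s) = s) : FIso F F' a b := by
  have hmor := (Cfsg.Agent.S5134.result p hS F hF ⊥ (stronglyClosed_bot F) θ F' hfac).1
  obtain ⟨-, hker, hrange, hhom⟩ := hfac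
  have hmul : MulOn S a := by
    intro x hx y hy
    have h1 := ha (⟨x, hx⟩ * ⟨y, hy⟩)
    have h2 := ha ⟨x, hx⟩
    have h3 := ha ⟨y, hy⟩
    rw [map_mul] at h1
    rw [← h2, ← h3] at h1
    exact h1
  have hmulb : MulOn S' b := by
    intro x hx y hy
    rw [← hrange] at hx hy
    obtain ⟨s, rfl⟩ := hx
    obtain ⟨t, rfl⟩ := hy
    rw [← map_mul, hb, hb, hb]
    rfl
  refine ⟨⟨fun x hx => ?_, fun x hx => ?_, hmul, ?_⟩, ⟨fun y hy => ?_, fun y hy => ?_, hmulb, ?_⟩⟩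
  · rw [ha ⟨x, hx⟩]
    exact hmor.1 _
  · rw [ha ⟨x, hx⟩]
    exact hb ⟨x, hx⟩
  · intro P f hf
    have hP : P ≤ S := hf.le
    obtain ⟨φ, hφ, hφf⟩ := hf
    obtain ⟨φ', hφ', hP0, hφS, hP', hind⟩ := hmor.2 P φ hφ
    have himg : imageAlong θ P = imgX P a := by
      ext y
      rw [mem_imgX hmul hP]
      constructor
      · rintro ⟨s, hs, rfl⟩
        exact ⟨s, Subgroup.mem_subgroupOf.mp hs, ha s⟩
      · rintro ⟨x, hx, rfl⟩
        exact ⟨⟨x, hP hx⟩, Subgroup.mem_subgroupOf.mpr hx, (ha _).symm⟩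
    have h1 : Mor F' (imgX P a) (extFun φ') := mor_of_hom_eq F' himg hφ'
    refine h1.congr (fun y hy => ?_)
    obtain ⟨x, hx, rfl⟩ := (mem_imgX hmul hP).mp hy
    have e1 : a x = θ ⟨x, hP0 hx⟩ := ha ⟨x, hP0 hx⟩
    have e2 : b (a x) = x := by rw [e1]; exact hb _
    show extFun φ' (a x) = a (f (b (a x)))
    rw [e2]
    have e3 : extFun φ' (a x) = φ' ⟨θ ⟨x, hP0 hx⟩, hP' ⟨x, hx⟩⟩ :=
      (congrArg (extFun φ') e1).trans (extFun_apply φ' ⟨θ ⟨x, hP0 hx⟩, hP' ⟨x, hx⟩⟩)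
    rw [e3, hind ⟨x, hx⟩, ← hφf ⟨x, hx⟩]
    exact (ha ⟨φ ⟨x, hx⟩, hφS ⟨x, hx⟩⟩).symm
  · rw [← hrange] at hy
    obtain ⟨s, rfl⟩ := hy
    rw [hb]
    exact s.2
  · rw [← hrange] at hy
    obtain ⟨s, rfl⟩ := hy
    rw [hb, ha]
  · intro P' g hg
    have hP'S : P' ≤ S' := hg.le
    obtain ⟨φ', hφ', hφg⟩ := hg
    obtain ⟨-, φ, hφ, hP0, hφS, hP', hind⟩ := (hhom P' φ').mp hφ'
    have himg : preimageAlong θ P' = imgX P' b := by
      ext x
      rw [mem_imgX hmulb hP'S, Helper85.mem_preimageAlong]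
      constructor
      · rintro ⟨hx, hxP⟩
        exact ⟨θ ⟨x, hx⟩, hxP, hb ⟨x, hx⟩⟩
      · rintro ⟨y, hy, rfl⟩
        have hy' := hP'S hy
        rw [← hrange] at hy'
        obtain ⟨s, rfl⟩ := hy'
        rw [hb]
        exact ⟨s.2, hy⟩
    have h1 : Mor F (imgX P' b) (extFun φ) := mor_of_hom_eq F himg hφ
    refine h1.congr (fun x hx => ?_)
    rw [← himg] at hx
    show extFun φ x = b (g (a x))
    rw [extFun_mem φ hx]
    have e1 : a x = θ ⟨x, hP0 hx⟩ := ha ⟨x, hP0 hx⟩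
    have e2 := hind ⟨x, hx⟩
    have e3 : g (a x) = θ ⟨φ ⟨x, hx⟩, hφS ⟨x, hx⟩⟩ := by
      rw [← e2, hφg, e1]
    rw [e3, hb]

/-- Existence of the transport of a saturated fusion system along a function that is
multiplicative and injective on `S`. -/
theorem exists_fiso [Finite S] (p : ℕ) [Fact p.Prime] (hS : IsPGroup p S)
    (F : FusionSystem S) (hF : F.IsSaturated p) (a : Ω → Ω') (b : Ω' → Ω) (hmul : MulOn S a)
    (hinv : ∀ x ∈ S, b (a x) = x) :
    ∃ (S' : Subgroup Ω') (F' : FusionSystem S'), F'.IsSaturated p ∧ FIso F F' a b ∧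
      (F.hyperfocalSubgroup p = S → F'.hyperfocalSubgroup p = S') := by
  have hbot := stronglyClosed_bot F
  have hker : ∀ s : S, homOn S a hmul s = 1 ↔ (s : Ω) ∈ (⊥ : Subgroup Ω) := by
    intro s
    rw [Subgroup.mem_bot, homOn_apply]
    constructor
    · intro h
      have h1 := hinv s s.2
      rw [h] at h1
      have h2 := hinv 1 S.one_mem
      rw [hmul.map_one] at h2
      rw [← h1, h2]
    · intro h
      rw [h]
      exact hmul.map_one
  obtain ⟨F', hfac⟩ := Helper85.exists_factorSystem F ⊥ hbot (homOn S a hmul) hker rfl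
  refine ⟨_, F', ?_, ?_, ?_⟩
  · exact Cfsg.Agent.S5133.result p hS F hF F' _
      (Cfsg.Agent.S5134.result p hS F hF ⊥ hbot _ F' hfac)
  · exact fiso_of_factor p hS hF hfac (fun s => rfl) (fun s => hinv s s.2)
  · intro hhyp
    rw [Cfsg.Agent.S5256.result p hS F hF ⊥ hbot _ F' hfac, hhyp, Subgroup.subgroupOf_self,
      ← MonoidHom.range_eq_map]

end

end Cfsg.Agent.Lib.Helper88
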