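import Mathlib
import Cfsg.Agent.Lib.Helper88.IsoA
import Cfsg.Agent.Lib.Helper88.FusWN
import Cfsg.Agent.Lib.Helper85.FusionNormal

set_option autoImplicit false

namespace Cfsg.Agent.Lib.Helper88

open Cfsg Cfsg.FusionSystem

section

variable {Ω : Type*} [Group Ω] {S : Subgroup Ω}

/-- Invariance of a subsystem, at the level of functions. -/
structure InvData {T : Subgroup Ω} (E : FusionSystem T) (F : FusionSystem S) : Prop where
  sub : E.IsSubsystemOf F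
  sc : F.StronglyClosed T
  conj : ∀ (P : Subgroup Ω), P ≤ T → ∀ f : Ω → Ω, Mor E P f → ∀ a a' : Ω → Ω, Mor F T a →
    (∀ x ∈ T, a' (a x) = x) → Mor E (img P a) (fun y => a (f (a' y)))
  frat : ∀ (P : Subgroup Ω), P ≤ T → ∀ f : Ω → Ω, Mor F P f →
    ∃ a f₀ : Ω → Ω, Mor F T a ∧ Mor E P f₀ ∧ ∀ x ∈ P, f x = a (f₀ x)

theorem invData_of_invariant [Finite S] {T : Subgroup Ω} {E : FusionSystem T}
    {F : FusionSystem S} (h : E.IsInvariantIn F) : InvData E F :=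
  ⟨h.1, h.2.1, fun _ hP _ hf _ _ ha ha' => invariant_conj h hP hf ha ha',
    fun _ hP _ hf => invariant_frattini h hP hf⟩

theorem invariant_of_invData [Finite S] {T : Subgroup Ω} {E : FusionSystem T}
    {F : FusionSystem S} (h : InvData E F) : E.IsInvariantIn F := by
  have hTS : T ≤ S := h.sc.1
  refine ⟨h.sub, h.sc, ?_, ?_⟩
  · intro P hPT φ hφ α hα
    have ha : Mor F T (extFun (fun x : T => ((α x : T) : Ω))) :=
      (mem_autGroup_iff F hTS α).mp hα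
    have haa' : ∀ x ∈ T, extFun (fun x : T => ((α⁻¹ x : T) : Ω))
        (extFun (fun x : T => ((α x : T) : Ω)) x) = x := by
      intro x hx
      rw [extFun_mem _ hx, extFun_apply]
      simp
    have key := h.conj P hPT (extFun φ) (mor_of_hom E hφ) _ _ ha haa'
    have hP' : (P.subgroupOf T).map (T.subtype.comp α.toMonoidHom) =
        img P (extFun (fun x : T => ((α x : T) : Ω))) := by
      ext y
      rw [(ha.res hPT).mem_img, Subgroup.mem_map]
      constructor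
      · rintro ⟨x, hx, rfl⟩
        exact ⟨x, Subgroup.mem_subgroupOf.mp hx, extFun_apply _ x⟩
      · rintro ⟨x, hx, rfl⟩
        exact ⟨⟨x, hPT hx⟩, Subgroup.mem_subgroupOf.mpr hx, (extFun_mem _ (hPT hx)).symm⟩
    rw [← hP'] at key
    obtain ⟨χ, hχ, hχg⟩ := key
    refine ⟨χ, hχ, ?_⟩
    intro x hφx hαx
    rw [hχg]
    show extFun (fun x : T => ((α x : T) : Ω)) (extFun φ
      (extFun (fun x : T => ((α⁻¹ x : T) : Ω)) ((α ⟨x, hPT x.2⟩ : T) : Ω))) = _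
    rw [extFun_apply]
    have e1 : ((α⁻¹ (α ⟨x, hPT x.2⟩) : T) : Ω) = x := by simp
    rw [e1, extFun_apply, extFun_mem _ hφx]
  · intro P hPT φ hφ
    obtain ⟨a, f₀, ha, hf₀, hfa⟩ := h.frat P hPT (extFun φ) (mor_of_hom F hφ)
    have haT : ∀ x ∈ T, a x ∈ T := stronglyClosed_mor h.sc le_rfl ha
    obtain ⟨α, hα, hαa⟩ := ha.exists_aut haT
    obtain ⟨φ₀, hφ₀, hφ₀f⟩ := hf₀
    refine ⟨α, hα, φ₀, hφ₀, fun x hx => ?_⟩
    have := hfa x x.2
    rw [extFun_apply] at this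
    rw [this, hαa ⟨φ₀ x, hx⟩]
    show a (f₀ x) = a (φ₀ x)
    rw [hφ₀f]

/-- The extension condition of a normal subsystem, at the level of functions. -/
def ExtCond {T : Subgroup Ω} (E : FusionSystem T) (F : FusionSystem S) : Prop :=
  ∀ f : Ω → Ω, Mor E T f → (∀ x ∈ T, f x ∈ T) →
    ∃ g : Ω → Ω, Mor F (T ⊔ centralizerIn S T) g ∧
      (∀ x ∈ T ⊔ centralizerIn S T, g x ∈ T ⊔ centralizerIn S T) ∧
      (∀ x ∈ T, g x = f x) ∧
      ∀ c ∈ centralizerIn S T, c⁻¹ * g c ∈ T ⊓ Subgroup.centralizer (T : Set Ω)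

theorem extCond_of_normal [Finite S] {T : Subgroup Ω} {E : FusionSystem T} {F : FusionSystem S}
    {p : ℕ} (h : E.IsNormalIn F p) : ExtCond E F := by
  have hTS : T ≤ S := h.1.2.2.2.1.1
  have : Finite T := Finite.of_injective _ (Subgroup.inclusion_injective hTS)
  intro f hf hfT
  obtain ⟨α, hα, hαf⟩ := hf.exists_aut hfT
  obtain ⟨β, hβ, hβα, hβc⟩ := h.2 α hα
  have hsup : T ⊔ centralizerIn S T ≤ S := sup_le hTS inf_le_left
  refine ⟨extFun (fun x : ↥(T ⊔ centralizerIn S T) => ((β x : ↥(T ⊔ centralizerIn S T)) : Ω)),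
    (mem_autGroup_iff F hsup β).mp hβ, ?_, ?_, ?_⟩
  · intro x hx
    rw [extFun_mem _ hx]
    exact (β ⟨x, hx⟩).2
  · intro x hx
    rw [extFun_mem _ (Subgroup.mem_sup_left hx), ← hαf ⟨x, hx⟩]
    exact hβα ⟨x, hx⟩
  · intro c hc
    have hc' : c ∈ T ⊔ centralizerIn S T := Subgroup.mem_sup_right hc
    rw [extFun_mem _ hc']
    exact hβc ⟨c, hc'⟩ hc

theorem normal_of_extCond [Finite S] {T : Subgroup Ω} {E : FusionSystem T} {F : FusionSystem S}
    {p : ℕ} (hw : E.IsWeaklyNormalIn F p) (h : ExtCond E F) : E.IsNormalIn F p := by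
  refine ⟨hw, fun α hα => ?_⟩
  have hf : Mor E T (extFun (fun x : T => ((α x : T) : Ω))) :=
    (mem_autGroup_iff E le_rfl α).mp hα
  have hfT : ∀ x ∈ T, extFun (fun x : T => ((α x : T) : Ω)) x ∈ T := by
    intro x hx
    rw [extFun_mem _ hx]
    exact (α ⟨x, hx⟩).2
  obtain ⟨g, hg, hgs, hgf, hgc⟩ := h _ hf hfT
  obtain ⟨β, hβ, hβg⟩ := hg.exists_aut hgs
  refine ⟨β, hβ, ?_, ?_⟩
  · intro x
    rw [hβg]
    show g (x : Ω) = _
    rw [hgf x x.2, extFun_apply]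
  · intro c hc
    rw [hβg]
    exact hgc c hc

theorem isCentral_iff_mor (F : FusionSystem S) (Q : Subgroup Ω) :
    F.IsCentral Q ↔ Q ≤ S ∧ ∀ (P : Subgroup Ω) (f : Ω → Ω), Mor F P f →
      ∃ g : Ω → Ω, Mor F (P ⊔ Q) g ∧ (∀ x ∈ P, g x = f x) ∧ ∀ x ∈ Q, g x = x := by
  constructor
  · rintro ⟨hQ, h⟩
    refine ⟨hQ, fun P f hf => ?_⟩
    obtain ⟨φ, hφ, hφf⟩ := hf
    obtain ⟨ψ, hψ, h1, h2⟩ := h P φ hφ
    refine ⟨extFun ψ, mor_of_hom F hψ, fun x hx => ?_, fun x hx => ?_⟩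
    · rw [← hφf ⟨x, hx⟩, ← h1 ⟨x, hx⟩]
      exact extFun_apply ψ (Subgroup.inclusion le_sup_left ⟨x, hx⟩)
    · exact (extFun_apply ψ (Subgroup.inclusion le_sup_right ⟨x, hx⟩)).trans (h2 ⟨x, hx⟩)
  · rintro ⟨hQ, h⟩
    refine ⟨hQ, fun P φ hφ => ?_⟩
    obtain ⟨g, ⟨ψ, hψ, hψg⟩, h1, h2⟩ := h P (extFun φ) (mor_of_hom F hφ)
    refine ⟨ψ, hψ, fun x => ?_, fun x => ?_⟩
    · rw [hψg]
      show g (x : Ω) = _
      rw [h1 x x.2, extFun_apply]
    · rw [hψg]
      exact h2 x x.2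

theorem isCentral_stronglyClosed {F : FusionSystem S} {Q : Subgroup Ω} (h : F.IsCentral Q) :
    F.StronglyClosed Q := by
  rw [isCentral_iff_mor] at h
  refine ⟨h.1, fun R hR φ hφ x => ?_⟩
  obtain ⟨g, -, hgf, hgQ⟩ := h.2 R (extFun φ) (mor_of_hom F hφ)
  have := hgf x x.2
  rw [extFun_apply, hgQ x (hR x.2)] at this
  rw [← this]
  exact hR x.2

end

section

variable {Ω : Type*} [Group Ω] {S : Subgroup Ω} {Ω' : Type*} [Group Ω'] {S' : Subgroup Ω'}
  {F : FusionSystem S} {F' : FusionSystem S'} {a : Ω → Ω'} {b : Ω' → Ω}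
  {T : Subgroup Ω} {T' : Subgroup Ω'} {E : FusionSystem T} {E' : FusionSystem T'}

theorem subsystem_transport (hF : FIso F F' a b) (hE : FIso E E' a b) (hTS : T ≤ S)
    (h : E.IsSubsystemOf F) : E'.IsSubsystemOf F' := by
  intro P' φ' hφ'
  have hT' : T' ≤ S' := by
    rw [← hE.imgX_top]
    exact hF.imgX_le hTS
  have hm : Mor E' P' (extFun φ') := mor_of_hom E' hφ'
  have hP' : P' ≤ T' := hm.le
  have h1 := hE.bwd.mor _ _ hm
  have h2 : Mor F (imgX P' b) (fun x => b (extFun φ' (a x))) := subsystem_mor h h1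
  have h3 : Mor F' P' (extFun φ') :=
    hF.mor_of (hP'.trans hT') (fun y hy => hT' (hm.mem_S hy)) h2
  exact hom_of_mor h3 (fun x => (extFun_apply φ' x).symm)

theorem stronglyClosed_transport (hF : FIso F F' a b) (h : F.StronglyClosed T) :
    F'.StronglyClosed (imgX T a) := by
  have hTS := h.1
  refine ⟨hF.imgX_le hTS, fun R' hR' φ' hφ' x' => ?_⟩
  have hm : Mor F' R' (extFun φ') := mor_of_hom F' hφ'
  have h1 := hF.bwd.mor _ _ hm
  have hR'S : R' ≤ S' := hm.le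
  have hle : imgX R' b ≤ T := by
    have := imgX_mono b hR'
    rwa [hF.imgX_imgX hTS] at this
  have hx'S : (x' : Ω') ∈ S' := hR'S x'.2
  have h2 : b (extFun φ' (a (b (x' : Ω')))) ∈ T :=
    stronglyClosed_mor h hle h1 (b x') (apply_mem_imgX b x'.2)
  rw [hF.bwd.inv _ hx'S, extFun_apply] at h2
  have h3 : φ' x' ∈ S' := (F'.le_of_mem hφ').2 x'
  have h4 := apply_mem_imgX a h2
  rwa [hF.bwd.inv _ h3] at h4

theorem invData_transport [Finite S] [Finite S'] (hF : FIso F F' a b) (hE : FIso E E' a b)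
    (h : InvData E F) : InvData E' F' := by
  have hTS : T ≤ S := h.sc.1
  have hT'eq : imgX T a = T' := hE.imgX_top
  have hsc' : F'.StronglyClosed T' := by
    rw [← hT'eq]
    exact stronglyClosed_transport hF h.sc
  have hT'S : T' ≤ S' := hsc'.1
  have hTeq : imgX T' b = T := hE.symm.imgX_top
  refine ⟨subsystem_transport hF hE hTS h.sub, hsc', ?_, ?_⟩
  · intro P' hP' f' hf' c c' hc hc'
    have hf := hE.bwd.mor _ _ hf'
    have hc0 := hF.bwd.mor _ _ hc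
    rw [hTeq] at hc0
    have hcT' : ∀ y ∈ T', c y ∈ T' := stronglyClosed_mor hsc' le_rfl hc
    have hc0' : ∀ x ∈ T, (fun x => b (c' (a x))) ((fun x => b (c (a x))) x) = x := by
      intro x hx
      show b (c' (a (b (c (a x))))) = x
      have h1 : a x ∈ T' := hE.fwd.mem x hx
      rw [hE.bwd.inv _ (hcT' _ h1), hc' _ h1, hE.fwd.inv x hx]
    have hPb : imgX P' b ≤ T := by
      rw [← hTeq]
      exact imgX_mono b hP'
    have key := h.conj _ hPb _ hf _ (fun x => b (c' (a x))) hc0 hc0'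
    have key' := hE.fwd.mor _ _ key
    have hsub : imgX (img (imgX P' b) (fun x => b (c (a x)))) a = img P' c := by
      ext y
      rw [mem_imgX hE.fwd.mul key.le, (hc.res hP').mem_img]
      constructor
      · rintro ⟨x, hx, rfl⟩
        obtain ⟨x₁, hx₁, rfl⟩ := (hc0.res hPb).mem_img.mp hx
        obtain ⟨y₀, hy₀, rfl⟩ := (mem_imgX hE.bwd.mul hP').mp hx₁
        refine ⟨y₀, hy₀, ?_⟩
        show c y₀ = a (b (c (a (b y₀))))
        rw [hE.bwd.inv _ (hP' hy₀), hE.bwd.inv _ (hcT' _ (hP' hy₀))]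
      · rintro ⟨y₀, hy₀, rfl⟩
        refine ⟨b (c y₀), (hc0.res hPb).mem_img.mpr ⟨b y₀, apply_mem_imgX b hy₀, ?_⟩, ?_⟩
        · show b (c (a (b y₀))) = b (c y₀)
          rw [hE.bwd.inv _ (hP' hy₀)]
        · exact hE.bwd.inv _ (hcT' _ (hP' hy₀))
    rw [hsub] at key'
    refine key'.congr (fun y hy => ?_)
    obtain ⟨y₀, hy₀, rfl⟩ := (hc.res hP').mem_img.mp hy
    have e1 : c' (c y₀) = y₀ := hc' y₀ (hP' hy₀)
    show a (b (c (a (b (f' (a (b (c' (a (b (c y₀))))))))))) = c (f' (c' (c y₀)))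
    rw [hE.bwd.inv _ (hcT' _ (hP' hy₀)), e1, hE.bwd.inv _ (hP' hy₀), hE.bwd.inv _ (hf'.mem_S hy₀),
      hE.bwd.inv _ (hcT' _ (hf'.mem_S hy₀))]
  · intro P' hP' f' hf'
    have hf := hF.bwd.mor _ _ hf'
    have hPb : imgX P' b ≤ T := by
      rw [← hTeq]
      exact imgX_mono b hP'
    obtain ⟨c₀, f₀, hc₀, hf₀, hcf⟩ := h.frat _ hPb _ hf
    have hc := hF.fwd.mor _ _ hc₀
    rw [hT'eq] at hc
    have hf₀' := hE.fwd.mor _ _ hf₀
    rw [hE.symm.imgX_imgX hP'] at hf₀'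
    refine ⟨_, _, hc, hf₀', fun y hy => ?_⟩
    show f' y = a (c₀ (b (a (f₀ (b y)))))
    have h1 : f₀ (b y) ∈ T := hf₀.mem_S (apply_mem_imgX b hy)
    rw [hE.fwd.inv _ h1, ← hcf (b y) (apply_mem_imgX b hy)]
    show f' y = a (b (f' (a (b y))))
    rw [hF.bwd.inv _ (hT'S (hP' hy)), hF.bwd.inv _ (hf'.mem_S hy)]

theorem cIn_le (S T : Subgroup Ω) : centralizerIn S T ≤ S := inf_le_left

theorem centralizerIn_transport (hF : FIso F F' a b) (hTS : T ≤ S) :
    imgX (centralizerIn S T) a = centralizerIn S' (imgX T a) := by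
  ext y
  rw [mem_imgX hF.fwd.mul (cIn_le S T)]
  constructor
  · rintro ⟨x, hx, rfl⟩
    obtain ⟨hxS, hxC⟩ := Subgroup.mem_inf.mp hx
    refine Subgroup.mem_inf.mpr ⟨hF.fwd.mem x hxS, ?_⟩
    rw [Subgroup.mem_centralizer_iff]
    intro t' ht'
    obtain ⟨t, ht, rfl⟩ := (mem_imgX hF.fwd.mul hTS).mp ht'
    rw [← hF.fwd.mul t (hTS ht) x hxS, ← hF.fwd.mul x hxS t (hTS ht),
      Subgroup.mem_centralizer_iff.mp hxC t ht]
  · intro hy
    obtain ⟨hyS, hyC⟩ := Subgroup.mem_inf.mp hy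
    refine ⟨b y, Subgroup.mem_inf.mpr ⟨hF.bwd.mem y hyS, ?_⟩, hF.bwd.inv y hyS⟩
    rw [Subgroup.mem_centralizer_iff]
    intro t ht
    have h1 : a t ∈ imgX T a := apply_mem_imgX a ht
    have h2 := Subgroup.mem_centralizer_iff.mp hyC (a t) h1
    have h3 := congrArg b h2
    rw [hF.bwd.mul _ (hF.fwd.mem t (hTS ht)) _ hyS, hF.bwd.mul _ hyS _ (hF.fwd.mem t (hTS ht)),
      hF.fwd.inv t (hTS ht)] at h3
    exact h3

theorem extCond_transport (hF : FIso F F' a b) (hE : FIso E E' a b) (hTS : T ≤ S)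
    (h : ExtCond E F) : ExtCond E' F' := by
  have hT'eq : imgX T a = T' := hE.imgX_top
  have hTeq : imgX T' b = T := hE.symm.imgX_top
  have hC : imgX (centralizerIn S T) a = centralizerIn S' T' := by
    rw [centralizerIn_transport hF hTS, hT'eq]
  have hsupS : T ⊔ centralizerIn S T ≤ S := sup_le hTS (cIn_le S T)
  have hsup : imgX (T ⊔ centralizerIn S T) a = T' ⊔ centralizerIn S' T' := by
    rw [imgX_sup hF.fwd.mul hTS (cIn_le S T), hT'eq, hC]
  intro f' hf' hf'T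
  have hf := hE.bwd.mor _ _ hf'
  rw [hTeq] at hf
  have hfT : ∀ x ∈ T, (fun x => b (f' (a x))) x ∈ T :=
    fun x hx => hE.bwd.mem _ (hf'T _ (hE.fwd.mem x hx))
  obtain ⟨g, hg, hgs, hgf, hgc⟩ := h _ hf hfT
  have hg' := hF.fwd.mor _ _ hg
  rw [hsup] at hg'
  refine ⟨_, hg', ?_, ?_, ?_⟩
  · intro y hy
    rw [← hsup] at hy ⊢
    obtain ⟨x, hx, rfl⟩ := (mem_imgX hF.fwd.mul hsupS).mp hy
    show a (g (b (a x))) ∈ _
    rw [hF.fwd.inv x (hsupS hx)]
    exact apply_mem_imgX a (hgs x hx)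
  · intro y hy
    show a (g (b y)) = f' y
    have hby : b y ∈ T := hE.bwd.mem y hy
    rw [hgf _ hby]
    show a (b (f' (a (b y)))) = f' y
    rw [hE.bwd.inv y hy, hE.bwd.inv _ (hf'T y hy)]
  · intro c hc
    show c⁻¹ * a (g (b c)) ∈ T' ⊓ Subgroup.centralizer (T' : Set Ω')
    rw [← hC] at hc
    obtain ⟨x, hx, rfl⟩ := (mem_imgX hF.fwd.mul (cIn_le S T)).mp hc
    have hxS : x ∈ S := (Subgroup.mem_inf.mp hx).1
    rw [hF.fwd.inv x hxS]
    have h1 := hgc x hx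
    have hgxS : g x ∈ S := hg.mem_S (Subgroup.mem_sup_right hx)
    have h2 : (a x)⁻¹ * a (g x) = a (x⁻¹ * g x) := by
      rw [hF.fwd.mul _ (S.inv_mem hxS) _ hgxS, hF.fwd.mul.map_inv hxS]
    rw [h2]
    obtain ⟨hzT, hzC⟩ := Subgroup.mem_inf.mp h1
    refine Subgroup.mem_inf.mpr ⟨hE.fwd.mem _ hzT, ?_⟩
    rw [Subgroup.mem_centralizer_iff]
    intro t' ht'
    have ht'' : t' ∈ imgX T a := by
      rw [hT'eq]
      exact ht'
    obtain ⟨t, ht, rfl⟩ := (mem_imgX hE.fwd.mul le_rfl).mp ht''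
    rw [← hE.fwd.mul t ht _ hzT, ← hE.fwd.mul _ hzT t ht,
      Subgroup.mem_centralizer_iff.mp hzC t ht]

theorem normal_transport [Finite S] [Finite S'] {p : ℕ} (hF : FIso F F' a b)
    (hE : FIso E E' a b) (hE' : E'.IsSaturated p) (hF' : F'.IsSaturated p)
    (h : E.IsNormalIn F p) : E'.IsNormalIn F' p := by
  have hinv : InvData E F := invData_of_invariant h.1.2.2
  have hTS : T ≤ S := hinv.sc.1
  have h1 : InvData E' F' := invData_transport hF hE hinv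
  exact normal_of_extCond ⟨hE', hF', invariant_of_invData h1⟩
    (extCond_transport hF hE hTS (extCond_of_normal h))

theorem isCentral_transport (hF : FIso F F' a b) {Q : Subgroup Ω} (h : F.IsCentral Q) :
    F'.IsCentral (imgX Q a) := by
  rw [isCentral_iff_mor] at h ⊢
  obtain ⟨hQ, hext⟩ := h
  refine ⟨hF.imgX_le hQ, fun P' f' hf' => ?_⟩
  have hP' : P' ≤ S' := hf'.le
  have hf := hF.bwd.mor _ _ hf'
  have hPb : imgX P' b ≤ S := hf.le
  obtain ⟨g, hg, hgf, hgQ⟩ := hext _ _ hf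
  have hg' := hF.fwd.mor _ _ hg
  rw [imgX_sup hF.fwd.mul hPb hQ, hF.symm.imgX_imgX hP'] at hg'
  refine ⟨_, hg', ?_, ?_⟩
  · intro y hy
    show a (g (b y)) = f' y
    rw [hgf _ (apply_mem_imgX b hy)]
    show a (b (f' (a (b y)))) = f' y
    rw [hF.bwd.inv y (hP' hy), hF.bwd.inv _ (hf'.mem_S hy)]
  · intro y hy
    obtain ⟨x, hx, rfl⟩ := (mem_imgX hF.fwd.mul hQ).mp hy
    show a (g (b (a x))) = a x
    rw [hF.fwd.inv x (hQ hx), hgQ x hx]

theorem center_transport [Finite S] [Finite S'] (hF : FIso F F' a b) :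
    imgX F.center a = F'.center := by
  have hZ := Helper85.isCentral_center F
  have hZ' := Helper85.isCentral_center F'
  apply le_antisymm
  · exact le_sSup (isCentral_transport hF hZ)
  · have h1 : imgX F'.center b ≤ F.center := le_sSup (isCentral_transport hF.symm hZ')
    have h2 := imgX_mono a h1
    rwa [hF.symm.imgX_imgX hZ'.1] at h2

end

end Cfsg.Agent.Lib.Helper88
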