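import Mathlib
import Cfsg.Agent.Lib.Helper88.SmallAut

/-!
Group-theoretic input for the Benson–Grodal–Henke / Baccanelli–Franchi–Mainardis theorem:
a climbing lemma in nilpotent groups, maximal invariant abelian subgroups, and a
"critical" invariant subgroup of small elements on which automorphisms of order prime to `p`
act faithfully.
-/

set_option autoImplicit false

namespace Cfsg.Agent.Lib.Helper88.Bg

open Cfsg Cfsg.Agent.Lib.Helper88
open scoped commutatorElement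

/-- Climbing lemma: in a nilpotent subgroup `S`, if `T` normalizes `X` and `X` is not contained
in `B`, some element of `X` outside `B` has all its commutators with `T` in `B`. -/
theorem climb {Ω : Type*} [Group Ω] {S : Subgroup Ω} (hN : ∃ N : ℕ, S.lowerCentralSeries N = ⊥)
    {X T B : Subgroup Ω} (hXS : X ≤ S) (hTS : T ≤ S)
    (hTX : ∀ t ∈ T, ∀ x ∈ X, t * x * t⁻¹ ∈ X) (hXB : ¬ X ≤ B) :
    ∃ c ∈ X, c ∉ B ∧ ∀ t ∈ T, ⁅c, t⁆ ∈ B := by
  classical
  obtain ⟨N, hN⟩ := hN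
  have hex : ∃ j, X ⊓ S.lowerCentralSeries j ≤ B := ⟨N, by rw [hN]; simp⟩
  have hspec := Nat.find_spec hex
  have hj0 : Nat.find hex ≠ 0 := by
    intro h0
    rw [h0, Subgroup.lowerCentralSeries_zero, inf_eq_left.2 hXS] at hspec
    exact hXB hspec
  obtain ⟨i, hi⟩ := Nat.exists_eq_succ_of_ne_zero hj0
  have hmin : ¬ (X ⊓ S.lowerCentralSeries i ≤ B) :=
    Nat.find_min hex (by rw [hi]; exact Nat.lt_succ_self i)
  obtain ⟨c, hc, hcB⟩ := SetLike.not_le_iff_exists.1 hmin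
  refine ⟨c, hc.1, hcB, fun t ht => ?_⟩
  rw [hi] at hspec
  apply hspec
  refine ⟨?_, ?_⟩
  · have e : ⁅c, t⁆ = c * (t * c⁻¹ * t⁻¹) := by rw [commutatorElement_def]; group
    rw [e]
    exact X.mul_mem hc.1 (hTX t ht _ (X.inv_mem hc.1))
  · rw [Subgroup.lowerCentralSeries_succ]
    exact Subgroup.commutator_mem_commutator hc.2 (hTS ht)

/-- A maximal `T`-invariant abelian subgroup of a `T`-invariant subgroup `D` of a finite
nilpotent group is self-centralizing in `D`. -/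
theorem exists_max_abelian_inv {Ω : Type*} [Group Ω] {S : Subgroup Ω} [Finite S]
    (hN : ∃ N : ℕ, S.lowerCentralSeries N = ⊥)
    {D T : Subgroup Ω} (hDS : D ≤ S) (hTS : T ≤ S) (hTD : ∀ t ∈ T, ∀ x ∈ D, t * x * t⁻¹ ∈ D) :
    ∃ A : Subgroup Ω, A ≤ D ∧ (∀ a ∈ A, ∀ b ∈ A, a * b = b * a) ∧
      (∀ t ∈ T, ∀ a ∈ A, t * a * t⁻¹ ∈ A) ∧ ∀ x ∈ D, (∀ a ∈ A, x * a = a * x) → x ∈ A := by
  classical
  let good : Subgroup Ω → Prop := fun A => A ≤ D ∧ (∀ a ∈ A, ∀ b ∈ A, a * b = b * a) ∧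
    (∀ t ∈ T, ∀ a ∈ A, t * a * t⁻¹ ∈ A)
  let Tn : Set ℕ := {n | ∃ A, good A ∧ Nat.card A = n}
  have hne : Tn.Nonempty := ⟨_, ⊥, ⟨bot_le, by
    intro a ha b hb
    rw [Subgroup.mem_bot] at ha hb
    rw [ha, hb], by
    intro t _ a ha
    rw [Subgroup.mem_bot] at ha
    rw [ha, Subgroup.mem_bot]
    group⟩, rfl⟩
  have hbdd : BddAbove Tn := by
    refine ⟨Nat.card S, ?_⟩
    rintro n ⟨A, hA, rfl⟩
    exact Subgroup.card_le_of_le (hA.1.trans hDS)
  obtain ⟨A, ⟨hAD, hAc, hAT⟩, hcard⟩ := Nat.sSup_mem hne hbdd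
  have hmax : ∀ A', good A' → Nat.card A' ≤ Nat.card A := by
    intro A' hA'
    rw [hcard]
    exact le_csSup hbdd ⟨A', hA', rfl⟩
  refine ⟨A, hAD, hAc, hAT, ?_⟩
  intro x hxD hxA
  by_contra hxnA
  set X : Subgroup Ω := D ⊓ Subgroup.centralizer (A : Set Ω) with hX
  have hxX : x ∈ X := ⟨hxD, fun a ha => (hxA a ha).symm⟩
  have hXA : ¬ X ≤ A := fun h => hxnA (h hxX)
  have hTX : ∀ t ∈ T, ∀ y ∈ X, t * y * t⁻¹ ∈ X := by
    intro t ht y hy
    refine ⟨hTD t ht y hy.1, fun a ha => ?_⟩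
    have h1 : t⁻¹ * a * t ∈ A := by
      have := hAT t⁻¹ (T.inv_mem ht) a ha
      rwa [inv_inv] at this
    have h2 : (t⁻¹ * a * t) * y = y * (t⁻¹ * a * t) := hy.2 _ h1
    calc a * (t * y * t⁻¹) = t * ((t⁻¹ * a * t) * y) * t⁻¹ := by group
      _ = t * (y * (t⁻¹ * a * t)) * t⁻¹ := by rw [h2]
      _ = t * y * t⁻¹ * a := by group
  obtain ⟨c, hcX, hcA, hcT⟩ := climb hN (inf_le_left.trans hDS) hTS hTX hXA
  set A' : Subgroup Ω := A ⊔ Subgroup.zpowers c with hA'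
  have hAA' : A ≤ A' := le_sup_left
  have hcA' : c ∈ A' := (le_sup_right : Subgroup.zpowers c ≤ A') (Subgroup.mem_zpowers c)
  have hgood : good A' := by
    refine ⟨sup_le hAD ((Subgroup.zpowers_le).2 hcX.1), ?_, ?_⟩
    · -- commutative
      have h1 : A' ≤ Subgroup.centralizer ((A : Set Ω) ∪ {c}) := by
        refine sup_le ?_ ((Subgroup.zpowers_le).2 ?_)
        · intro a ha
          rw [Subgroup.mem_centralizer_iff]
          rintro b (hb | hb)
          · exact hAc b hb a ha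
          · rw [Set.mem_singleton_iff] at hb
            rw [hb]
            exact (hcX.2 a ha).symm
        · rw [Subgroup.mem_centralizer_iff]
          rintro b (hb | hb)
          · exact hcX.2 b hb
          · rw [Set.mem_singleton_iff] at hb
            rw [hb]
      have h2 : A' ≤ Subgroup.centralizer (A' : Set Ω) := by
        refine sup_le ?_ ((Subgroup.zpowers_le).2 ?_)
        · intro a ha
          rw [Subgroup.mem_centralizer_iff]
          intro b hb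
          exact ((Subgroup.mem_centralizer_iff.1 (h1 hb)) a (Or.inl ha)).symm
        · rw [Subgroup.mem_centralizer_iff]
          intro b hb
          exact ((Subgroup.mem_centralizer_iff.1 (h1 hb)) c (Or.inr rfl)).symm
      intro a ha b hb
      exact ((Subgroup.mem_centralizer_iff.1 (h2 hb)) a ha)
    · intro t ht
      have h1 : A' ≤ A'.comap (MulAut.conj t).toMonoidHom := by
        refine sup_le ?_ ((Subgroup.zpowers_le).2 ?_)
        · intro a ha
          show t * a * t⁻¹ ∈ A'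
          exact hAA' (hAT t ht a ha)
        · show t * c * t⁻¹ ∈ A'
          have h3 : ⁅c, t⁆ ∈ A := hcT t ht
          have e : t * c * t⁻¹ = ⁅c, t⁆⁻¹ * c := by rw [commutatorElement_def]; group
          rw [e]
          exact A'.mul_mem (hAA' (A.inv_mem h3)) hcA'
      intro a ha
      exact h1 ha
  have hfin : Finite A' := Finite.of_injective _
    (Subgroup.inclusion_injective (hgood.1.trans hDS))
  have := Subgroup.eq_of_le_of_card_ge hAA' (hmax A' hgood)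
  exact hcA (by rw [this]; exact hcA')

/-- A "critical" subgroup of small elements: in a finite `p`-group `Γ` with a group `G` of
automorphisms containing the inner ones, there is a `G`-invariant subgroup `D`, consisting of
small elements and contained in the subgroup generated by the commutators with the elements of
`G` of order prime to `p`, on which every element of `G` of order prime to `p` acts faithfully. -/
theorem exists_small_faithful {Γ : Type*} [Group Γ] [Finite Γ] {p : ℕ} [Fact p.Prime]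
    (hΓ : IsPGroup p Γ) (G : Subgroup (MulAut Γ)) (hinn : ∀ x : Γ, MulAut.conj x ∈ G) :
    ∃ D : Subgroup Γ, (∀ g ∈ G, ∀ x ∈ D, g x ∈ D) ∧ (∀ x ∈ D, Small p x) ∧
      (∀ x ∈ D, x ∈ Subgroup.closure {y : Γ | ∃ t ∈ G, (∃ m : ℕ, m.Coprime p ∧ t ^ m = 1) ∧
        ∃ x : Γ, y = x⁻¹ * t x}) ∧
      ∀ g ∈ G, ∀ m : ℕ, m.Coprime p → g ^ m = 1 → (∀ x ∈ D, g x = x) → g = 1 := by
  classical
  have hp : p.Prime := Fact.out
  set R₀ : Subgroup Γ := Subgroup.closure {y : Γ | ∃ t ∈ G, (∃ m : ℕ, m.Coprime p ∧ t ^ m = 1) ∧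
        ∃ x : Γ, y = x⁻¹ * t x} with hR₀
  have hRinv : ∀ g ∈ G, ∀ y ∈ R₀, g y ∈ R₀ := by
    intro g hg y hy
    have : R₀ ≤ R₀.comap g.toMonoidHom := (Subgroup.closure_le _).2 (by
      rintro _ ⟨t, ht, ⟨m, hm, htm⟩, x, rfl⟩
      show g (x⁻¹ * t x) ∈ R₀
      rw [map_mul, map_inv]
      refine Subgroup.subset_closure ⟨g * t * g⁻¹, G.mul_mem (G.mul_mem hg ht) (G.inv_mem hg),
        ⟨m, hm, by rw [conj_pow, htm]; simp⟩, g x, ?_⟩
      simp [MulAut.mul_apply])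
    exact this hy
  have hRn : ∀ q : Γ, ∀ y ∈ R₀, q * y * q⁻¹ ∈ R₀ := fun q y hy => hRinv _ (hinn q) y hy
  -- a maximal invariant abelian subgroup of `R₀`
  let good : Subgroup Γ → Prop := fun M => M ≤ R₀ ∧ (∀ g ∈ G, ∀ x ∈ M, g x ∈ M) ∧
    (∀ a ∈ M, ∀ b ∈ M, a * b = b * a)
  let Tn : Set ℕ := {n | ∃ M, good M ∧ Nat.card M = n}
  have hne : Tn.Nonempty := ⟨_, ⊥, ⟨bot_le, by
    intro g _ x hx
    rw [Subgroup.mem_bot] at hx
    rw [hx, map_one]
    exact Subgroup.one_mem _, by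
    intro a ha b hb
    rw [Subgroup.mem_bot] at ha hb
    rw [ha, hb]⟩, rfl⟩
  have hbdd : BddAbove Tn := by
    refine ⟨Nat.card Γ, ?_⟩
    rintro n ⟨M, -, rfl⟩
    exact Subgroup.card_le_card_group M
  obtain ⟨M, ⟨hMR, hMinv, hMc⟩, hcard⟩ := Nat.sSup_mem hne hbdd
  have hmax : ∀ M', good M' → Nat.card M' ≤ Nat.card M := by
    intro M' hM'
    rw [hcard]
    exact le_csSup hbdd ⟨M', hM', rfl⟩
  have hMn : ∀ q : Γ, ∀ y ∈ M, q * y * q⁻¹ ∈ M := fun q y hy => hMinv _ (hinn q) y hy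
  -- elements of `R₀` centralizing `M` and central modulo `M`
  let W₀ : Subgroup Γ :=
    { carrier := {x | x ∈ R₀ ∧ (∀ m ∈ M, x * m = m * x) ∧ ∀ r ∈ R₀, x * r * x⁻¹ * r⁻¹ ∈ M}
      one_mem' := ⟨R₀.one_mem, fun m _ => by rw [one_mul, mul_one], fun r _ => by
        have : (1 : Γ) * r * 1⁻¹ * r⁻¹ = 1 := by group
        rw [this]; exact M.one_mem⟩
      mul_mem' := by
        rintro x y ⟨hx1, hx2, hx3⟩ ⟨hy1, hy2, hy3⟩
        refine ⟨R₀.mul_mem hx1 hy1, fun m hm => ?_, fun r hr => ?_⟩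
        · rw [mul_assoc, hy2 m hm, ← mul_assoc, hx2 m hm, mul_assoc]
        · have hm1 := hy3 r hr
          have e : x * y * r * (x * y)⁻¹ * r⁻¹ =
              (x * (y * r * y⁻¹ * r⁻¹) * x⁻¹) * (x * r * x⁻¹ * r⁻¹) := by group
          have e2 : x * (y * r * y⁻¹ * r⁻¹) * x⁻¹ = y * r * y⁻¹ * r⁻¹ := by
            rw [hx2 _ hm1]; group
          rw [e, e2]
          exact M.mul_mem hm1 (hx3 r hr)
      inv_mem' := by
        rintro x ⟨hx1, hx2, hx3⟩
        refine ⟨R₀.inv_mem hx1, fun m hm => ?_, fun r hr => ?_⟩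
        · have := hx2 m hm
          calc x⁻¹ * m = x⁻¹ * (m * x) * x⁻¹ := by group
            _ = x⁻¹ * (x * m) * x⁻¹ := by rw [this]
            _ = m * x⁻¹ := by group
        · have hm1 := M.inv_mem (hx3 r hr)
          have e : x⁻¹ * r * x⁻¹⁻¹ * r⁻¹ = x⁻¹ * ((x * r * x⁻¹ * r⁻¹)⁻¹ * x) := by group
          rw [e, ← hx2 _ hm1]
          have e3 : x⁻¹ * (x * (x * r * x⁻¹ * r⁻¹)⁻¹) = (x * r * x⁻¹ * r⁻¹)⁻¹ := by group
          rw [e3]
          exact hm1 }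
  have hWinv : ∀ g ∈ G, ∀ x ∈ W₀, g x ∈ W₀ := by
    rintro g hg x ⟨hx1, hx2, hx3⟩
    have hgi : g⁻¹ ∈ G := G.inv_mem hg
    refine ⟨hRinv g hg x hx1, fun m hm => ?_, fun r hr => ?_⟩
    · have h1 := hx2 _ (hMinv _ hgi m hm)
      have h2 := congrArg g h1
      rw [map_mul, map_mul] at h2
      simpa using h2
    · have h1 := hMinv g hg _ (hx3 _ (hRinv _ hgi r hr))
      rw [map_mul, map_mul, map_mul, map_inv, map_inv] at h1
      simpa using h1
  have hMW : M ≤ W₀ := by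
    intro m hm
    refine ⟨hMR hm, fun m' hm' => hMc m hm m' hm', fun r hr => ?_⟩
    have e : m * r * m⁻¹ * r⁻¹ = m * (r * m⁻¹ * r⁻¹) := by group
    rw [e]
    exact M.mul_mem hm (hMn r _ (M.inv_mem hm))
  -- the elements of `W₀` of order `p` modulo `M`
  have hcomm : ∀ x ∈ W₀, ∀ y ∈ W₀, ∃ c ∈ M, y * x = c * x * y ∧ Commute c x ∧ Commute c y := by
    rintro x hx y hy
    refine ⟨y * x * y⁻¹ * x⁻¹, hy.2.2 x hx.1, by group, ?_, ?_⟩
    · exact (hx.2.1 _ (hy.2.2 x hx.1)).symm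
    · exact (hy.2.1 _ (hy.2.2 x hx.1)).symm
  let D₀ : Subgroup Γ :=
    { carrier := {x | x ∈ W₀ ∧ x ^ p ∈ M}
      one_mem' := ⟨W₀.one_mem, by rw [one_pow]; exact M.one_mem⟩
      mul_mem' := by
        rintro x y ⟨hx1, hx2⟩ ⟨hy1, hy2⟩
        refine ⟨W₀.mul_mem hx1 hy1, ?_⟩
        obtain ⟨c, hcM, h1, hcx, hcy⟩ := hcomm x hx1 y hy1
        rw [mul_pow_central x y c h1 hcx hcy p]
        exact M.mul_mem (M.mul_mem hx2 hy2) (M.pow_mem hcM _)
      inv_mem' := by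
        rintro x ⟨hx1, hx2⟩
        exact ⟨W₀.inv_mem hx1, by rw [inv_pow]; exact M.inv_mem hx2⟩ }
  have hDinv : ∀ g ∈ G, ∀ x ∈ D₀, g x ∈ D₀ := by
    rintro g hg x ⟨hx1, hx2⟩
    exact ⟨hWinv g hg x hx1, by rw [← map_pow]; exact hMinv g hg _ hx2⟩
  have hDn : ∀ q : Γ, ∀ y ∈ D₀, q * y * q⁻¹ ∈ D₀ := fun q y hy => hDinv _ (hinn q) y hy
  have hMD : M ≤ D₀ := fun m hm => ⟨hMW hm, M.pow_mem hm p⟩
  -- the centre of `D₀` is `M`
  have hZ : ∀ x ∈ D₀, (∀ d ∈ D₀, x * d = d * x) → x ∈ M := by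
    intro x hx hxc
    set Z : Subgroup Γ := D₀ ⊓ Subgroup.centralizer (D₀ : Set Γ) with hZdef
    have hxZ : x ∈ Z := ⟨hx, fun d hd => (hxc d hd).symm⟩
    have hZgood : good Z := by
      refine ⟨fun z hz => hz.1.1.1, ?_, ?_⟩
      · rintro g hg z ⟨hz1, hz2⟩
        have hgi : g⁻¹ ∈ G := G.inv_mem hg
        refine ⟨hDinv g hg z hz1, fun d hd => ?_⟩
        have h1 := hz2 _ (hDinv _ hgi d hd)
        have h2 := congrArg g h1
        rw [map_mul, map_mul] at h2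
        simpa using h2
      · rintro a ⟨ha1, ha2⟩ b ⟨hb1, hb2⟩
        exact (hb2 a ha1)
    have hMZ : M ≤ Z := by
      intro m hm
      refine ⟨hMD hm, fun d hd => ?_⟩
      exact hd.1.2.1 m hm
    have := Subgroup.eq_of_le_of_card_ge hMZ (hmax Z hZgood)
    rw [this]
    exact hxZ
  have hpel : ∀ c : Γ, ∃ k : ℕ, c ^ p ^ k = 1 := fun c => hΓ c
  -- `D₀` is self-centralizing in `R₀`
  have hCD : ∀ q ∈ R₀, (∀ d ∈ D₀, q * d = d * q) → q ∈ D₀ := by
    intro q hq hqc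
    by_contra hqD
    set Q : Subgroup Γ := R₀ ⊓ Subgroup.centralizer (D₀ : Set Γ) with hQdef
    have hqQ : q ∈ Q := ⟨hq, fun d hd => (hqc d hd).symm⟩
    have hQM : ¬ Q ≤ M := fun h => hqD (hMD (h hqQ))
    have hnil : ∃ N : ℕ, (⊤ : Subgroup Γ).lowerCentralSeries N = ⊥ :=
      Subgroup.nilpotent_iff_lowerCentralSeries.1 hΓ.isNilpotent
    have hTQ : ∀ t ∈ R₀, ∀ y ∈ Q, t * y * t⁻¹ ∈ Q := by
      rintro t - y ⟨hy1, hy2⟩
      refine ⟨hRn t y hy1, fun d hd => ?_⟩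
      have h1 : t⁻¹ * d * t ∈ D₀ := by
        have := hDn t⁻¹ d hd
        rwa [inv_inv] at this
      have h2 := hy2 _ h1
      calc d * (t * y * t⁻¹) = t * ((t⁻¹ * d * t) * y) * t⁻¹ := by group
        _ = t * (y * (t⁻¹ * d * t)) * t⁻¹ := by rw [h2]
        _ = t * y * t⁻¹ * d := by group
    obtain ⟨c, hcQ, hcM, hcT⟩ := climb hnil (le_top : Q ≤ ⊤) (le_top : R₀ ≤ ⊤) hTQ hQM
    have hcW : c ∈ W₀ := by
      refine ⟨hcQ.1, fun m hm => (hcQ.2 m (hMD hm)).symm, fun r hr => ?_⟩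
      have := hcT r hr
      rwa [commutatorElement_def] at this
    have hex : ∃ k : ℕ, c ^ p ^ k ∈ M := by
      obtain ⟨k, hk⟩ := hpel c
      exact ⟨k, by rw [hk]; exact M.one_mem⟩
    have hk0 : Nat.find hex ≠ 0 := by
      intro h0
      have := Nat.find_spec hex
      rw [h0, pow_zero, pow_one] at this
      exact hcM this
    obtain ⟨i, hi⟩ := Nat.exists_eq_succ_of_ne_zero hk0
    have hmin : c ^ p ^ i ∉ M := Nat.find_min hex (by rw [hi]; exact Nat.lt_succ_self i)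
    have hspec := Nat.find_spec hex
    rw [hi, pow_succ, pow_mul] at hspec
    have hyD : c ^ p ^ i ∈ D₀ := ⟨W₀.pow_mem hcW _, hspec⟩
    have hyc : ∀ d ∈ D₀, c ^ p ^ i * d = d * c ^ p ^ i := by
      intro d hd
      have : c ^ p ^ i ∈ Q := Q.pow_mem hcQ _
      exact (this.2 d hd).symm
    exact hmin (hZ _ hyD hyc)
  -- the exponent `n`
  obtain ⟨n, hn1, hn3, hn4⟩ : ∃ n : ℕ, p ∣ n.choose 2 ∧ (∀ x : Γ, x ^ n = 1 → Small p x) ∧
      (∀ x : Γ, Small p x → x ^ n = 1) := by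
    by_cases h2 : p = 2
    · refine ⟨4, ?_, ?_, ?_⟩
      · rw [h2]; decide
      · intro x hx
        exact Or.inr ⟨h2, hx⟩
      · rintro x (hx | ⟨-, hx⟩)
        · rw [h2] at hx
          have e : x ^ 4 = (x ^ 2) ^ 2 := by rw [← pow_mul]
          rw [e, hx, one_pow]
        · exact hx
    · refine ⟨p, ?_, ?_, ?_⟩
      · exact hp.dvd_choose_self (by norm_num) (lt_of_le_of_ne hp.two_le (Ne.symm h2))
      · intro x hx
        exact Or.inl hx
      · rintro x (hx | ⟨h, -⟩)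
        · exact hx
        · exact absurd h h2
  have hmul : ∀ x ∈ D₀, ∀ y ∈ D₀, (x * y) ^ n = x ^ n * y ^ n := by
    rintro x ⟨hx1, hx2⟩ y ⟨hy1, hy2⟩
    obtain ⟨c, hcM, h1, hcx, hcy⟩ := hcomm x hx1 y hy1
    have hcp : c ^ p = 1 := by
      have h2 := pow_comm_central x y c h1 hcy p
      have h3 : y ^ p * x = x * y ^ p := (hx1.2.1 _ hy2).symm
      rw [h3] at h2
      have : c ^ p * (x * y ^ p) = 1 * (x * y ^ p) := by rw [one_mul, ← mul_assoc]; exact h2.symm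
      exact mul_right_cancel this
    rw [mul_pow_central x y c h1 hcx hcy n]
    obtain ⟨j, hj⟩ := hn1
    rw [hj, pow_mul, hcp, one_pow, mul_one]
  let D : Subgroup Γ :=
    { carrier := {x | x ∈ D₀ ∧ x ^ n = 1}
      one_mem' := ⟨D₀.one_mem, one_pow n⟩
      mul_mem' := by
        rintro x y ⟨hx, hxn⟩ ⟨hy, hyn⟩
        exact ⟨D₀.mul_mem hx hy, by rw [hmul x hx y hy, hxn, hyn, one_mul]⟩
      inv_mem' := by
        rintro x ⟨hx, hxn⟩
        exact ⟨D₀.inv_mem hx, by rw [inv_pow, hxn, inv_one]⟩ }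
  refine ⟨D, ?_, fun x hx => hn3 x hx.2, fun x hx => hx.1.1.1, ?_⟩
  · rintro g hg x ⟨hx, hxn⟩
    exact ⟨hDinv g hg x hx, by rw [← map_pow, hxn, map_one]⟩
  · intro g hg m hm hgm hfix
    -- `g` fixes `D₀`
    have h1 : ∀ x ∈ D₀, g x = x :=
      fix_of_fix_small g hm hgm D₀ (hΓ.to_subgroup D₀) (hDinv g hg)
        (fun x hx hsm => hfix x ⟨hx, hn4 x hsm⟩)
    -- `g` fixes `R₀`
    have h2 : ∀ r ∈ R₀, g r = r := by
      intro r hr
      have hcR : r⁻¹ * g r ∈ R₀ := R₀.mul_mem (R₀.inv_mem hr) (hRinv g hg r hr)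
      have hcc : ∀ d ∈ D₀, r⁻¹ * g r * d = d * (r⁻¹ * g r) := by
        intro d hd
        have h3 : g (r * d * r⁻¹) = r * d * r⁻¹ := h1 _ (hDn r d hd)
        rw [map_mul, map_mul, map_inv, h1 d hd] at h3
        calc r⁻¹ * g r * d = r⁻¹ * (g r * d * (g r)⁻¹) * g r := by group
          _ = r⁻¹ * (r * d * r⁻¹) * g r := by rw [h3]
          _ = d * (r⁻¹ * g r) := by group
      have hcD := hCD _ hcR hcc
      obtain ⟨k, hk⟩ := hpel (r⁻¹ * g r)
      have := eq_one_of_coprime_fix g hm hgm (x := r) (c := r⁻¹ * g r) (by group)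
        (h1 _ hcD) hk
      exact (inv_mul_eq_one.1 this).symm
    ext y
    have hc : y⁻¹ * g y ∈ R₀ := Subgroup.subset_closure ⟨g, hg, ⟨m, hm, hgm⟩, y, rfl⟩
    obtain ⟨k, hk⟩ := hpel (y⁻¹ * g y)
    have := eq_one_of_coprime_fix g hm hgm (x := y) (c := y⁻¹ * g y) (by group) (h2 _ hc) hk
    rw [(inv_mul_eq_one.1 this).symm]
    rfl

end Cfsg.Agent.Lib.Helper88.Bg
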