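import Mathlib
import Cfsg.Agent.Lib.Helper88.BgA
import Cfsg.Agent.Lib.Helper88.FusPAut
import Cfsg.Agent.Lib.Helper88.FusAlp
import Cfsg.Agent.Lib.Helper84.FusionIso

/-!
Fusion-theoretic preparation for the theorem that small abelian subgroups of the hyperfocal
subgroup control fusion: a good abelian subgroup of a given subgroup `P`, the automorphisms of
`P` fixing it pointwise, and transport of these along maps of the system.
-/

set_option autoImplicit false

namespace Cfsg.Agent.Lib.Helper88.Bg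

open Cfsg Cfsg.FusionSystem Cfsg.Agent.Lib.Helper88
open scoped commutatorElement

variable {Ω : Type*} [Group Ω] {S : Subgroup Ω}

theorem mor_le {E F : FusionSystem S} (hEF : ∀ P : Subgroup Ω, E.Hom P ⊆ F.Hom P)
    {P : Subgroup Ω} {f : Ω → Ω} (h : Mor E P f) : Mor F P f := by
  obtain ⟨φ, hφ, hφf⟩ := h
  exact ⟨φ, hEF P hφ, hφf⟩

theorem card_lt_of_le_of_not_mem {H K : Subgroup Ω} [Finite K] (hle : H ≤ K) {g : Ω}
    (hg : g ∈ K) (hgH : g ∉ H) : Nat.card H < Nat.card K := by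
  by_contra h
  push Not at h
  have h1 := Subgroup.eq_of_le_of_card_ge hle h
  exact hgH (h1 ▸ hg)

theorem Mor.exists_equiv {F : FusionSystem S} {P : Subgroup Ω} {f : Ω → Ω} (h : Mor F P f) :
    ∃ θ : P ≃* img P f, ∀ x : P, ((θ x : img P f) : Ω) = f x := by
  obtain ⟨φ, hφ, hφf⟩ := h
  have hr : img P f = φ.range := img_eq_range φ hφf
  rw [hr]
  exact ⟨MonoidHom.ofInjective (F.injective_of_mem hφ), fun x => hφf x⟩

/-- A `p`-subgroup normalized by a Sylow `p`-subgroup is contained in it. -/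
theorem le_sylow_of_normalized {G : Type*} [Group G] {p : ℕ} [Fact p.Prime] (R : Sylow p G)
    {U : Subgroup G} (hU : IsPGroup p U) (hn : (R : Subgroup G) ≤ Subgroup.normalizer (U : Set G)) :
    U ≤ R := by
  have h1 : IsPGroup p ((R : Subgroup G) ⊔ U : Subgroup G) :=
    IsPGroup.to_sup_of_normal_right' R.isPGroup' hU hn
  have h2 := R.is_maximal' h1 le_sup_left
  calc U ≤ (R : Subgroup G) ⊔ U := le_sup_right
    _ = R := h2

/-- A good abelian subgroup of `P`: consisting of small elements, normalized by `N_S(P)`, mapped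
into the hyperfocal subgroup by `Aut_F(P)`, and on which the elements of `Aut_F(P)` of order
prime to `p` act faithfully. -/
theorem exists_good_abelian [Finite S] {p : ℕ} [Fact p.Prime] (hS : IsPGroup p S)
    (F : FusionSystem S) {P : Subgroup Ω} (hP : P ≤ S) :
    ∃ A : Subgroup Ω, A ≤ P ∧ (∀ a ∈ A, ∀ b ∈ A, a * b = b * a) ∧ (∀ a ∈ A, Small p a) ∧
      (∀ t ∈ normalizerIn S P, ∀ a ∈ A, t * a * t⁻¹ ∈ A) ∧
      (∀ g ∈ F.autGroup P, ∀ a : P, (a : Ω) ∈ A → ((g a : P) : Ω) ∈ F.hyperfocalSubgroup p) ∧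
      (∀ g ∈ F.autGroup P, (∀ a : P, (a : Ω) ∈ A → g a = a) →
        ∀ m : ℕ, m.Coprime p → g ^ m = 1 → g = 1) := by
  classical
  have hfinP : Finite P := Helper84.finite_of_le hP
  have hPp : IsPGroup p P := hS.to_le hP
  have hinn : ∀ x : P, MulAut.conj x ∈ F.autGroup P := fun x =>
    Helper84.inn_le_autGroup F hP ⟨x, rfl⟩
  obtain ⟨D, hDinv, hDsmall, hDgen, hDfaith⟩ := exists_small_faithful hPp (F.autGroup P) hinn
  have hSnil : Group.IsNilpotent S := hS.isNilpotent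
  have hN := (Subgroup.isNilpotent_iff_lowerCentralSeries S).1 hSnil
  have hD'P : D.map P.subtype ≤ P := by
    rintro _ ⟨d, -, rfl⟩
    exact d.2
  have hmemD' : ∀ x : P, (x : Ω) ∈ D.map P.subtype ↔ x ∈ D := by
    intro x
    constructor
    · rintro ⟨d, hd, hdx⟩
      have : d = x := Subtype.ext hdx
      rw [← this]; exact hd
    · intro hx
      exact ⟨x, hx, rfl⟩
  have hTD : ∀ t ∈ normalizerIn S P, ∀ x ∈ D.map P.subtype, t * x * t⁻¹ ∈ D.map P.subtype := by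
    rintro t ht _ ⟨d, hd, rfl⟩
    have h1 : Helper84.conjN S P ⟨t, ht⟩ ∈ F.autGroup P := by
      apply Helper84.autInducedBy_le_autGroup F hP
      rw [Helper84.autInducedBy_eq_range]
      exact ⟨⟨t, ht⟩, rfl⟩
    have h2 := hDinv _ h1 d hd
    exact ⟨_, h2, rfl⟩
  obtain ⟨A, hAD, hAc, hAT, hAmax⟩ := exists_max_abelian_inv hN (hD'P.trans hP)
    (Helper84.normalizerIn_le S P) hTD
  have hAP : A ≤ P := hAD.trans hD'P
  refine ⟨A, hAP, hAc, ?_, hAT, ?_, ?_⟩
  · intro a ha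
    obtain ⟨d, hd, rfl⟩ := hAD ha
    exact (hDsmall d hd).map P.subtype
  · intro g hg a ha
    have h1 : a ∈ D := (hmemD' a).1 (hAD ha)
    have h2 : g a ∈ D := hDinv g hg a h1
    have h3 := hDgen _ h2
    have hle : Subgroup.closure {y : P | ∃ t ∈ F.autGroup P, (∃ m : ℕ, m.Coprime p ∧ t ^ m = 1) ∧
        ∃ x : P, y = x⁻¹ * t x} ≤ (F.hyperfocalSubgroup p).comap P.subtype := by
      rw [Subgroup.closure_le]
      rintro y ⟨t, ht, ⟨m, hm, htm⟩, x, rfl⟩
      exact hyp_gen_mem F hP ht hm htm x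
    exact hle h3
  · intro g hg hgA m hm hgm
    apply hDfaith g hg m hm hgm
    intro d hd
    -- `c = d⁻¹ g(d)` centralizes `A`
    have hgd : g d ∈ D := hDinv g hg d hd
    have hcD : d⁻¹ * g d ∈ D := D.mul_mem (D.inv_mem hd) hgd
    have hcen : ∀ a ∈ A, ((d⁻¹ * g d : P) : Ω) * a = a * ((d⁻¹ * g d : P) : Ω) := by
      intro a ha
      have h1 : g ⟨a, hAP ha⟩ = ⟨a, hAP ha⟩ := hgA ⟨a, hAP ha⟩ ha
      have hdN : (d : Ω) ∈ normalizerIn S P := Helper84.le_normalizerIn hP d.2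
      have h2 : (d : Ω) * a * (d : Ω)⁻¹ ∈ A := hAT _ hdN a ha
      have h3 : g (d * ⟨a, hAP ha⟩ * d⁻¹) = d * ⟨a, hAP ha⟩ * d⁻¹ := hgA _ h2
      rw [map_mul, map_mul, map_inv, h1] at h3
      have h4 : d⁻¹ * g d * ⟨a, hAP ha⟩ = ⟨a, hAP ha⟩ * (d⁻¹ * g d) := by
        calc d⁻¹ * g d * ⟨a, hAP ha⟩ = d⁻¹ * (g d * ⟨a, hAP ha⟩ * (g d)⁻¹) * g d := by group
          _ = d⁻¹ * (d * ⟨a, hAP ha⟩ * d⁻¹) * g d := by rw [h3]
          _ = ⟨a, hAP ha⟩ * (d⁻¹ * g d) := by group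
      exact congrArg Subtype.val h4
    have hcA : ((d⁻¹ * g d : P) : Ω) ∈ A := hAmax _ ((hmemD' _).2 hcD) hcen
    have hgc : g (d⁻¹ * g d) = d⁻¹ * g d := hgA _ hcA
    obtain ⟨k, hk⟩ := hPp (d⁻¹ * g d)
    have hx : g d = d * (d⁻¹ * g d) := by group
    have hc1 := eq_one_of_coprime_fix g hm hgm hx hgc hk
    rw [hx, hc1, mul_one]

/-- An automorphism of a fully automized subgroup `P` in the system that fixes pointwise a
subgroup `A`, normalized by `N_S(P)`, on which the automorphisms of order prime to `p` act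
faithfully, is induced by an element of `S`. -/
theorem fix_is_inner [Finite S] {p : ℕ} [Fact p.Prime] (F : FusionSystem S)
    {P A : Subgroup Ω} (hfa : F.IsFullyAutomized p P) (hAP : A ≤ P)
    (hAT : ∀ t ∈ normalizerIn S P, ∀ a ∈ A, t * a * t⁻¹ ∈ A)
    (hApg : ∀ g ∈ F.autGroup P, (∀ a : P, (a : Ω) ∈ A → g a = a) →
      ∀ m : ℕ, m.Coprime p → g ^ m = 1 → g = 1)
    {f : Ω → Ω} (hf : Mor F P f) (hfP : ∀ x ∈ P, f x ∈ P) (hfA : ∀ a ∈ A, f a = a) :
    ∃ s ∈ S, ∀ x ∈ P, f x = s * x * s⁻¹ := by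
  classical
  have hP : P ≤ S := hfa.1
  have hfinP : Finite P := Helper84.finite_of_le hP
  have hfinG : Finite (F.autGroup P) := Helper84.finite_autGroup F hP
  obtain ⟨R, hR⟩ := fa_exists_sylow hfa
  let C : Subgroup (F.autGroup P) :=
    { carrier := {g | ∀ a : P, (a : Ω) ∈ A → (g : MulAut P) a = a}
      one_mem' := fun a _ => rfl
      mul_mem' := by
        intro g h hg hh a ha
        show (g : MulAut P) ((h : MulAut P) a) = a
        rw [hh a ha, hg a ha]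
      inv_mem' := by
        intro g hg a ha
        show (g : MulAut P)⁻¹ a = a
        have h1 := hg a ha
        calc (g : MulAut P)⁻¹ a = (g : MulAut P)⁻¹ ((g : MulAut P) a) := by rw [h1]
          _ = a := by simp }
  have hCmem : ∀ g : F.autGroup P, g ∈ C ↔ ∀ a : P, (a : Ω) ∈ A → (g : MulAut P) a = a :=
    fun g => Iff.rfl
  have hCp : IsPGroup p C := by
    intro g
    obtain ⟨k, m, hm, hkm⟩ := exists_pprime_pow p g
    refine ⟨k, ?_⟩
    have h1 : (((g ^ p ^ k : C) : F.autGroup P) : MulAut P) = 1 := by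
      apply hApg _ (((g ^ p ^ k : C) : F.autGroup P)).2 ((hCmem _).1 (g ^ p ^ k).2) m hm
      have := congrArg (fun z : C => ((z : F.autGroup P) : MulAut P)) hkm
      simpa using this
    apply Subtype.ext
    apply Subtype.ext
    exact h1
  have hnorm : (R : Subgroup (F.autGroup P)) ≤ Subgroup.normalizer (C : Set (F.autGroup P)) := by
    intro r hr
    obtain ⟨s, hs, hrs⟩ := (hR r).1 hr
    have hsN : s ∈ normalizerIn S P := by
      refine ⟨hs, mem_normalizer_fin ?_⟩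
      intro x hx
      rw [← hrs ⟨x, hx⟩]
      exact Subtype.property _
    have hsinvN : s⁻¹ ∈ normalizerIn S P := (normalizerIn S P).inv_mem hsN
    have hrA : ∀ a : P, (a : Ω) ∈ A → (((r : MulAut P) a : P) : Ω) ∈ A := by
      intro a ha
      rw [hrs a]
      exact hAT s hsN a ha
    have hrinvA : ∀ a : P, (a : Ω) ∈ A → ((((r : MulAut P)⁻¹) a : P) : Ω) ∈ A := by
      intro a ha
      have h1 := hrs ((r : MulAut P)⁻¹ a)
      have h2 : (r : MulAut P) ((r : MulAut P)⁻¹ a) = a := by simp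
      rw [h2] at h1
      have h3 : ((((r : MulAut P)⁻¹) a : P) : Ω) = s⁻¹ * a * s⁻¹⁻¹ := by
        rw [h1]; group
      rw [h3]
      exact hAT s⁻¹ hsinvN a ha
    rw [Subgroup.mem_normalizer_iff]
    intro c
    constructor
    · intro hc
      rw [hCmem]
      intro a ha
      show (r : MulAut P) ((c : MulAut P) ((r : MulAut P)⁻¹ a)) = a
      rw [(hCmem c).1 hc _ (hrinvA a ha)]
      simp
    · intro hc
      rw [hCmem] at hc ⊢
      intro a ha
      have h1 := hc ((r : MulAut P) a) (hrA a ha)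
      have h2 : (r : MulAut P) ((c : MulAut P) ((r : MulAut P)⁻¹ ((r : MulAut P) a))) =
          (r : MulAut P) a := h1
      have h3 : (r : MulAut P)⁻¹ ((r : MulAut P) a) = a := by simp
      rw [h3] at h2
      exact (r : MulAut P).injective h2
  have hCR : C ≤ R := le_sylow_of_normalized R hCp hnorm
  obtain ⟨α, hα, hαf⟩ := hf.exists_aut hfP
  have hαC : (⟨α, hα⟩ : F.autGroup P) ∈ C := by
    rw [hCmem]
    intro a ha
    apply Subtype.ext
    rw [hαf a]
    exact hfA a ha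
  obtain ⟨s, hs, hαs⟩ := (hR _).1 (hCR hαC)
  refine ⟨s, hs, fun x hx => ?_⟩
  rw [← hαf ⟨x, hx⟩]
  exact hαs ⟨x, hx⟩

/-- Transport of the faithfulness property along a map of the system. -/
theorem pg_transport [Finite S] (F : FusionSystem S) {p : ℕ} {P A : Subgroup Ω} (hAP : A ≤ P)
    (hApg : ∀ g ∈ F.autGroup P, (∀ a : P, (a : Ω) ∈ A → g a = a) →
      ∀ m : ℕ, m.Coprime p → g ^ m = 1 → g = 1)
    {ψ : Ω → Ω} (hψ : Mor F P ψ) :
    ∀ g ∈ F.autGroup (img P ψ), (∀ a : img P ψ, (a : Ω) ∈ img A ψ → g a = a) →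
      ∀ m : ℕ, m.Coprime p → g ^ m = 1 → g = 1 := by
  intro g₁ hg₁ hg₁A m hm hg₁m
  have hP : P ≤ S := hψ.le
  have hP₁ : img P ψ ≤ S := hψ.img_le
  obtain ⟨θ, hθ⟩ := Mor.exists_equiv hψ
  obtain ⟨ψ', hψ', -, hψ'ψ, -⟩ := hψ.exists_inv_img rfl
  have h₁ := (mem_autGroup_iff F hP₁ g₁).1 hg₁
  have hθeq : ∀ x (hx : x ∈ P), θ ⟨x, hx⟩ = ⟨ψ x, hψ.apply_mem_img hx⟩ := fun x hx =>
    Subtype.ext (hθ ⟨x, hx⟩)
  have hgapp : ∀ x : P, MulAut.congr θ.symm g₁ x = θ.symm (g₁ (θ x)) := fun x => rfl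
  have hgmem : MulAut.congr θ.symm g₁ ∈ F.autGroup P := by
    rw [mem_autGroup_iff F hP]
    have hc := (hψ.comp h₁ (fun x hx => hψ.apply_mem_img hx)).comp hψ' (by
      intro x hx
      show extFun (fun y : img P ψ => ((g₁ y : img P ψ) : Ω)) (ψ x) ∈ img P ψ
      rw [extFun_mem _ (hψ.apply_mem_img hx)]
      exact Subtype.property _)
    refine hc.congr ?_
    intro x hx
    show ψ' (extFun (fun y : img P ψ => ((g₁ y : img P ψ) : Ω)) (ψ x)) = _
    rw [extFun_mem _ (hψ.apply_mem_img hx), extFun_mem _ hx, hgapp, ← hθeq x hx]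
    have h2 : ((g₁ (θ ⟨x, hx⟩) : img P ψ) : Ω) = ψ ((θ.symm (g₁ (θ ⟨x, hx⟩)) : P) : Ω) := by
      rw [← hθ]; simp
    rw [h2, hψ'ψ _ (Subtype.property _)]
  have hgA : ∀ a : P, (a : Ω) ∈ A → MulAut.congr θ.symm g₁ a = a := by
    intro a ha
    rw [hgapp]
    have h2 : ((θ a : img P ψ) : Ω) ∈ img A ψ := by
      rw [hθ]; exact (hψ.res hAP).apply_mem_img ha
    rw [hg₁A _ h2]
    simp
  have hgm : MulAut.congr θ.symm g₁ ^ m = 1 := by
    rw [← map_pow, hg₁m, map_one]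
  have h3 := hApg _ hgmem hgA m hm hgm
  have h4 : MulAut.congr θ.symm g₁ = MulAut.congr θ.symm 1 := by rw [h3, map_one]
  exact (MulAut.congr θ.symm).injective h4

end Cfsg.Agent.Lib.Helper88.Bg
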