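import Mathlib
import Cfsg.Agent.Lib.Helper88.BgB
import Cfsg.Agent.Lib.Helper84.KNormalizer
import Cfsg.Agent.Lib.Helper84.NormalizerSys
import Cfsg.Agent.Lib.Helper84.FusionRS
import Cfsg.Agent.Lib.Helper87.FusionNormal
import Cfsg.Agent.Lib.Helper87.FusionTate

/-!
The inductive step of the theorem that small abelian subgroups of the hyperfocal subgroup
control fusion, for a subgroup `P` with a fully normalized abelian normal subgroup `A`.
-/

set_option autoImplicit false

namespace Cfsg.Agent.Lib.Helper88.Bg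

open Cfsg Cfsg.FusionSystem Cfsg.Agent.Lib.Helper88
open scoped commutatorElement

variable {Ω : Type*} [Group Ω] {S : Subgroup Ω}

/-- The automorphisms in `G` fixing the set `A` pointwise. -/
def fixer {Γ : Type*} [Group Γ] (G : Subgroup (MulAut Γ)) (A : Set Γ) : Subgroup G where
  carrier := {g | ∀ a ∈ A, (g : MulAut Γ) a = a}
  one_mem' := fun a _ => rfl
  mul_mem' := by
    intro g h hg hh a ha
    show (g : MulAut Γ) ((h : MulAut Γ) a) = a
    rw [hh a ha, hg a ha]
  inv_mem' := by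
    intro g hg a ha
    show (g : MulAut Γ)⁻¹ a = a
    have h1 := hg a ha
    calc (g : MulAut Γ)⁻¹ a = (g : MulAut Γ)⁻¹ ((g : MulAut Γ) a) := by rw [h1]
      _ = a := by simp

theorem mem_fixer {Γ : Type*} [Group Γ] {G : Subgroup (MulAut Γ)} {A : Set Γ} (g : G) :
    g ∈ fixer G A ↔ ∀ a ∈ A, (g : MulAut Γ) a = a := Iff.rfl

theorem fixer_normalizer {Γ : Type*} [Group Γ] {G : Subgroup (MulAut Γ)} {A : Set Γ} (r : G)
    (hr : ∀ a ∈ A, (r : MulAut Γ) a ∈ A) (hr' : ∀ a ∈ A, (r : MulAut Γ)⁻¹ a ∈ A) :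
    r ∈ Subgroup.normalizer (fixer G A : Set G) := by
  rw [Subgroup.mem_normalizer_iff]
  intro u
  constructor
  · intro hu
    rw [mem_fixer]
    intro a ha
    show (r : MulAut Γ) ((u : MulAut Γ) ((r : MulAut Γ)⁻¹ a)) = a
    rw [(mem_fixer u).1 hu _ (hr' a ha)]
    simp
  · intro hu
    rw [mem_fixer] at hu ⊢
    intro a ha
    have h1 := hu ((r : MulAut Γ) a) (hr a ha)
    have h2 : (r : MulAut Γ) ((u : MulAut Γ) ((r : MulAut Γ)⁻¹ ((r : MulAut Γ) a))) =
        (r : MulAut Γ) a := h1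
    have h3 : (r : MulAut Γ)⁻¹ ((r : MulAut Γ) a) = a := by simp
    rw [h3] at h2
    exact (r : MulAut Γ).injective h2

theorem fixer_isPGroup {Γ : Type*} [Group Γ] {G : Subgroup (MulAut Γ)} [Finite G] {A : Set Γ}
    {p : ℕ} [Fact p.Prime]
    (h : ∀ g ∈ G, (∀ a ∈ A, g a = a) → ∀ m : ℕ, m.Coprime p → g ^ m = 1 → g = 1) :
    IsPGroup p (fixer G A) := by
  intro g
  obtain ⟨k, m, hm, hkm⟩ := exists_pprime_pow p g
  refine ⟨k, ?_⟩
  have h1 : (((g ^ p ^ k : fixer G A) : G) : MulAut Γ) = 1 := by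
    apply h _ (((g ^ p ^ k : fixer G A) : G)).2 ((mem_fixer _).1 (g ^ p ^ k).2) m hm
    have := congrArg (fun z : fixer G A => ((z : G) : MulAut Γ)) hkm
    simpa using this
  apply Subtype.ext
  apply Subtype.ext
  exact h1

/-- Maps of the normalizer system of `A` send `A` into `A`. -/
theorem norm_mor_map [Finite S] (F : FusionSystem S) {A : Subgroup Ω} (hAS : A ≤ S)
    (NN : FusionSystem (normalizerIn S A)) (hNN : F.IsNormalizerSystem A NN) {X : Subgroup Ω}
    {g : Ω → Ω} (hg : Mor NN X g) (hAX : A ≤ X) : ∀ a ∈ A, g a ∈ A := by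
  obtain ⟨-, -, -, f', -, hf'g, hf'A⟩ :=
    (Helper84.mor_normalizerSystem_iff F hAS NN hNN X g).1 hg
  intro a ha
  rw [← hf'g a (hAX ha)]
  exact hf'A a ha

/-- Maps of the system on `P` fixing pointwise a fully normalized normal subgroup `A` of `P`
belong to the subsystem `E`, provided `E` contains the maps on bigger subgroups, the
automorphisms of `P` fixing `A` pointwise, and the pointwise stabilizers of the images of `A`
are `p`-groups. -/
theorem core_fixA [Finite S] {p : ℕ} [Fact p.Prime] (hS : IsPGroup p S) (E F : FusionSystem S)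
    (hF : F.IsSaturated p)
    {P A : Subgroup Ω} (hPS : P ≤ S) (hAP : A ≤ P) (hfn : F.IsFullyNormalized A)
    (hAn : ∀ t ∈ P, ∀ a ∈ A, t * a * t⁻¹ ∈ A)
    (hbig : ∀ (X : Subgroup Ω) (f : Ω → Ω), Nat.card P < Nat.card X → Mor F X f → Mor E X f)
    (hfix : ∀ f, Mor F P f → (∀ x ∈ P, f x ∈ P) → (∀ a ∈ A, f a = a) → Mor E P f)
    (hpg : ∀ ψ, Mor F P ψ → ∀ g ∈ F.autGroup (img P ψ),
      (∀ a : img P ψ, (a : Ω) ∈ img A ψ → g a = a) → ∀ m : ℕ, m.Coprime p → g ^ m = 1 → g = 1) :
    ∀ μ, Mor F P μ → (∀ a ∈ A, μ a = a) → Mor E P μ := by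
  classical
  intro μ hμ hμA
  have hAS : A ≤ S := hAP.trans hPS
  have hfinP : Finite P := Helper84.finite_of_le hPS
  have hfinA : Finite A := Helper84.finite_of_le hAS
  have hμconj : ∀ y ∈ P, ∀ a ∈ A, μ y * a * (μ y)⁻¹ = y * a * y⁻¹ := by
    intro y hy a ha
    have h1 : y * a * y⁻¹ ∈ A := hAn y hy a ha
    have h2 := hμA _ h1
    rw [hμ.map_mul (P.mul_mem hy (hAP ha)) (P.inv_mem hy), hμ.map_mul hy (hAP ha),
      hμ.map_inv hy, hμA a ha] at h2
    exact h2
  have hμcen : ∀ y ∈ P, y⁻¹ * μ y ∈ centralizerIn S A := by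
    intro y hy
    rw [Helper84.mem_centralizerIn]
    refine ⟨S.mul_mem (S.inv_mem (hPS hy)) (hμ.mem_S hy), fun a ha => ?_⟩
    have h1 := hμconj y hy a ha
    calc a * (y⁻¹ * μ y) = y⁻¹ * (y * a * y⁻¹) * μ y := by group
      _ = y⁻¹ * (μ y * a * (μ y)⁻¹) * μ y := by rw [h1]
      _ = y⁻¹ * μ y * a := by group
  by_cases hcase : centralizerIn S A ≤ P
  · apply hfix μ hμ _ hμA
    intro y hy
    have h1 := hcase (hμcen y hy)
    have h2 : μ y = y * (y⁻¹ * μ y) := by group
    rw [h2]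
    exact P.mul_mem hy h1
  · have hSnil : Group.IsNilpotent S := hS.isNilpotent
    have hN := (Subgroup.isNilpotent_iff_lowerCentralSeries S).1 hSnil
    have hTX : ∀ t ∈ P, ∀ x ∈ centralizerIn S A, t * x * t⁻¹ ∈ centralizerIn S A := by
      intro t ht x hx
      rw [Helper84.mem_centralizerIn] at hx ⊢
      refine ⟨S.mul_mem (S.mul_mem (hPS ht) hx.1) (S.inv_mem (hPS ht)), fun a ha => ?_⟩
      have h1 : t⁻¹ * a * t ∈ A := by
        have := hAn t⁻¹ (P.inv_mem ht) a ha
        rwa [inv_inv] at this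
      have h2 := hx.2 _ h1
      calc a * (t * x * t⁻¹) = t * ((t⁻¹ * a * t) * x) * t⁻¹ := by group
        _ = t * (x * (t⁻¹ * a * t)) * t⁻¹ := by rw [h2]
        _ = t * x * t⁻¹ * a := by group
    obtain ⟨c, hcX, hcP, hcT⟩ := climb hN (Helper84.centralizerIn_le S A) hPS hTX hcase
    have hcconj : ∀ t ∈ P, c * t * c⁻¹ ∈ P := by
      intro t ht
      have e : c * t * c⁻¹ = ⁅c, t⁆ * t := by rw [commutatorElement_def]; group
      rw [e]; exact P.mul_mem (hcT t ht) ht
    have hNS : normalizerIn S A ≤ S := Helper84.normalizerIn_le S A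
    have hfinN : Finite (normalizerIn S A) := Helper84.finite_of_le hNS
    have hNp : IsPGroup p (normalizerIn S A) := hS.to_le hNS
    have hPN : P ≤ normalizerIn S A := fun t ht => ⟨hPS ht, mem_normalizer_fin (hAn t ht)⟩
    have hcN : c ∈ normalizerIn S A := Helper84.centralizerIn_le_normalizerIn S A hcX
    obtain ⟨NN, hNN⟩ : ∃ NN : FusionSystem (normalizerIn S A), F.IsNormalizerSystem A NN :=
      ⟨_, Helper87.isNormalizerSystem_normSystem F A hAS⟩
    have hNNsat : NN.IsSaturated p := Helper84.normalizerSystem_saturated p hS F hF A hfn NN hNN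
    have hiff := Helper84.mor_normalizerSystem_iff F hAS NN hNN
    have hμN : ∀ y ∈ P, μ y ∈ normalizerIn S A := by
      intro y hy
      refine ⟨hμ.mem_S hy, mem_normalizer_fin (fun a ha => ?_)⟩
      rw [hμconj y hy a ha]; exact hAn y hy a ha
    have hμNN : Mor NN P μ := by
      rw [hiff]
      refine ⟨hμ, hPN, hμN, μ, ?_, fun x _ => rfl, fun a ha => ?_⟩
      · rw [sup_eq_left.2 hAP]; exact hμ
      · rw [hμA a ha]; exact ha
    have hμimgN : img P μ ≤ normalizerIn S A := hμNN.img_le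
    obtain ⟨P'', hconj'', hfa'', hrec''⟩ := hNNsat (img P μ) hμimgN
    obtain ⟨k', hk', hk'img⟩ := (isConj_iff NN).1 hconj''
    obtain ⟨ζ, hζ, hζimg⟩ := lemma26a hNp hfa'' hrec'' hk' hk'img
    have hcardP' : Nat.card (img P μ) = Nat.card P := hμ.card_img
    have hP'ne : img P μ ≠ normalizerIn S A := by
      intro h
      have h1 : Nat.card P < Nat.card (normalizerIn S A) :=
        card_lt_of_le_of_not_mem hPN hcN hcP
      rw [← h, hcardP'] at h1
      exact lt_irrefl _ h1
    obtain ⟨g, hg, hgP'⟩ := Helper84.exists_mem_normalizerIn_not_mem hNp hμimgN hP'ne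
    have hP'le : img P μ ≤ normalizerIn (normalizerIn S A) (img P μ) :=
      Helper84.le_normalizerIn hμimgN
    have hfinNP' : Finite (normalizerIn (normalizerIn S A) (img P μ)) :=
      Helper84.finite_of_le ((Helper84.normalizerIn_le _ _).trans hNS)
    have hcard2 : Nat.card P < Nat.card (normalizerIn (normalizerIn S A) (img P μ)) := by
      rw [← hcardP']
      exact card_lt_of_le_of_not_mem hP'le hg hgP'
    have hζF : Mor F (normalizerIn (normalizerIn S A) (img P μ)) ζ := ((hiff _ _).1 hζ).1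
    have hζE : Mor E (normalizerIn (normalizerIn S A) (img P μ)) ζ := hbig _ _ hcard2 hζF
    have hμP' : ∀ x ∈ P, μ x ∈ normalizerIn (normalizerIn S A) (img P μ) :=
      fun x hx => hP'le (hμ.apply_mem_img hx)
    have hμ'NN : Mor NN P (fun x => ζ (μ x)) := hμNN.comp hζ hμP'
    have hμ'img : img P (fun x => ζ (μ x)) = P'' := by
      rw [img_comp hμNN hζ hμP']
      exact hζimg
    suffices hsuff : Mor E P (fun x => ζ (μ x)) by
      obtain ⟨ζ', hζ', hζ'ζ⟩ := hζE.exists_inv
      have h1 := hsuff.comp hζ' (fun x hx => hζE.apply_mem_img (hμP' x hx))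
      exact h1.congr (fun x hx => hζ'ζ _ (hμP' x hx))
    obtain ⟨μ', hμ'def⟩ : ∃ μ' : Ω → Ω, μ' = fun x => ζ (μ x) := ⟨_, rfl⟩
    rw [← hμ'def] at hμ'NN hμ'img ⊢
    clear hμ'def hζE hζF hcard2 hfinNP' hP'le hgP' hg hP'ne hcardP' hζimg hζ hk'img hk' hconj''
      hμP'
    subst hμ'img
    have hμ'F : Mor F P μ' := ((hiff _ _).1 hμ'NN).1
    have hμ'A : ∀ a ∈ A, μ' a ∈ A := norm_mor_map F hAS NN hNN hμ'NN hAP
    have hμ'Aimg : img A μ' = A := (hμ'NN.res hAP).img_eq_self hμ'A
    have hAP'' : A ≤ img P μ' := by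
      intro a ha
      rw [← hμ'Aimg] at ha
      exact img_mono hμ'F hAP ha
    have hP''N : img P μ' ≤ normalizerIn S A := hμ'NN.img_le
    have hP''S : img P μ' ≤ S := hP''N.trans hNS
    have hfinP'' : Finite (img P μ') := Helper84.finite_of_le hP''S
    have hfinG'' : Finite (NN.autGroup (img P μ')) := Helper84.finite_autGroup NN hP''N
    have hautA : ∀ g ∈ NN.autGroup (img P μ'), ∀ a : img P μ', (a : Ω) ∈ A →
        ((g a : img P μ') : Ω) ∈ A := by
      intro g hg a ha
      have h1 := (mem_autGroup_iff NN hP''N g).1 hg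
      have h2 := norm_mor_map F hAS NN hNN h1 hAP'' a ha
      rwa [extFun_apply] at h2
    have hautF : ∀ g ∈ NN.autGroup (img P μ'), g ∈ F.autGroup (img P μ') := by
      intro g hg
      rw [mem_autGroup_iff F hP''S]
      exact ((hiff _ _).1 ((mem_autGroup_iff NN hP''N g).1 hg)).1
    obtain ⟨R, hR⟩ := fa_exists_sylow hfa''
    have hUp : IsPGroup p (fixer (NN.autGroup (img P μ')) {a : img P μ' | (a : Ω) ∈ A}) := by
      apply fixer_isPGroup
      intro g hg hgA m hm hgm
      have hpg' := hpg μ' hμ'F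
      rw [hμ'Aimg] at hpg'
      exact hpg' g (hautF g hg) hgA m hm hgm
    have hUnorm : (R : Subgroup (NN.autGroup (img P μ'))) ≤ Subgroup.normalizer
        (fixer (NN.autGroup (img P μ')) {a : img P μ' | (a : Ω) ∈ A} : Set _) := by
      intro r _
      apply fixer_normalizer
      · intro a ha
        exact hautA r r.2 a ha
      · intro a ha
        exact hautA _ (r⁻¹).2 a ha
    have hUR := le_sylow_of_normalized R hUp hUnorm
    obtain ⟨μinv, hμinv, -, hμinvμ, hμinvP''⟩ := hμ'NN.exists_inv_img rfl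
    have hκ : Mor NN (img P μ') (fun y => μ' (c * μinv y * c⁻¹)) := by
      have h1 : Mor NN (img P μ') (fun y => c * μinv y * c⁻¹) :=
        hμinv.comp (mor_conj NN hPN hcN) (fun y hy => (hμinvP'' y hy).1)
      exact h1.comp hμ'NN (fun y hy => hcconj _ (hμinvP'' y hy).1)
    have hκP'' : ∀ y ∈ img P μ', μ' (c * μinv y * c⁻¹) ∈ img P μ' :=
      fun y hy => hμ'NN.apply_mem_img (hcconj _ (hμinvP'' y hy).1)
    obtain ⟨α, hα, hακ⟩ := hκ.exists_aut hκP''
    have hαU : (⟨α, hα⟩ : NN.autGroup (img P μ')) ∈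
        fixer (NN.autGroup (img P μ')) {a : img P μ' | (a : Ω) ∈ A} := by
      rw [mem_fixer]
      intro a ha
      apply Subtype.ext
      show ((α a : img P μ') : Ω) = a
      rw [hακ a]
      have h1 : (a : Ω) ∈ img A μ' := by rw [hμ'Aimg]; exact ha
      obtain ⟨b, hb, hba⟩ := (hμ'NN.res hAP).mem_img.1 h1
      rw [← hba, hμinvμ b (hAP hb)]
      have h2 : c * b * c⁻¹ = b := by
        have := (Helper84.mem_centralizerIn.1 hcX).2 b hb
        calc c * b * c⁻¹ = (c * b) * c⁻¹ := rfl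
          _ = (b * c) * c⁻¹ := by rw [this]
          _ = b := by group
      rw [h2]
    obtain ⟨h, hh, hαh⟩ := (hR _).1 (hUR hαU)
    have hμ'NN' := hμ'NN
    obtain ⟨φ', hφ', hφ'μ⟩ := hμ'NN'
    have hrange : φ'.range = img P μ' := (img_eq_range φ' hφ'μ).symm
    obtain ⟨ψ, hψ, hψφ⟩ := hrec''.2 P φ' hφ' hrange
    have hcext : c ∈ extender (normalizerIn S A) P φ' := by
      apply Subgroup.subset_closure
      refine ⟨hcN, mem_normalizer_fin hcconj, h, hh, ?_⟩
      intro x hx
      rw [hφ'μ, hφ'μ]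
      show μ' (c * x * c⁻¹) = h * μ' x * h⁻¹
      have h1 := hαh ⟨μ' x, hμ'F.apply_mem_img x.2⟩
      rw [hακ] at h1
      rw [hμinvμ x x.2] at h1
      exact h1
    have hPext : P ≤ extender (normalizerIn S A) P φ' :=
      Helper84.le_extender hPN φ' (fun x => (NN.le_of_mem hφ').2 x)
    have hextN : extender (normalizerIn S A) P φ' ≤ normalizerIn S A :=
      (Helper84.extender_le_normalizerIn _ P φ').trans (Helper84.normalizerIn_le _ _)
    have hfinX : Finite (extender (normalizerIn S A) P φ') :=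
      Helper84.finite_of_le (hextN.trans hNS)
    have hcardX : Nat.card P < Nat.card (extender (normalizerIn S A) P φ') :=
      card_lt_of_le_of_not_mem hPext hcext hcP
    have hψF : ψ ∈ F.Hom (extender (normalizerIn S A) P φ') := by
      rw [hNN] at hψ
      exact hψ.1
    have hψE := hbig _ _ hcardX (mor_of_hom F hψF)
    refine (hψE.res hPext).congr ?_
    intro x hx
    rw [extFun_mem ψ (hPext hx), hψφ x hx (hPext hx)]
    exact hφ'μ ⟨x, hx⟩

end Cfsg.Agent.Lib.Helper88.Bg
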