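import Mathlib
import Cfsg.Agent.Lib.Helper88.BgC
import Cfsg.Agent.Lib.Helper87.FusionAlperin

/-!
Small abelian subgroups of the hyperfocal subgroup control fusion (Benson–Grodal–Henke,
Baccanelli–Franchi–Mainardis): a saturated subsystem `E` of a saturated fusion system `F` over
the same `p`-group that contains all maps of `F` between abelian subgroups of the hyperfocal
subgroup consisting of small elements is all of `F`.
-/

set_option autoImplicit false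

namespace Cfsg.Agent.Lib.Helper88.Bg

open Cfsg Cfsg.FusionSystem Cfsg.Agent.Lib.Helper88
open scoped commutatorElement

variable {Ω : Type*} [Group Ω] {S : Subgroup Ω}

/-- The inductive step for a subgroup `P` with a fully normalized normal subgroup `A`. -/
theorem core_fn [Finite S] {p : ℕ} [Fact p.Prime] (hS : IsPGroup p S) (E F : FusionSystem S)
    (hE : E.IsSaturated p) (hF : F.IsSaturated p) (hEF : ∀ P : Subgroup Ω, E.Hom P ⊆ F.Hom P)
    {P A : Subgroup Ω} (hPS : P ≤ S) (hAP : A ≤ P) (hfn : F.IsFullyNormalized A)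
    (hAn : ∀ t ∈ P, ∀ a ∈ A, t * a * t⁻¹ ∈ A)
    (hbig : ∀ (X : Subgroup Ω) (f : Ω → Ω), Nat.card P < Nat.card X → Mor F X f → Mor E X f)
    (hAE : ∀ f, Mor F P f → (∀ x ∈ P, f x ∈ P) → Mor E A f)
    (hfix : ∀ f, Mor F P f → (∀ x ∈ P, f x ∈ P) → (∀ a ∈ A, f a = a) → Mor E P f)
    (hpg : ∀ ψ, Mor F P ψ → ∀ g ∈ F.autGroup (img P ψ),
      (∀ a : img P ψ, (a : Ω) ∈ img A ψ → g a = a) → ∀ m : ℕ, m.Coprime p → g ^ m = 1 → g = 1) :
    ∀ f, Mor F P f → (∀ x ∈ P, f x ∈ P) → Mor E P f := by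
  classical
  intro f hf hfP
  have hAS : A ≤ S := hAP.trans hPS
  have hfinP : Finite P := Helper84.finite_of_le hPS
  have hfA : Mor E A f := hAE f hf hfP
  have hfnE : E.IsFullyNormalized A := by
    refine ⟨hAS, fun Q hQ => hfn.2 Q ?_⟩
    obtain ⟨φ, hφ, hr⟩ := hQ
    exact ⟨φ, hEF A hφ, hr⟩
  have hrecE : E.IsReceptive A :=
    ((Helper84.saturated_iff_top_fa_and_fn_receptive p hS E).1 hE).2 A hfnE
  have himgP : img P f = P := hf.img_eq_self hfP
  obtain ⟨k, hk, hkimg, hkf, -⟩ := hfA.exists_inv_img rfl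
  have hA₂P : img A f ≤ P := by
    intro y hy
    obtain ⟨a, ha, rfl⟩ := hfA.mem_img.1 hy
    exact hfP a (hAP ha)
  have hfinA₂ : Finite (img A f) := Helper84.finite_of_le hfA.img_le
  have hcond : ∀ g ∈ P, g ∈ S ∧ g ∈ Subgroup.normalizer ((img A f : Subgroup Ω) : Set Ω) ∧
      ∃ h ∈ S, ∀ x ∈ img A f, k (g * x * g⁻¹) = h * k x * h⁻¹ := by
    intro g hg
    have hg' : g ∈ img P f := by rw [himgP]; exact hg
    obtain ⟨g₀, hg₀, rfl⟩ := hf.mem_img.1 hg'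
    have hconj : ∀ x ∈ img A f, f g₀ * x * (f g₀)⁻¹ ∈ img A f ∧
        k (f g₀ * x * (f g₀)⁻¹) = g₀ * k x * g₀⁻¹ := by
      intro x hx
      obtain ⟨a, ha, rfl⟩ := hfA.mem_img.1 hx
      have h2 : g₀ * a * g₀⁻¹ ∈ A := hAn g₀ hg₀ a ha
      have h1 : f g₀ * f a * (f g₀)⁻¹ = f (g₀ * a * g₀⁻¹) := by
        rw [hf.map_mul (P.mul_mem hg₀ (hAP ha)) (P.inv_mem hg₀), hf.map_mul hg₀ (hAP ha),
          hf.map_inv hg₀]
      rw [h1, hkf _ h2, hkf a ha]
      exact ⟨hfA.apply_mem_img h2, rfl⟩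
    exact ⟨hPS hg, mem_normalizer_fin (fun x hx => (hconj x hx).1), g₀, hPS hg₀,
      fun x hx => (hconj x hx).2⟩
  obtain ⟨lam, hlam, hlamk⟩ := receptive_extend hrecE hk hkimg hcond hA₂P
  have hlamF : Mor F P lam := mor_le hEF hlam
  have hμ : Mor F P (fun x => lam (f x)) := hf.comp hlamF hfP
  have hμA : ∀ a ∈ A, lam (f a) = a := by
    intro a ha
    rw [hlamk _ (hfA.apply_mem_img ha), hkf a ha]
  have hμE := core_fixA hS E F hF hPS hAP hfn hAn hbig hfix hpg _ hμ hμA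
  obtain ⟨lam', hlam', hlam'lam⟩ := hlam.exists_inv
  have h1 := hμE.comp hlam' (fun x hx => hlam.apply_mem_img (hfP x hx))
  exact h1.congr (fun x hx => hlam'lam _ (hfP x hx))

/-- The inductive step for a fully automized subgroup `P` with a good subgroup `A`. -/
theorem core_step [Finite S] {p : ℕ} [Fact p.Prime] (hS : IsPGroup p S) (E F : FusionSystem S)
    (hE : E.IsSaturated p) (hF : F.IsSaturated p) (hEF : ∀ P : Subgroup Ω, E.Hom P ⊆ F.Hom P)
    {P A : Subgroup Ω} (hfa : F.IsFullyAutomized p P)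
    (hbig : ∀ (X : Subgroup Ω) (f : Ω → Ω), Nat.card P < Nat.card X → Mor F X f → Mor E X f)
    (hAP : A ≤ P)
    (hAT : ∀ t ∈ normalizerIn S P, ∀ a ∈ A, t * a * t⁻¹ ∈ A)
    (hApg : ∀ g ∈ F.autGroup P, (∀ a : P, (a : Ω) ∈ A → g a = a) →
      ∀ m : ℕ, m.Coprime p → g ^ m = 1 → g = 1)
    (hAE : ∀ f, Mor F P f → (∀ x ∈ P, f x ∈ P) → Mor E A f) :
    ∀ f, Mor F P f → (∀ x ∈ P, f x ∈ P) → Mor E P f := by
  classical
  have hPS : P ≤ S := hfa.1
  have hAS : A ≤ S := hAP.trans hPS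
  have hfinP : Finite P := Helper84.finite_of_le hPS
  have hfinA : Finite A := Helper84.finite_of_le hAS
  have hPNP : P ≤ normalizerIn S P := Helper84.le_normalizerIn hPS
  have step1 : ∃ ρ, Mor E P ρ ∧ F.IsFullyNormalized (img A ρ) := by
    by_cases hPeq : P = S
    · refine ⟨fun x => x, mor_id E hPS, ?_⟩
      rw [img_id]
      apply Helper87.isFullyNormalized_of_normal F hAS
      intro s hs
      have hsN : s ∈ normalizerIn S P := by
        rw [hPeq]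
        exact ⟨hs, Subgroup.le_normalizer hs⟩
      exact mem_normalizer_fin (hAT s hsN)
    · obtain ⟨Q, hQconj, hQfa, hQrec⟩ := hF A hAS
      obtain ⟨k, hk, hkimg⟩ := (isConj_iff F).1 hQconj
      obtain ⟨χ, hχ, hχimg⟩ := lemma26a hS hQfa hQrec hk hkimg
      have hNN : normalizerIn S P ≤ normalizerIn S A :=
        fun t ht => ⟨ht.1, mem_normalizer_fin (hAT t ht)⟩
      obtain ⟨g, hg, hgP⟩ := Helper84.exists_mem_normalizerIn_not_mem hS hPS hPeq
      have hfinNA : Finite (normalizerIn S A) :=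
        Helper84.finite_of_le (Helper84.normalizerIn_le S A)
      have hcard : Nat.card P < Nat.card (normalizerIn S A) :=
        card_lt_of_le_of_not_mem (hPNP.trans hNN) (hNN hg) hgP
      have hχE := hbig _ _ hcard hχ
      refine ⟨χ, hχE.res (hPNP.trans hNN), ?_⟩
      rw [hχimg]
      exact fn_of_fa_rec hS hQfa hQrec
  obtain ⟨ρ, hρ, hfn⟩ := step1
  have hρF : Mor F P ρ := mor_le hEF hρ
  obtain ⟨σ, hσ, -, hσρ, hσP⟩ := hρ.exists_inv_img rfl
  have hσF : Mor F (img P ρ) σ := mor_le hEF hσ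
  have hρA : Mor E A ρ := hρ.res hAP
  have hAstP : img A ρ ≤ img P ρ := img_mono hρF hAP
  have htr : ∀ f', Mor F (img P ρ) f' → (∀ y ∈ img P ρ, f' y ∈ img P ρ) →
      Mor F P (fun x => σ (f' (ρ x))) ∧ (∀ x ∈ P, σ (f' (ρ x)) ∈ P) := by
    intro f' hf' hf'P
    exact ⟨(hρF.comp hf' (fun x hx => hρF.apply_mem_img hx)).comp hσF
      (fun x hx => hf'P _ (hρF.apply_mem_img hx)),
      fun x hx => (hσP _ (hf'P _ (hρF.apply_mem_img hx))).1⟩
  have hback : ∀ f' : Ω → Ω, (∀ y ∈ img P ρ, f' y ∈ img P ρ) →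
      ∀ y ∈ img P ρ, ρ (σ (f' (ρ (σ y)))) = f' y := by
    intro f' hf'P y hy
    rw [(hσP y hy).2, (hσP _ (hf'P y hy)).2]
  have hAn' : ∀ t ∈ img P ρ, ∀ a ∈ img A ρ, t * a * t⁻¹ ∈ img A ρ := by
    intro t ht a ha
    obtain ⟨t₀, ht₀, rfl⟩ := hρF.mem_img.1 ht
    obtain ⟨a₀, ha₀, rfl⟩ := hρA.mem_img.1 ha
    have h1 : ρ t₀ * ρ a₀ * (ρ t₀)⁻¹ = ρ (t₀ * a₀ * t₀⁻¹) := by
      rw [hρF.map_mul (P.mul_mem ht₀ (hAP ha₀)) (P.inv_mem ht₀), hρF.map_mul ht₀ (hAP ha₀),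
        hρF.map_inv ht₀]
    rw [h1]
    exact hρA.apply_mem_img (hAT t₀ (hPNP ht₀) a₀ ha₀)
  have hbig' : ∀ (X : Subgroup Ω) (f : Ω → Ω), Nat.card (img P ρ) < Nat.card X →
      Mor F X f → Mor E X f := by
    intro X f hX hf
    rw [hρF.card_img] at hX
    exact hbig X f hX hf
  have hAE' : ∀ f', Mor F (img P ρ) f' → (∀ y ∈ img P ρ, f' y ∈ img P ρ) →
      Mor E (img A ρ) f' := by
    intro f' hf' hf'P
    obtain ⟨h1, h2⟩ := htr f' hf' hf'P
    have h3 : Mor E A (fun x => σ (f' (ρ x))) := hAE _ h1 h2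
    have h4 : Mor E (img A ρ) (fun y => ρ (σ (f' (ρ (σ y))))) := by
      have h5 : Mor E (img A ρ) (fun y => σ (f' (ρ (σ y)))) := (hσ.res hAstP).comp h3 (by
        intro y hy
        obtain ⟨a₀, ha₀, rfl⟩ := hρA.mem_img.1 hy
        rw [hσρ a₀ (hAP ha₀)]; exact ha₀)
      exact h5.comp hρ (fun y hy => h2 _ (hσP y (hAstP hy)).1)
    exact h4.congr (fun y hy => hback f' hf'P y (hAstP hy))
  have hfix' : ∀ f', Mor F (img P ρ) f' → (∀ y ∈ img P ρ, f' y ∈ img P ρ) →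
      (∀ a ∈ img A ρ, f' a = a) → Mor E (img P ρ) f' := by
    intro f' hf' hf'P hf'A
    obtain ⟨h1, h2⟩ := htr f' hf' hf'P
    have h3 : ∀ a ∈ A, σ (f' (ρ a)) = a := by
      intro a ha
      rw [hf'A _ (hρA.apply_mem_img ha), hσρ a (hAP ha)]
    obtain ⟨s, hs, hsf⟩ := fix_is_inner F hfa hAP hAT hApg h1 h2 h3
    have h4 : Mor E P (fun x => σ (f' (ρ x))) :=
      (mor_conj E hPS hs).congr (fun x hx => (hsf x hx).symm)
    have h5 : Mor E (img P ρ) (fun y => ρ (σ (f' (ρ (σ y))))) :=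
      (hσ.comp h4 (fun y hy => (hσP y hy).1)).comp hρ (fun y hy => h2 _ (hσP y hy).1)
    exact h5.congr (fun y hy => hback f' hf'P y hy)
  have hpg' : ∀ ψ, Mor F (img P ρ) ψ → ∀ g ∈ F.autGroup (img (img P ρ) ψ),
      (∀ a : img (img P ρ) ψ, (a : Ω) ∈ img (img A ρ) ψ → g a = a) →
      ∀ m : ℕ, m.Coprime p → g ^ m = 1 → g = 1 := by
    intro ψ hψ
    have h1 := pg_transport F hAP hApg (hρF.comp hψ (fun x hx => hρF.apply_mem_img hx))
    rw [img_comp hρF hψ (fun x hx => hρF.apply_mem_img hx),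
      img_comp (hρF.res hAP) hψ (fun x hx => hρF.apply_mem_img (hAP hx))] at h1
    exact h1
  have key := core_fn hS E F hE hF hEF hρF.img_le hAstP hfn hAn' hbig' hAE' hfix' hpg'
  intro f hf hfP
  have hfst : Mor F (img P ρ) (fun y => ρ (f (σ y))) :=
    (hσF.comp hf (fun y hy => (hσP y hy).1)).comp hρF (fun y hy => hfP _ (hσP y hy).1)
  have hfstP : ∀ y ∈ img P ρ, ρ (f (σ y)) ∈ img P ρ :=
    fun y hy => hρF.apply_mem_img (hfP _ (hσP y hy).1)
  have h1 := key _ hfst hfstP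
  have h2 : Mor E P (fun x => σ (ρ (f (σ (ρ x))))) :=
    (hρ.comp h1 (fun x hx => hρF.apply_mem_img hx)).comp hσ
      (fun x hx => hfstP _ (hρF.apply_mem_img hx))
  exact h2.congr (fun x hx => by rw [hσρ x hx, hσρ _ (hfP x hx)])

/-- Small abelian subgroups of the hyperfocal subgroup control fusion. -/
theorem bg_main [Finite S] {p : ℕ} [Fact p.Prime] (hS : IsPGroup p S) (E F : FusionSystem S)
    (hE : E.IsSaturated p) (hF : F.IsSaturated p) (hEF : ∀ P : Subgroup Ω, E.Hom P ⊆ F.Hom P)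
    (hsmall : ∀ (A : Subgroup Ω) (f : Ω → Ω), A ≤ F.hyperfocalSubgroup p → A ≤ S →
      (∀ a ∈ A, ∀ b ∈ A, a * b = b * a) → (∀ a ∈ A, Small p a) → Mor F A f →
      (∀ a ∈ A, f a ∈ F.hyperfocalSubgroup p) → Mor E A f) :
    ∀ P : Subgroup Ω, F.Hom P ⊆ E.Hom P := by
  apply Helper87.alperin hS F hF E
  intro R hfa hrec hcen hrad hbigR α hα
  have hRS : R ≤ S := hfa.1
  obtain ⟨A, hAR, hAc, hAsmall, hAT, hAhyp, hApg⟩ := exists_good_abelian hS F hRS
  have hbig : ∀ (X : Subgroup Ω) (f : Ω → Ω), Nat.card R < Nat.card X → Mor F X f →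
      Mor E X f := by
    intro X f hX hf
    obtain ⟨φ, hφ, hφf⟩ := hf
    exact ⟨φ, hbigR X hX hφ, hφf⟩
  have hAhyp' : A ≤ F.hyperfocalSubgroup p := by
    intro a ha
    exact hAhyp 1 (Subgroup.one_mem _) ⟨a, hAR ha⟩ ha
  have hAE : ∀ f, Mor F R f → (∀ x ∈ R, f x ∈ R) → Mor E A f := by
    intro f hf hfR
    obtain ⟨β, hβ, hβf⟩ := hf.exists_aut hfR
    apply hsmall A f hAhyp' (hAR.trans hRS) hAc hAsmall (hf.res hAR)
    intro a ha
    rw [← hβf ⟨a, hAR ha⟩]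
    exact hAhyp β hβ ⟨a, hAR ha⟩ ha
  have key := core_step hS E F hE hF hEF hfa hbig hAR hAT hApg hAE
  have hαm := (mem_autGroup_iff F hRS α).1 hα
  have h1 := key _ hαm (fun x hx => by rw [extFun_mem _ hx]; exact Subtype.property _)
  show R.subtype.comp (α : R ≃* R).toMonoidHom ∈ E.Hom R
  exact hom_of_mor h1 (fun x => by rw [extFun_apply]; rfl)

/-- The statement in the form of the hypotheses on elementary abelian subgroups (`p` odd) and
abelian subgroups of exponent dividing `4` (`p = 2`). -/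
theorem bg_final [Finite S] (p : ℕ) [Fact p.Prime] (hS : IsPGroup p S) (E F : FusionSystem S)
    (hE : E.IsSaturated p) (hF : F.IsSaturated p) (hEF : ∀ P : Subgroup Ω, E.Hom P ⊆ F.Hom P)
    (hodd : p ≠ 2 → ∀ A B : Subgroup Ω, A ≤ F.hyperfocalSubgroup p →
      B ≤ F.hyperfocalSubgroup p → A ≤ S → B ≤ S →
      Cfsg.IsElementaryAbelian p A → Cfsg.IsElementaryAbelian p B →
      E.homSet A B = F.homSet A B)
    (htwo : p = 2 → ∀ A B : Subgroup Ω, A ≤ F.hyperfocalSubgroup p →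
      B ≤ F.hyperfocalSubgroup p → A ≤ S → B ≤ S →
      IsMulCommutative ↥A → IsMulCommutative ↥B → (∀ a ∈ A, a ^ 4 = 1) → (∀ b ∈ B, b ^ 4 = 1) →
      E.homSet A B = F.homSet A B) :
    ∀ P : Subgroup Ω, E.Hom P = F.Hom P := by
  intro P
  apply Set.Subset.antisymm (hEF P)
  apply bg_main hS E F hE hF hEF
  intro A f hAhyp hAS hAc hAsmall hf hfhyp
  have hf' := hf
  obtain ⟨φ, hφ, hφf⟩ := hf'
  have hB : img A f ≤ F.hyperfocalSubgroup p := by
    intro y hy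
    obtain ⟨a, ha, rfl⟩ := hf.mem_img.1 hy
    exact hfhyp a ha
  have hBS : img A f ≤ S := hf.img_le
  have hBc : ∀ x ∈ img A f, ∀ y ∈ img A f, x * y = y * x := by
    intro x hx y hy
    obtain ⟨a, ha, rfl⟩ := hf.mem_img.1 hx
    obtain ⟨b, hb, rfl⟩ := hf.mem_img.1 hy
    rw [← hf.map_mul ha hb, ← hf.map_mul hb ha, hAc a ha b hb]
  have hBpow : ∀ n : ℕ, (∀ a ∈ A, a ^ n = 1) → ∀ y ∈ img A f, y ^ n = 1 := by
    intro n hn y hy
    obtain ⟨a, ha, rfl⟩ := hf.mem_img.1 hy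
    rw [← hφf ⟨a, ha⟩, ← map_pow]
    have h1 : (⟨a, ha⟩ : A) ^ n = 1 := Subtype.ext (hn a ha)
    rw [h1, map_one]
  have hcommA : IsMulCommutative ↥A :=
    ⟨⟨fun a b => Subtype.ext (hAc a a.2 b b.2)⟩⟩
  have hcommB : IsMulCommutative ↥(img A f) :=
    ⟨⟨fun a b => Subtype.ext (hBc a a.2 b b.2)⟩⟩
  have hφB : φ ∈ F.homSet A (img A f) :=
    ⟨hφ, fun x => by rw [hφf]; exact hf.apply_mem_img x.2⟩
  have heq : E.homSet A (img A f) = F.homSet A (img A f) := by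
    by_cases hp : p = 2
    · have h4 : ∀ a ∈ A, a ^ 4 = 1 := by
        intro a ha
        rcases hAsmall a ha with h | ⟨-, h⟩
        · rw [hp] at h
          calc a ^ 4 = (a ^ 2) ^ 2 := by rw [← pow_mul]
            _ = 1 := by rw [h, one_pow]
        · exact h
      exact htwo hp A _ hAhyp hB hAS hBS hcommA hcommB h4 (hBpow 4 h4)
    · have hpA : ∀ a ∈ A, a ^ p = 1 := by
        intro a ha
        rcases hAsmall a ha with h | ⟨h2, -⟩
        · exact h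
        · exact absurd h2 hp
      exact hodd hp A _ hAhyp hB hAS hBS ⟨hcommA, hpA⟩ ⟨hcommB, hBpow p hpA⟩
  rw [← heq] at hφB
  exact ⟨φ, hφB.1, hφf⟩

end Cfsg.Agent.Lib.Helper88.Bg
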