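import Mathlib
import Cfsg.Prelude.Def_FusionSystem
import Cfsg.Agent.Lib.Helper88.FusBasic
import Cfsg.Agent.Lib.Helper88.FusSat
import Cfsg.Agent.Lib.Helper88.GSetMarks
import Cfsg.Agent.Lib.Helper88.FGraph
import Cfsg.Agent.Lib.Helper88.Biset
import Cfsg.Agent.Lib.Helper88.BisetPerm
import Cfsg.Agent.Lib.Helper88.BisetTransfer

set_option autoImplicit false

namespace Cfsg.Agent.Lib.Helper88

open Cfsg Cfsg.FusionSystem MulAction

universe u v

variable {Ω : Type u} [Group Ω] {S : Subgroup Ω}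

/-- The left action on the set of right orbits of a biset. -/
instance rqMulAction (X : Type u) [MulAction (S × S) X] : MulAction S (RQ S X) where
  smul a := Quotient.map (fun x => ((a, (1 : S)) : S × S) • x) (by
    intro x x' hxx'
    obtain ⟨b, hb⟩ := hxx'
    refine ⟨b, ?_⟩
    rw [← hb, smul_smul, smul_smul]
    congr 1
    ext <;> simp)
  one_smul := by
    intro y
    induction y using Quotient.inductionOn with
    | _ x => exact congrArg (rq S) (one_smul (S × S) x)
  mul_smul := by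
    intro a b y
    induction y using Quotient.inductionOn with
    | _ x =>
      show rq S (((a * b, (1 : S)) : S × S) • x)
        = rq S (((a, (1 : S)) : S × S) • ((b, (1 : S)) : S × S) • x)
      rw [smul_smul]
      congr 2
      ext <;> simp

theorem smul_rq {X : Type u} [MulAction (S × S) X] (a : S) (x : X) :
    a • rq S x = rq S (((a, (1 : S)) : S × S) • x) := rfl

theorem Mor.map_zpow {F : FusionSystem S} {P : Subgroup Ω} {f : Ω → Ω} (h : Mor F P f) {x : Ω}
    (hx : x ∈ P) (k : ℤ) : f (x ^ k) = f x ^ k := by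
  obtain ⟨φ, -, hφf⟩ := h
  have h1 := hφf (⟨x, hx⟩ ^ k)
  rw [_root_.map_zpow, hφf ⟨x, hx⟩] at h1
  exact h1.symm

theorem Mor.img_zpowers {F : FusionSystem S} {P : Subgroup Ω} {f : Ω → Ω} (h : Mor F P f) {x : Ω}
    (hx : x ∈ P) : img (Subgroup.zpowers x) f = Subgroup.zpowers (f x) := by
  ext y
  rw [(h.res ((Subgroup.zpowers_le).2 hx)).mem_img]
  constructor
  · rintro ⟨_, ⟨k, rfl⟩, rfl⟩
    exact ⟨k, (h.map_zpow hx k).symm⟩
  · rintro ⟨k, rfl⟩
    exact ⟨x ^ k, ⟨k, rfl⟩, h.map_zpow hx k⟩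

theorem isConjElt_iff (F : FusionSystem S) {x y : Ω} :
    F.IsConjElt x y ↔ ∃ f, Mor F (Subgroup.zpowers x) f ∧ f x = y := by
  constructor
  · rintro ⟨φ, hφ, rfl⟩
    exact ⟨extFun φ, mor_of_hom F hφ, extFun_apply φ ⟨x, Subgroup.mem_zpowers x⟩⟩
  · rintro ⟨f, ⟨φ, hφ, hφf⟩, rfl⟩
    exact ⟨φ, hφ, hφf ⟨x, Subgroup.mem_zpowers x⟩⟩

theorem isConjElt_comp {F : FusionSystem S} {x : Ω} {f g : Ω → Ω} {P : Subgroup Ω}
    (hf : Mor F (Subgroup.zpowers x) f) (hg : Mor F P g) (hx : f x ∈ P) :
    F.IsConjElt x (g (f x)) := by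
  refine (isConjElt_iff F).2 ⟨fun a => g (f a), hf.comp hg ?_, rfl⟩
  rintro _ ⟨k, rfl⟩
  rw [hf.map_zpow (Subgroup.mem_zpowers x) k]
  exact P.zpow_mem hx k

/-- An element normalizing the group generated by an involution commutes with it. -/
theorem comm_of_mem_normalizer_zpowers {j c : Ω} (hj : orderOf j = 2)
    (hc : c ∈ Subgroup.normalizer ((Subgroup.zpowers j : Subgroup Ω) : Set Ω)) :
    c * j = j * c := by
  have h1 := (Subgroup.mem_normalizer_iff.1 hc j).1 (Subgroup.mem_zpowers j)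
  obtain ⟨k, hk⟩ := h1
  have hk' : j ^ k = c * j * c⁻¹ := hk
  have h2 : j ^ (k % 2) = c * j * c⁻¹ := by
    rw [← hk']
    have := zpow_mod_orderOf j k
    rw [hj] at this
    exact this
  rcases Int.emod_two_eq_zero_or_one k with h0 | h1
  · rw [h0, zpow_zero] at h2
    exfalso
    have hj1 : j = 1 := by
      have : c * j * c⁻¹ = c * 1 * c⁻¹ := by rw [← h2]; group
      exact mul_left_cancel (mul_right_cancel this)
    rw [hj1, orderOf_one] at hj
    omega
  · rw [h1, zpow_one] at h2
    calc c * j = c * j * c⁻¹ * c := by group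
      _ = j * c := by rw [← h2]

theorem mem_normalizer_zpowers_of_comm {s g : Ω} (h : g * s = s * g) :
    g ∈ Subgroup.normalizer ((Subgroup.zpowers s : Subgroup Ω) : Set Ω) := by
  apply Subgroup.centralizer_le_normalizer
  rw [Subgroup.mem_centralizer_iff]
  rintro _ ⟨k, rfl⟩
  have hc : Commute s g := h.symm
  exact (hc.zpow_left k).eq

open Classical in
/-- The homomorphism to the group of signs with kernel a subgroup of index two. -/
noncomputable def sgnHom {G : Type*} [Group G] (H : Subgroup G) (h2 : H.index = 2) : G →* ℤˣ where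
  toFun s := if s ∈ H then 1 else -1
  map_one' := by simp [H.one_mem]
  map_mul' a b := by
    have := Subgroup.mul_mem_iff_of_index_two h2 (a := a) (b := b)
    by_cases ha : a ∈ H <;> by_cases hb : b ∈ H <;> simp [ha, hb, this]

open Classical in
theorem sgnHom_of_mem {G : Type*} [Group G] {H : Subgroup G} (h2 : H.index = 2) {s : G}
    (hs : s ∈ H) : sgnHom H h2 s = 1 := by
  show (if s ∈ H then (1 : ℤˣ) else -1) = 1
  rw [if_pos hs]

open Classical in
theorem sgnHom_of_not_mem {G : Type*} [Group G] {H : Subgroup G} (h2 : H.index = 2) {s : G}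
    (hs : s ∉ H) : sgnHom H h2 s = -1 := by
  show (if s ∈ H then (1 : ℤˣ) else -1) = -1
  rw [if_neg hs]

theorem sgnHom_eq_one_iff {G : Type*} [Group G] {H : Subgroup G} (h2 : H.index = 2) {s : G} :
    sgnHom H h2 s = 1 ↔ s ∈ H := by
  constructor
  · intro h
    by_contra hs
    rw [sgnHom_of_not_mem h2 hs] at h
    exact absurd h (by decide)
  · exact sgnHom_of_mem h2

section Lab

variable {X : Type u} [MulAction (S × S) X] (σ : RQ S X → X) (hσ : ∀ y, rq S (σ y) = y)

/-- The label of the left translate of the representative of a right orbit. -/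
noncomputable def lab (j : S) (y : RQ S X) : S := bet σ hσ (((j, (1 : S)) : S × S) • σ y)

theorem lab_spec (j : S) (y : RQ S X) :
    ((1 : S), lab σ hσ j y) • σ (j • y) = ((j, (1 : S)) : S × S) • σ y := by
  have h := bet_spec σ hσ (((j, (1 : S)) : S × S) • σ y)
  have e : rq S (((j, (1 : S)) : S × S) • σ y) = j • y := by
    rw [← smul_rq, hσ]
  rw [e] at h
  exact h

theorem lab_unique (hfree : RightFree S X) {j : S} {y : RQ S X} {b : S}
    (h : ((1 : S), b) • σ (j • y) = ((j, (1 : S)) : S × S) • σ y) : b = lab σ hσ j y := by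
  apply bet_unique σ hσ hfree
  have e : rq S (((j, (1 : S)) : S × S) • σ y) = j • y := by
    rw [← smul_rq, hσ]
  rw [e]
  exact h

theorem sigma_smul (j : S) (y : RQ S X) :
    σ (j • y) = ((1 : S), (lab σ hσ j y)⁻¹) • ((j, (1 : S)) : S × S) • σ y := by
  rw [← lab_spec σ hσ j y, smul_smul]
  have : (((1 : S), (lab σ hσ j y)⁻¹) : S × S) * ((1 : S), lab σ hσ j y) = 1 := by
    ext <;> simp
  rw [this, one_smul]

theorem lab_smul_self (hfree : RightFree S X) {j : S} (hj : j * j = 1) (y : RQ S X) :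
    lab σ hσ j (j • y) = (lab σ hσ j y)⁻¹ := by
  symm
  apply lab_unique σ hσ hfree
  have e : j • j • y = y := by rw [← mul_smul, hj, one_smul]
  rw [e]
  conv_rhs => rw [sigma_smul σ hσ j y]
  rw [smul_smul, smul_smul]
  congr 1
  have hj' : (j : Ω) * (j : Ω) = 1 := by
    rw [← Subgroup.coe_mul, hj]; rfl
  ext
  · simp [hj']
  · simp

theorem lab_smul_of_comm (hfree : RightFree S X) {j c : S} (hcj : c * j = j * c) {y : RQ S X}
    (hy : j • y = y) :
    lab σ hσ j (c • y) = (lab σ hσ c y)⁻¹ * lab σ hσ j y * lab σ hσ c y := by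
  symm
  apply lab_unique σ hσ hfree
  have e : j • c • y = c • y := by rw [← mul_smul, ← hcj, mul_smul, hy]
  rw [e]
  have h1 := lab_spec σ hσ j y
  rw [hy] at h1
  have hcj' : (c : Ω) * (j : Ω) = (j : Ω) * (c : Ω) := by
    rw [← Subgroup.coe_mul, hcj]; rfl
  have e2 : ((j, (1 : S)) : S × S) • ((1 : S), (lab σ hσ c y)⁻¹) • ((c, (1 : S)) : S × S) • σ y
      = (((1 : S), (lab σ hσ c y)⁻¹) : S × S) • ((c, (1 : S)) : S × S)
        • ((j, (1 : S)) : S × S) • σ y := by
    rw [smul_smul, smul_smul, smul_smul, smul_smul]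
    congr 1
    ext
    · simp [hcj']
    · simp
  rw [sigma_smul σ hσ c y, e2, ← h1, smul_smul, smul_smul, smul_smul, smul_smul]
  congr 1
  ext <;> simp [mul_assoc]

theorem mem_stab_of_fixed {c : S} {y : RQ S X} (h : c • y = y) :
    (c, (lab σ hσ c y)⁻¹) ∈ stabilizer (S × S) (σ y) := by
  rw [mem_stabilizer_iff]
  have h1 := lab_spec σ hσ c y
  rw [h] at h1
  have e : ((c, (lab σ hσ c y)⁻¹) : S × S) = ((1 : S), (lab σ hσ c y)⁻¹) * (c, (1 : S)) := by
    ext <;> simp
  rw [e, mul_smul, ← h1, smul_smul]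
  have : (((1 : S), (lab σ hσ c y)⁻¹) : S × S) * ((1 : S), lab σ hσ c y) = 1 := by
    ext <;> simp
  rw [this, one_smul]

/-- The transfer of an involution: only the right orbits fixed by it contribute. -/
theorem transfer_involution [Finite X] (hfree : RightFree S X) {A : Type v} [CommGroup A]
    (ψ : S →* A) {j : S} (hj : j * j = 1) (ε : A) (hε : ε * ε = 1)
    [DecidablePred fun y : RQ S X => j • y = y] :
    transferHom σ hσ hfree ψ (leftHom S X j) * ε ^ Nat.card (RQ S X)
      = ∏ y ∈ Finset.univ.filter (fun y : RQ S X => j • y = y), (ψ (lab σ hσ j y) * ε) := by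
  classical
  rw [transferHom_apply]
  have h1 : (∏ y : RQ S X, ψ (bet σ hσ (((leftHom S X j : rightPerm S X) : Equiv.Perm X) (σ y))))
      * ε ^ Nat.card (RQ S X) = ∏ y : RQ S X, (ψ (lab σ hσ j y) * ε) := by
    rw [Finset.prod_mul_distrib, Finset.prod_const, Finset.card_univ, Nat.card_eq_fintype_card]
    rfl
  rw [h1, ← Finset.prod_filter_mul_prod_filter_not Finset.univ (fun y : RQ S X => j • y = y)]
  have h2 : ∏ y ∈ Finset.univ.filter (fun y : RQ S X => ¬ j • y = y), (ψ (lab σ hσ j y) * ε)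
      = 1 := by
    refine Finset.prod_involution (fun y _ => j • y) ?_ ?_ ?_ ?_
    · intro y _
      rw [lab_smul_self σ hσ hfree hj, map_inv]
      calc ψ (lab σ hσ j y) * ε * ((ψ (lab σ hσ j y))⁻¹ * ε)
          = (ψ (lab σ hσ j y) * (ψ (lab σ hσ j y))⁻¹) * (ε * ε) := by
            rw [mul_mul_mul_comm]
        _ = 1 := by rw [mul_inv_cancel, hε, one_mul]
    · intro y hy _
      exact (Finset.mem_filter.1 hy).2
    · intro y hy
      rw [Finset.mem_filter] at hy ⊢
      refine ⟨Finset.mem_univ _, ?_⟩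
      rw [← mul_smul, hj, one_smul]
      exact fun h => hy.2 h.symm
    · intro y _
      show j • j • y = y
      rw [← mul_smul, hj, one_smul]
  rw [h2, mul_one]

end Lab

end Cfsg.Agent.Lib.Helper88
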