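import Mathlib
import Cfsg.Prelude.Def_FusionSystem
import Cfsg.Agent.Lib.Helper88.FusBasic
import Cfsg.Agent.Lib.Helper88.BisetSat
import Cfsg.Agent.Lib.Helper88.BisetTransfer
import Cfsg.Agent.Lib.Helper88.BisetCount
import Cfsg.Agent.Lib.Helper88.BisetTw

/-!
# Control of transfer: the focal subgroup of a subsystem

For a saturated fusion system `F` over `S` and a fusion system `H ≤ F` over `S` there is a
subgroup `M` of `S` containing the focal subgroup of `H`, with `S = M foc(F)`, such that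
`foc(F) ≤ M` forces `foc(F) ≤ foc(H)`.
-/

set_option autoImplicit false

namespace Cfsg.Agent.Lib.Helper88

open Cfsg Cfsg.FusionSystem MulAction
open scoped IsMulCommutative commutatorElement

universe u v

variable {Ω : Type u} [Group Ω] {S : Subgroup Ω}

/-- For a homomorphism, the twisted transfer is the ordinary transfer times the `n`-th power. -/
theorem lam0_eq_transfer {X : Type u} [MulAction (S × S) X] [Finite X] (hfree : RightFree S X)
    (σ : RQ S X → X) (hσ : ∀ y, rq S (σ y) = y) {ft : X → S} (hf : RightEq ft)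
    {A : Type v} [CommGroup A] (ψ : S →* A) (a : S) :
    lam0 σ ft (fun s => ψ s) a
      = ψ a ^ Nat.card (RQ S X) * transferHom σ hσ hfree ψ (leftHom S X a) := by
  have h1 : ∀ y : RQ S X, cfun ft (fun s => ψ s) a (σ y)
      = ψ a * ψ (bet σ hσ (((leftHom S X a : rightPerm S X) : Equiv.Perm X) (σ y)))
        * ((ψ (ft (σ (rq S (((leftHom S X a : rightPerm S X) : Equiv.Perm X) (σ y))))))⁻¹
          * ψ (ft (σ y))) := by
    intro y
    have h2 : ft ((a, (1 : S)) • σ y)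
        = ft (σ (rq S ((a, (1 : S)) • σ y))) * (bet σ hσ ((a, (1 : S)) • σ y))⁻¹ := by
      conv_lhs => rw [← bet_spec σ hσ ((a, (1 : S)) • σ y)]
      rw [hf]
    show ψ ((ft ((a, (1 : S)) • σ y))⁻¹ * a * ft (σ y))
      = ψ a * ψ (bet σ hσ ((a, (1 : S)) • σ y))
        * ((ψ (ft (σ (rq S ((a, (1 : S)) • σ y)))))⁻¹ * ψ (ft (σ y)))
    rw [h2, map_mul, map_mul, map_inv, map_mul, map_inv, mul_inv_rev, inv_inv]
    ac_rfl
  unfold lam0
  rw [Finset.prod_congr rfl (fun y _ => h1 y), Finset.prod_mul_distrib, Finset.prod_mul_distrib,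
    Finset.prod_mul_distrib, Finset.prod_const, Finset.card_univ, ← Nat.card_eq_fintype_card,
    (bar_bijective σ hσ (leftHom S X a).2).prod_comp (fun y' => (ψ (ft (σ y')))⁻¹),
    Finset.prod_inv_distrib, inv_mul_cancel, mul_one]
  rfl

theorem derived_le_focal' (F : FusionSystem S) :
    ⁅(S : Subgroup Ω), (S : Subgroup Ω)⁆ ≤ F.focalSubgroup := by
  rw [Subgroup.commutator_le]
  intro a ha b hb
  apply Subgroup.subset_closure
  refine ⟨S, conjHom S b, ⟨a⁻¹, S.inv_mem ha⟩, F.conj_mem le_rfl hb, ?_⟩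
  show a * b * a⁻¹ * b⁻¹ = (a⁻¹)⁻¹ * (b * a⁻¹ * b⁻¹)
  group

theorem focal_le (F : FusionSystem S) : F.focalSubgroup ≤ S := by
  unfold FusionSystem.focalSubgroup
  rw [Subgroup.closure_le]
  rintro y ⟨P, φ, x, hφ, rfl⟩
  obtain ⟨hPS, hφS⟩ := F.le_of_mem hφ
  exact S.mul_mem (S.inv_mem (hPS x.2)) (hφS x)

theorem focal_mono (F H : FusionSystem S) (hHF : H.IsSubsystemOf F) :
    H.focalSubgroup ≤ F.focalSubgroup := by
  unfold FusionSystem.focalSubgroup
  apply Subgroup.closure_mono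
  rintro y ⟨P, φ, x, hφ, rfl⟩
  exact ⟨P, φ, x, hHF P hφ, rfl⟩

/-- **Control of transfer.**  For a saturated system `F` and a system `H ≤ F` over the same
`p`-group, there is a subgroup `M` of `S` containing `foc(H)`, with `S = M foc(F)`, such that
`foc(F) ≤ M` implies `foc(F) ≤ foc(H)`. -/
theorem foc_ext [Finite S] {p : ℕ} [Fact p.Prime] (hS : IsPGroup p S) (F : FusionSystem S)
    (hF : F.IsSaturated p) (H : FusionSystem S) (hHF : H.IsSubsystemOf F) :
    ∃ M : Subgroup Ω, M ≤ S ∧ H.focalSubgroup ≤ M ∧ S ≤ M ⊔ F.focalSubgroup ∧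
      (F.focalSubgroup ≤ M → F.focalSubgroup ≤ H.focalSubgroup) := by
  classical
  have hVS : F.focalSubgroup ≤ S := focal_le F
  have hWV : H.focalSubgroup ≤ F.focalSubgroup := focal_mono F H hHF
  obtain ⟨V, hVdef⟩ : ∃ V : Subgroup S, V = F.focalSubgroup.subgroupOf S := ⟨_, rfl⟩
  have hV : ∀ s : S, s ∈ V ↔ (s : Ω) ∈ F.focalSubgroup := by
    intro s
    rw [hVdef, Subgroup.mem_subgroupOf]
  obtain ⟨W, hWdef⟩ : ∃ W : Subgroup S, W = H.focalSubgroup.subgroupOf S := ⟨_, rfl⟩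
  have hW : ∀ s : S, s ∈ W ↔ (s : Ω) ∈ H.focalSubgroup := by
    intro s
    rw [hWdef, Subgroup.mem_subgroupOf]
  have hcommF : ∀ (G : FusionSystem S) (a b : S), ((a * b * a⁻¹ * b⁻¹ : S) : Ω) ∈ G.focalSubgroup := by
    intro G a b
    apply derived_le_focal' G
    have e : ((a * b * a⁻¹ * b⁻¹ : S) : Ω) = ⁅(a : Ω), (b : Ω)⁆ := by
      rw [commutatorElement_def]
      rfl
    rw [e]
    exact Subgroup.commutator_mem_commutator a.2 b.2
  have hnormal : ∀ (G : FusionSystem S) (N : Subgroup S),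
      (∀ s : S, s ∈ N ↔ (s : Ω) ∈ G.focalSubgroup) → N.Normal := by
    intro G N hN
    constructor
    intro n hn s
    have e : s * n * s⁻¹ = (s * n * s⁻¹ * n⁻¹) * n := by group
    rw [e]
    exact N.mul_mem ((hN _).2 (hcommF G s n)) hn
  have hVn : V.Normal := hnormal F V hV
  have hWn : W.Normal := hnormal H W hW
  have hcen : ∀ s : S, (QuotientGroup.mk s : S ⧸ W) ∈ Subgroup.center (S ⧸ W) := by
    intro s
    rw [Subgroup.mem_center_iff]
    intro q
    obtain ⟨g, rfl⟩ := QuotientGroup.mk_surjective q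
    rw [← QuotientGroup.mk_mul, ← QuotientGroup.mk_mul, QuotientGroup.eq, hW]
    have e : (g * s)⁻¹ * (s * g) = s⁻¹ * g⁻¹ * s⁻¹⁻¹ * g⁻¹⁻¹ := by group
    rw [e]
    exact hcommF H _ _
  let ψ : S →* Subgroup.center (S ⧸ W) := (QuotientGroup.mk' W).codRestrict _ hcen
  have hψval : ∀ s : S, ((ψ s : Subgroup.center (S ⧸ W)) : S ⧸ W) = QuotientGroup.mk s :=
    fun _ => rfl
  have hψ_one : ∀ s : S, ψ s = 1 ↔ s ∈ W := by
    intro s
    constructor
    · intro h
      have h1 := hψval s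
      rw [h] at h1
      exact (QuotientGroup.eq_one_iff s).1 h1.symm
    · intro h
      apply Subtype.ext
      rw [hψval]
      exact (QuotientGroup.eq_one_iff s).2 h
  have hexp : ∀ c : Subgroup.center (S ⧸ W), c ^ Nat.card S = 1 := by
    intro c
    obtain ⟨s, hs⟩ := QuotientGroup.mk_surjective (c : S ⧸ W)
    apply Subtype.ext
    rw [Subgroup.coe_pow, ← hs, ← QuotientGroup.mk_pow, pow_card_eq_one']
    rfl
  -- the characteristic biset
  obtain ⟨X, iX, fX, hgen, hst, -, c, hc⟩ := exists_char_biset hS F hF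
  have hn := card_rq_not_dvd hS F hF X hgen hst c hc
  have hfree : RightFree S X := genBy_rightFree hgen
  obtain ⟨ft, hf, hl⟩ := exists_leftEq hfree V (by
    intro x
    obtain ⟨P, f, ⟨φ, hφ, hφf⟩, hD⟩ := hgen x
    refine ⟨1, fun g hg => ?_⟩
    obtain ⟨h1, h2⟩ := (hD g).1 hg
    rw [mul_one, mul_inv_eq_one, QuotientGroup.eq, hV]
    have e : ((g.1⁻¹ * g.2 : S) : Ω) = ((⟨(g.1 : Ω), h1⟩ : P) : Ω)⁻¹ * φ ⟨(g.1 : Ω), h1⟩ := by
      rw [hφf, ← h2]
      rfl
    rw [e]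
    exact Subgroup.subset_closure ⟨P, φ, ⟨(g.1 : Ω), h1⟩, hφ, rfl⟩)
  let σ : RQ S X → X := fun y => Quotient.out y
  have hσ : ∀ y, rq S (σ y) = y := fun y => Quotient.out_eq y
  let τ : S →* Subgroup.center (S ⧸ W) := (transferHom σ hσ hfree ψ).comp (leftHom S X)
  have hτst : ∀ (P : Subgroup Ω) (hP : P ≤ S) (φ : P →* Ω) (_ : φ ∈ F.Hom P)
      (hφS : ∀ x : P, φ x ∈ S) (a : P), τ ⟨φ a, hφS a⟩ = τ ⟨a, hP a.2⟩ := by
    intro P hP φ hφ hφS a
    exact transfer_stable F X hst (transferHom σ hσ hfree ψ) hP hφ hφS a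
  have hτV : ∀ v ∈ V, τ v = 1 := by
    have hfocle : F.focalSubgroup ≤ (τ.ker).map S.subtype := by
      unfold FusionSystem.focalSubgroup
      rw [Subgroup.closure_le]
      rintro y ⟨P, φ, x, hφ, rfl⟩
      obtain ⟨hPS, hφS⟩ := F.le_of_mem hφ
      refine ⟨⟨x, hPS x.2⟩⁻¹ * ⟨φ x, hφS x⟩, ?_, rfl⟩
      show τ (⟨x, hPS x.2⟩⁻¹ * ⟨φ x, hφS x⟩) = 1
      rw [map_mul, map_inv, hτst P hPS φ hφ hφS x, inv_mul_cancel]
    intro v hv
    obtain ⟨w, hw, hwv⟩ := hfocle ((hV v).1 hv)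
    have : w = v := Subtype.ext hwv
    rw [← this]
    exact hw
  have hm : TwFun V (fun s => ψ s) := by
    constructor
    · intro s _ t _
      exact map_mul ψ s t
    · intro b s
      show ψ (b * s * b⁻¹) = ψ s
      rw [map_mul, map_mul, map_inv, mul_comm (ψ b), mul_assoc, mul_inv_cancel, mul_one]
  let ε : S →* Subgroup.center (S ⧸ W) := ψ ^ Nat.card (RQ S X) * τ
  have hε : ∀ a : S, ε a = ψ a ^ Nat.card (RQ S X) * τ a := fun _ => rfl
  have hεmem : ∀ a : S, ∃ t ∈ V, ε a = ψ t := by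
    intro a
    obtain ⟨t, ht, hta⟩ := lam0_mem σ hm hl a
    refine ⟨t, ht, ?_⟩
    rw [hε, ← hta, lam0_eq_transfer hfree σ hσ hf ψ a]
    rfl
  have hεV : ∀ v ∈ V, ε v = ψ v ^ Nat.card (RQ S X) := by
    intro v hv
    rw [hε, hτV v hv, mul_one]
  -- extraction of a root
  have hp : p.Prime := Fact.out
  have hcop : Nat.Coprime (Nat.card (RQ S X)) (Nat.card S) := by
    obtain ⟨k, hk⟩ := IsPGroup.iff_card.1 hS
    rw [hk]
    exact Nat.Coprime.pow_right k ((Nat.Prime.coprime_iff_not_dvd hp).2 hn).symm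
  have hroot : ∃ j : ℕ, ∀ c : Subgroup.center (S ⧸ W), c ^ (Nat.card (RQ S X) * j) = c := by
    rcases Nat.lt_or_ge 1 (Nat.card S) with h1 | h1
    · obtain ⟨j, -, hj⟩ := Nat.exists_mul_mod_eq_one_of_coprime hcop h1
      refine ⟨j, fun c => ?_⟩
      have h2 := Nat.div_add_mod (Nat.card (RQ S X) * j) (Nat.card S)
      rw [hj] at h2
      rw [← h2, pow_add, pow_mul, hexp, one_pow, one_mul, pow_one]
    · refine ⟨1, fun c => ?_⟩
      have h2 : Nat.card S = 1 := le_antisymm h1 Nat.card_pos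
      have h3 := hexp c
      rw [h2, pow_one] at h3
      rw [h3, one_pow]
  obtain ⟨j, hj⟩ := hroot
  refine ⟨(ε.ker).map S.subtype, Subgroup.map_subtype_le _, ?_, ?_, ?_⟩
  · intro w hw
    have hwS : w ∈ S := hVS (hWV hw)
    refine ⟨⟨w, hwS⟩, ?_, rfl⟩
    have hwW : (⟨w, hwS⟩ : S) ∈ W := (hW _).2 hw
    have hwV : (⟨w, hwS⟩ : S) ∈ V := (hV _).2 (hWV hw)
    rw [SetLike.mem_coe, MonoidHom.mem_ker, hεV _ hwV, (hψ_one _).2 hwW, one_pow]
  · intro s hs
    obtain ⟨t, ht, hts⟩ := hεmem ⟨s, hs⟩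
    have htj : t ^ j ∈ V := V.pow_mem ht j
    have h1 : (⟨s, hs⟩ : S) * (t ^ j)⁻¹ ∈ ε.ker := by
      rw [MonoidHom.mem_ker, map_mul, map_inv, hts, hεV _ htj, map_pow, ← pow_mul, mul_comm j,
        hj, mul_inv_cancel]
    have e : s = ((⟨s, hs⟩ : S) * (t ^ j)⁻¹ : S) * ((t ^ j : S) : Ω) := by
      rw [Subgroup.coe_mul, Subgroup.coe_inv]
      group
    rw [e]
    exact Subgroup.mul_mem_sup ⟨_, h1, rfl⟩ ((hV _).1 htj)
  · intro hle v hv
    have hvS : v ∈ S := hVS hv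
    have hvV : (⟨v, hvS⟩ : S) ∈ V := (hV _).2 hv
    obtain ⟨c, hc, hcv⟩ := hle hv
    have hcv' : c = ⟨v, hvS⟩ := Subtype.ext hcv
    rw [hcv'] at hc
    have h1 : ε ⟨v, hvS⟩ = 1 := hc
    rw [hεV _ hvV] at h1
    have h2 : ψ ⟨v, hvS⟩ = 1 := by
      rw [← hj (ψ ⟨v, hvS⟩), pow_mul, h1, one_pow]
    exact (hW _).1 ((hψ_one _).1 h2)

end Cfsg.Agent.Lib.Helper88
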