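import Mathlib
import Cfsg.Agent.Lib.Helper88.FusSat
import Cfsg.Agent.Lib.Helper88.FusCentric
import Cfsg.Agent.Lib.Helper88.FusAlp
import Cfsg.Agent.Lib.Helper88.FusGrun
import Cfsg.Agent.Lib.Helper84.FusionApps
import Cfsg.Agent.Lib.Helper85.FusionNormal
import Cfsg.Agent.Lib.Helper87.FusionAlperin

set_option autoImplicit false

namespace Cfsg.Agent.Lib.Helper88

open Cfsg Cfsg.FusionSystem

variable {Ω : Type*} [Group Ω] {S : Subgroup Ω}

/-- If the automorphisms of the fully automized, receptive, centric subgroups fix the central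
element `z`, every map of the system fixes `z`. -/
theorem fix_of_aut [Finite S] {p : ℕ} [Fact p.Prime] (hS : IsPGroup p S) {F : FusionSystem S}
    (hF : F.IsSaturated p) {z : Ω} (hzS : z ∈ S) (hzcen : ∀ g ∈ S, g * z * g⁻¹ = z)
    (haut : ∀ R : Subgroup Ω, F.IsFullyAutomized p R → F.IsReceptive R → F.IsCentric R →
      ∀ α ∈ F.autGroup R, ∀ hzR : z ∈ R, α ⟨z, hzR⟩ = ⟨z, hzR⟩) :
    ∀ (P : Subgroup Ω) (f : Ω → Ω), Mor F P f → z ∈ P → f z = z := by
  have key := Helper87.alperin hS F hF (fixSystem F z hzcen) (by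
    intro R hfa hrec hc hr _ α hα
    have hRS : R ≤ S := hc.1
    have hzR : z ∈ R := by
      apply centric_self hc
      rw [mem_centralizerIn]
      refine ⟨hzS, fun q hq => ?_⟩
      have h1 := hzcen q (hRS hq)
      calc q * z = (q * z * q⁻¹) * q := by group
        _ = z * q := by rw [h1]
    have hfix := haut R hfa hrec hc α hα hzR
    refine ⟨(Helper87.mem_autGroup_iff F hRS α).mp hα, fun x => ?_⟩
    show (x : Ω) = z ↔ ((α x : R) : Ω) = z
    constructor
    · intro h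
      have hx : x = ⟨z, hzR⟩ := Subtype.ext h
      rw [hx, hfix]
    · intro h
      have h1 : α x = α ⟨z, hzR⟩ := by rw [hfix]; exact Subtype.ext h
      exact congrArg Subtype.val (α.injective h1))
  rintro P f ⟨φ, hφ, hφf⟩ hzP
  rw [← hφf ⟨z, hzP⟩]
  exact ((key P hφ).2 ⟨z, hzP⟩).mp rfl

/-- The maps of the system fix the elements of its centre. -/
theorem center_fix [Finite S] {F : FusionSystem S} {z : Ω} (hz : z ∈ F.center) :
    ∀ (P : Subgroup Ω) (f : Ω → Ω), Mor F P f → z ∈ P → f z = z := by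
  have hZ := Helper85.isCentral_center F
  rintro P f ⟨ψ, hψ, hψf⟩ hzP
  obtain ⟨ψ₂, -, h1, h2⟩ := hZ.2 P ψ hψ
  rw [← hψf ⟨z, hzP⟩, ← h1 ⟨z, hzP⟩]
  exact h2 ⟨z, hz⟩

theorem center_le_S [Finite S] (F : FusionSystem S) : F.center ≤ S :=
  (Helper85.isCentral_center F).1

theorem central_of_center [Finite S] {F : FusionSystem S} {z : Ω} (hz : z ∈ F.center) :
    ∀ g ∈ S, g * z * g⁻¹ = z := fun g hg =>
  center_fix hz S _ (mor_conj F le_rfl hg) (center_le_S F hz)

/-- An element fixed by all maps of a saturated system lies in its centre. -/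
theorem mem_center_of_fix [Finite S] {p : ℕ} [Fact p.Prime] (hS : IsPGroup p S)
    {F : FusionSystem S} (hF : F.IsSaturated p) {z : Ω} (hzS : z ∈ S)
    (hfix : ∀ (P : Subgroup Ω) (f : Ω → Ω), Mor F P f → z ∈ P → f z = z) : z ∈ F.center := by
  have hzcen : ∀ g ∈ S, g * z * g⁻¹ = z := fun g hg => hfix S _ (mor_conj F le_rfl hg) hzS
  have hQS : Subgroup.zpowers z ≤ S := by rw [Subgroup.zpowers_le]; exact hzS
  have hcentral : F.IsCentral (Subgroup.zpowers z) := by
    apply Helper84.isCentral_of_forall_conjElt p hS F hF hQS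
    intro x hx y hxy
    obtain ⟨k, rfl⟩ := Subgroup.mem_zpowers_iff.mp hx
    obtain ⟨φ, hφ, rfl⟩ := hxy
    have hkS : z ^ k ∈ S := S.zpow_mem hzS k
    have hkcen : ∀ g ∈ S, g * z ^ k * g⁻¹ = z ^ k := by
      intro g hg
      rw [← conj_zpow, hzcen g hg]
    have h := fix_of_aut hS hF hkS hkcen (by
      intro R hfa hrec hc α hα hzR
      have hRS := hc.1
      have hzR' : z ∈ R := by
        apply centric_self hc
        rw [mem_centralizerIn]
        refine ⟨hzS, fun q hq => ?_⟩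
        have h1 := hzcen q (hRS hq)
        calc q * z = (q * z * q⁻¹) * q := by group
          _ = z * q := by rw [h1]
      have h1 := hfix R _ ((mem_autGroup_iff F hRS α).mp hα) hzR'
      rw [extFun_mem _ hzR'] at h1
      have h2 : α ⟨z, hzR'⟩ = ⟨z, hzR'⟩ := Subtype.ext h1
      have h3 : (⟨z ^ k, hzR⟩ : R) = ⟨z, hzR'⟩ ^ k := Subtype.ext (by simp)
      rw [h3, map_zpow, h2]) (Subgroup.zpowers (z ^ k)) (extFun φ) (mor_of_hom F hφ)
        (Subgroup.mem_zpowers _)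
    rw [extFun_mem _ (Subgroup.mem_zpowers _)] at h
    exact h
  have hle : Subgroup.zpowers z ≤ F.center := le_sSup hcentral
  exact hle (Subgroup.mem_zpowers z)

/-- The subsystem of the maps of `F` that, on sources of order at least `n`, fix the central
element `z` and send nothing else to it. -/
def fixSystemN [Finite S] (F : FusionSystem S) (z : Ω) (hz : ∀ g ∈ S, g * z * g⁻¹ = z) (n : ℕ) :
    FusionSystem S where
  Hom P := {φ | φ ∈ F.Hom P ∧ (n ≤ Nat.card P → ∀ x : P, (x : Ω) = z ↔ φ x = z)}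
  le_of_mem := fun h => F.le_of_mem h.1
  injective_of_mem := fun h => F.injective_of_mem h.1
  conj_mem := by
    intro P g hP hg
    refine ⟨F.conj_mem hP hg, fun _ x => ?_⟩
    show (x : Ω) = z ↔ g * (x : Ω) * g⁻¹ = z
    constructor
    · intro h; rw [h]; exact hz g hg
    · intro h
      have h1 := hz g⁻¹ (S.inv_mem hg)
      rw [inv_inv] at h1
      rw [← h1, ← h]; group
  comp_mem := by
    rintro P Q₀ φ ψ ⟨hφ, hφz⟩ ⟨hψ, hψz⟩ h
    refine ⟨F.comp_mem hφ hψ h, fun hn x => ?_⟩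
    have hfinQ : Finite Q₀ :=
      Finite.of_injective _ (Subgroup.inclusion_injective (F.le_of_mem hψ).1)
    have hinj : Function.Injective (φ.codRestrict Q₀ h) := by
      intro a b hab
      exact F.injective_of_mem hφ (congrArg Subtype.val hab)
    have hcard : Nat.card P ≤ Nat.card Q₀ := Nat.card_le_card_of_injective _ hinj
    rw [hφz hn x]
    exact hψz (hn.trans hcard) (φ.codRestrict Q₀ h x)
  inv_mem := by
    rintro P φ ⟨hφ, hφz⟩
    obtain ⟨ψ, hψ, hψφ⟩ := F.inv_mem hφ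
    refine ⟨ψ, ⟨hψ, fun hn => ?_⟩, hψφ⟩
    have hcard : Nat.card φ.range = Nat.card P :=
      (Nat.card_congr (MonoidHom.ofInjective (F.injective_of_mem hφ)).toEquiv).symm
    rw [hcard] at hn
    rintro ⟨y, x, rfl⟩
    rw [hψφ x]
    exact (hφz hn x).symm

/-- **Reduction to a subgroup of maximal normalizer moving `z`.** -/
theorem exists_max_moving [Finite S] {p : ℕ} [Fact p.Prime] (hS : IsPGroup p S)
    {F : FusionSystem S} (hF : F.IsSaturated p) {z : Ω} (hzS : z ∈ S)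
    (hzcen : ∀ g ∈ S, g * z * g⁻¹ = z)
    (hmove : ¬ ∀ (P : Subgroup Ω) (f : Ω → Ω), Mor F P f → z ∈ P → f z = z) :
    ∃ P₀ : Subgroup Ω, F.IsFullyAutomized p P₀ ∧ F.IsReceptive P₀ ∧ z ∈ P₀ ∧
      (∃ f, Mor F P₀ f ∧ (∀ x ∈ P₀, f x ∈ P₀) ∧ f z ≠ z) ∧
      ∀ (Q : Subgroup Ω) (f : Ω → Ω), Mor F Q f → (∀ x ∈ Q, f x ∈ Q) → z ∈ Q →
        Nat.card (normalizerIn S P₀) < Nat.card (normalizerIn S Q) → f z = z := by
  classical
  have hfinS' : ∀ K : Subgroup Ω, K ≤ S → Finite K := fun K hK =>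
    Finite.of_injective _ (Subgroup.inclusion_injective hK)
  have hzcent : ∀ R : Subgroup Ω, F.IsCentric R → z ∈ R := by
    intro R hc
    apply centric_self hc
    rw [mem_centralizerIn]
    refine ⟨hzS, fun q hq => ?_⟩
    have h1 := hzcen q (hc.1 hq)
    calc q * z = (q * z * q⁻¹) * q := by group
      _ = z * q := by rw [h1]
  -- the moving subgroups
  obtain ⟨Mv, hMv⟩ : ∃ Mv : Subgroup Ω → Prop, ∀ Q, Mv Q ↔
      (z ∈ Q ∧ ∃ f, Mor F Q f ∧ (∀ x ∈ Q, f x ∈ Q) ∧ f z ≠ z) := ⟨_, fun _ => Iff.rfl⟩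
  have hautMv : ∀ R : Subgroup Ω, R ≤ S → ∀ α ∈ F.autGroup R, ∀ hzR : z ∈ R,
      α ⟨z, hzR⟩ ≠ ⟨z, hzR⟩ → Mv R := by
    intro R hRS α hα hzR hne
    rw [hMv]
    refine ⟨hzR, _, (mem_autGroup_iff F hRS α).mp hα, fun x hx => ?_, ?_⟩
    · rw [extFun_mem _ hx]; exact (α ⟨x, hx⟩).2
    · rw [extFun_mem _ hzR]
      intro h
      exact hne (Subtype.ext h)
  have hex : ∃ Q, Mv Q := by
    by_contra hno
    apply hmove
    apply fix_of_aut hS hF hzS hzcen
    intro R hfa hrec hc α hα hzR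
    by_contra hne
    exact hno ⟨R, hautMv R hc.1 α hα hzR hne⟩
  -- a moving subgroup with normalizer of maximal order
  obtain ⟨Q₀, hQ₀, hQ₀max⟩ : ∃ Q₀, Mv Q₀ ∧ ∀ Q, Mv Q →
      Nat.card (normalizerIn S Q) ≤ Nat.card (normalizerIn S Q₀) := by
    have hne : ({n | ∃ Q, Mv Q ∧ Nat.card (normalizerIn S Q) = n} : Set ℕ).Nonempty := by
      obtain ⟨Q, hQ⟩ := hex
      exact ⟨_, ⟨Q, hQ, rfl⟩⟩
    have hb : BddAbove ({n | ∃ Q, Mv Q ∧ Nat.card (normalizerIn S Q) = n} : Set ℕ) := by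
      refine ⟨Nat.card S, ?_⟩
      rintro n ⟨Q, -, rfl⟩
      exact Subgroup.card_le_of_le inf_le_left
    obtain ⟨Q₀, hQ₀, hQ₀c⟩ := Nat.sSup_mem hne hb
    refine ⟨Q₀, hQ₀, fun Q hQ => ?_⟩
    rw [hQ₀c]
    exact le_csSup hb ⟨Q, hQ, rfl⟩
  have hSN : normalizerIn S S = S := by
    apply le_antisymm inf_le_left
    exact le_inf le_rfl Subgroup.le_normalizer
  by_cases hMvS : Mv S
  · -- the top group moves `z`
    obtain ⟨hfaS, hrecS⟩ := saturated_top hF
    refine ⟨S, hfaS, hrecS, hzS, ((hMv S).mp hMvS).2, ?_⟩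
    intro Q f _ _ _ hlt
    exfalso
    rw [hSN] at hlt
    exact absurd (Subgroup.card_le_of_le (inf_le_left : normalizerIn S Q ≤ S)) (not_le.mpr hlt)
  · obtain ⟨hzQ₀, f₀, hf₀, hf₀Q, hf₀z⟩ := (hMv Q₀).mp hQ₀
    have hQ₀S : Q₀ ≤ S := hf₀.le
    obtain ⟨P₀, hconj, hfa, hrec⟩ := hF Q₀ hQ₀S
    obtain ⟨k, hk, hkimg⟩ := (isConj_iff F).mp hconj
    obtain ⟨χ, hχ, hχimg⟩ := lemma26a hS hfa hrec hk hkimg
    have hQ₀N : Q₀ ≤ normalizerIn S Q₀ := le_inf hQ₀S Subgroup.le_normalizer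
    have hχQ : Mor F Q₀ χ := hχ.res hQ₀N
    have hχz : χ z = z := by
      by_contra hχne
      obtain ⟨n, hn⟩ : ∃ n : ℕ, n = Nat.card (normalizerIn S Q₀) := ⟨_, rfl⟩
      by_cases hall : ∀ R : Subgroup Ω, F.IsFullyAutomized p R → F.IsReceptive R →
          F.IsCentric R → ∀ α ∈ F.autGroup R, n ≤ Nat.card R → ∀ hzR : z ∈ R,
            α ⟨z, hzR⟩ = ⟨z, hzR⟩
      · have key := Helper87.alperin hS F hF (fixSystemN F z hzcen n) (by
          intro R hfa hrec hc hr _ α hα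
          have hRS : R ≤ S := hc.1
          have hzR : z ∈ R := hzcent R hc
          refine ⟨(Helper87.mem_autGroup_iff F hRS α).mp hα, fun hnR x => ?_⟩
          have hfix := hall R hfa hrec hc α hα hnR hzR
          show (x : Ω) = z ↔ ((α x : R) : Ω) = z
          constructor
          · intro h
            have hx : x = ⟨z, hzR⟩ := Subtype.ext h
            rw [hx, hfix]
          · intro h
            have h1 : α x = α ⟨z, hzR⟩ := by rw [hfix]; exact Subtype.ext h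
            exact congrArg Subtype.val (α.injective h1))
        obtain ⟨φ, hφ, hφf⟩ := hχ
        have h1 := ((key _ hφ).2 (le_of_eq hn) ⟨z, hQ₀N hzQ₀⟩).mp rfl
        rw [hφf] at h1
        exact hχne h1
      · push Not at hall
        obtain ⟨R, hRfa, hRrec, hRc, α, hα, hnR, hzR, hne⟩ := hall
        have hRS : R ≤ S := hRc.1
        have hMvR : Mv R := hautMv R hRS α hα hzR hne
        have h1 := hQ₀max R hMvR
        have hfinNR : Finite (normalizerIn S R) := hfinS' _ inf_le_left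
        have hRN : R ≤ normalizerIn S R := le_inf hRS Subgroup.le_normalizer
        have h2 : Nat.card (normalizerIn S R) ≤ Nat.card R := by rw [← hn] at h1; exact h1.trans hnR
        have h3 : R = normalizerIn S R := Subgroup.eq_of_le_of_card_ge hRN h2
        have hRtop : R = S := by
          by_contra hRne
          have hlt : R < S := lt_of_le_of_ne hRS hRne
          have h4 := normalizer_grow hS le_rfl hlt
          have h5 : S ⊓ Subgroup.normalizer (R : Set Ω) = normalizerIn S R := rfl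
          rw [h5, ← h3] at h4
          exact lt_irrefl _ h4
        rw [hRtop] at hMvR
        exact hMvS hMvR
    obtain ⟨χ', hχ', hχ'img, hχ'1, hχ'2⟩ := hχQ.exists_inv_img hχimg
    have hzP₀ : z ∈ P₀ := by
      rw [← hχimg, ← hχz]
      exact hχQ.apply_mem_img hzQ₀
    have hf₁ : Mor F P₀ (fun y => χ (f₀ (χ' y))) :=
      (hχ'.comp hf₀ (fun y hy => (hχ'2 y hy).1)).comp hχQ (fun y hy => hf₀Q _ (hχ'2 y hy).1)
    have hf₁P : ∀ y ∈ P₀, χ (f₀ (χ' y)) ∈ P₀ := fun y hy => by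
      rw [← hχimg]; exact hχQ.apply_mem_img (hf₀Q _ (hχ'2 y hy).1)
    have hf₁z : χ (f₀ (χ' z)) ≠ z := by
      have h1 : χ' z = z := by
        have := hχ'1 z hzQ₀
        rw [hχz] at this
        exact this
      rw [h1]
      intro h
      have h2 : χ (f₀ z) = χ z := by rw [h, hχz]
      exact hf₀z (hχQ.inj (hf₀Q z hzQ₀) hzQ₀ h2)
    have hfn : F.IsFullyNormalized P₀ := fn_of_fa_rec hS hfa hrec
    have hcard : Nat.card (normalizerIn S Q₀) ≤ Nat.card (normalizerIn S P₀) :=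
      hfn.2 Q₀ ((isConj_iff F).mpr ⟨χ', hχ', hχ'img⟩)
    refine ⟨P₀, hfa, hrec, hzP₀, ⟨_, hf₁, hf₁P, hf₁z⟩, ?_⟩
    intro Q f hf hfQ hzQ hlt
    by_contra hne
    have hMvQ : Mv Q := (hMv Q).mpr ⟨hzQ, f, hf, hfQ, hne⟩
    exact absurd ((hQ₀max Q hMvQ).trans hcard) (not_le.mpr hlt)

end Cfsg.Agent.Lib.Helper88
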