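import Mathlib
import Cfsg.Agent.Lib.Helper88.LocalGroup
import Cfsg.Agent.Lib.Helper88.MaxNorm
import Cfsg.Agent.Lib.Helper88.FusPAut
import Cfsg.Agent.Lib.Helper87.GTc
import Cfsg.Agent.Lib.Helper87.ThJ
import Cfsg.Agent.Lib.Helper38.WcLocal

set_option autoImplicit false

namespace Cfsg.Agent.Lib.Helper88

open Cfsg Cfsg.FusionSystem

universe u

/-- The Thompson subgroup of the image of an injective homomorphism. -/
theorem mem_thompson_range {Ω X : Type u} [Group Ω] [Group X] (p : ℕ) [Fact p.Prime]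
    {T : Subgroup Ω} (θ : T →* X) (hθ : Function.Injective θ) (y : X) :
    y ∈ thompsonSubgroupAOf θ.range ↔ ∃ t : T, (t : Ω) ∈ thompsonSubgroupAOf T ∧ θ t = y := by
  have h1 : thompsonSubgroupAOf ((⊤ : Subgroup T).map θ) =
      (thompsonSubgroupAOf (⊤ : Subgroup T)).map θ :=
    Helper34.JOf_map_of_injective (Helper34.thompsonLike_ab p) θ hθ (⊤ : Subgroup T)
  have h2 : (⊤ : Subgroup T).map θ = θ.range := (MonoidHom.range_eq_map θ).symm
  have h3 := Helper38.Wc.thompson_subgroupOf_map p (le_refl T)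
  rw [Subgroup.subgroupOf_self] at h3
  rw [h2] at h1
  rw [h1, Subgroup.mem_map]
  constructor
  · rintro ⟨t, ht, rfl⟩
    refine ⟨t, ?_, rfl⟩
    rw [← h3]
    exact ⟨t, ht, rfl⟩
  · rintro ⟨t, ht, rfl⟩
    refine ⟨t, ?_, rfl⟩
    rw [← h3] at ht
    obtain ⟨t', ht', h4⟩ := ht
    have : t' = t := Subtype.ext h4
    rw [← this]
    exact ht'

/-- **Glauberman's theorem for fusion systems** (`Z(N_F(J(S)))` and `Z(F)`). -/
theorem glauberman_center {Ω : Type u} [Group Ω] {S : Subgroup Ω} [Finite S] (p : ℕ)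
    [Fact p.Prime] (hS : IsPGroup p S) (F : FusionSystem S) (hF : F.IsSaturated p)
    (N : FusionSystem (normalizerIn S (thompsonSubgroupAOf S)))
    (hN : F.IsNormalizerSystem (thompsonSubgroupAOf S) N) :
    Subgroup.closure ((fun z : Ω => z ^ p) ''
      ((S ⊓ Subgroup.centralizer (S : Set Ω) : Subgroup Ω) : Set Ω)) ⊓ N.center ≤ F.center ∧
    (p ≠ 2 ∨ F.IsSectionFree p (Equiv.Perm (Fin 4)) → N.center = F.center) := by
  classical
  have hfinS' : ∀ K : Subgroup Ω, K ≤ S → Finite K := fun K hK =>
    Finite.of_injective _ (Subgroup.inclusion_injective hK)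
  have hJS : (thompsonSubgroupAOf S) ≤ S := Helper87.thompson_le_self S
  have hSnJ : S ≤ Subgroup.normalizer ((thompsonSubgroupAOf S) : Set Ω) :=
    Subgroup.le_normalizer.trans (Helper87.normalizer_le_normalizer_thompson S)
  have hNJ : normalizerIn S (thompsonSubgroupAOf S) = S := le_antisymm inf_le_left (le_inf le_rfl hSnJ)
  have hfinNJ : Finite (normalizerIn S (thompsonSubgroupAOf S)) := hfinS' _ inf_le_left
  have hJN : (thompsonSubgroupAOf S) ≤ normalizerIn S (thompsonSubgroupAOf S) := by rw [hNJ]; exact hJS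
  have hJfn : F.IsFullyNormalized (thompsonSubgroupAOf S) := by
    refine ⟨hJS, fun Q _ => ?_⟩
    rw [hNJ]
    exact Subgroup.card_le_of_le inf_le_left
  have hNsat : N.IsSaturated p := Helper84.normalizerSystem_saturated p hS F hF (thompsonSubgroupAOf S) hJfn N hN
  have hSNJ : IsPGroup p (normalizerIn S (thompsonSubgroupAOf S)) := hS.to_le inf_le_left
  have hNmor := Helper84.mor_normalizerSystem_iff F hJS N hN
  have hcenS : ∀ x ∈ N.center, x ∈ S := fun x hx => by
    have := center_le_S N hx
    rw [hNJ] at this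
    exact this
  have hcen : ∀ x ∈ N.center, ∀ g ∈ S, g * x * g⁻¹ = x := fun x hx g hg =>
    central_of_center hx g (by rw [hNJ]; exact hg)
  constructor
  · -- `p`-th powers
    intro x hx
    obtain ⟨hxV0, hxN⟩ := Subgroup.mem_inf.mp hx
    have hxS : x ∈ S := hcenS x hxN
    have hzcen := hcen x hxN
    have hxV : x ∈ powerClosure p 1 (S ⊓ Subgroup.centralizer (S : Set Ω)) := by
      have hset : ((fun z : Ω => z ^ p) ''
          ((S ⊓ Subgroup.centralizer (S : Set Ω) : Subgroup Ω) : Set Ω)) =
          {y : Ω | ∃ x ∈ (S ⊓ Subgroup.centralizer (S : Set Ω) : Subgroup Ω), y = x ^ (p ^ 1)} := by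
        ext y
        constructor
        · rintro ⟨z, hz, rfl⟩
          exact ⟨z, hz, by rw [pow_one]⟩
        · rintro ⟨z, hz, rfl⟩
          exact ⟨z, hz, by simp⟩
      unfold powerClosure
      rw [← hset]
      exact hxV0
    have h := Helper87.gen_main p (Helper87.mu F) S F inferInstance hS hF rfl
      (fixSystem F x hzcen) ?_ ?_
    · apply mem_center_of_fix hS hF hxS
      rintro P f ⟨φ, hφ, hφf⟩ hxP
      rw [← hφf ⟨x, hxP⟩]
      exact ((h P hφ).2 ⟨x, hxP⟩).mp rfl
    · rintro P φ ⟨hφ, hPle, hφc, ψ, hψ, hψφ, hψQ⟩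
      refine ⟨hφ, fun y => ?_⟩
      have hψx := hψQ ⟨x, hxV⟩
      constructor
      · intro hy
        rw [← hψφ y]
        have h1 : Subgroup.inclusion (le_sup_left : P ≤ P ⊔ powerClosure p 1
            (S ⊓ Subgroup.centralizer (S : Set Ω))) y = Subgroup.inclusion le_sup_right
            (⟨x, hxV⟩ : powerClosure p 1 (S ⊓ Subgroup.centralizer (S : Set Ω))) :=
          Subtype.ext hy
        rw [h1]
        exact hψx
      · intro hy
        rw [← hψφ y] at hy
        have h1 := F.injective_of_mem hψ (hy.trans hψx.symm)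
        exact congrArg Subtype.val h1
    · rintro P φ hφ
      have hφN : φ ∈ N.Hom P := by rw [hN P]; exact hφ
      refine ⟨hφ.1, fun y => ?_⟩
      constructor
      · intro hy
        have hxP : x ∈ P := by rw [← hy]; exact y.2
        have h1 := center_fix hxN P _ (mor_of_hom N hφN) hxP
        rw [extFun_mem _ hxP] at h1
        have h2 : y = ⟨x, hxP⟩ := Subtype.ext hy
        rw [h2]
        exact h1
      · intro hy
        obtain ⟨ψ, hψ, hψφ⟩ := N.inv_mem hφN
        have hxr : x ∈ φ.range := ⟨y, hy⟩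
        have h1 := center_fix hxN φ.range _ (mor_of_hom N hψ) hxr
        rw [extFun_mem _ hxr] at h1
        have h2 := hψφ y
        have h3 : (⟨φ y, ⟨y, rfl⟩⟩ : φ.range) = ⟨x, hxr⟩ := Subtype.ext hy
        rw [h3, h1] at h2
        exact h2.symm
  · intro hcase
    apply le_antisymm
    · -- the main inclusion
      intro x hxN
      have hxS : x ∈ S := hcenS x hxN
      have hzcen := hcen x hxN
      by_contra hxF
      have hmove : ¬ ∀ (P : Subgroup Ω) (f : Ω → Ω), Mor F P f → x ∈ P → f x = x :=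
        fun hfix => hxF (mem_center_of_fix hS hF hxS hfix)
      obtain ⟨P₀, hfa, hrec, hxP₀, ⟨f₀, hf₀, hf₀P, hf₀x⟩, hmax⟩ :=
        exists_max_moving hS hF hxS hzcen hmove
      have hP₀S : P₀ ≤ S := hrec.1
      have hP₀T : P₀ ≤ normalizerIn S P₀ := Helper84.le_normalizerIn hP₀S
      obtain ⟨X, hXg, hXf, θ, hθinj, hidx, hnormal, haut, hfus, hsf⟩ :=
        local_group p hS F hF hfa hrec (Equiv.Perm (Fin 4))
      have hTS : normalizerIn S P₀ ≤ S := inf_le_left
      have hfinT : Finite (normalizerIn S P₀) := hfinS' _ hTS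
      have hJ₁T : thompsonSubgroupAOf (normalizerIn S P₀) ≤ normalizerIn S P₀ :=
        Helper87.thompson_le_self _
      have hxT : x ∈ normalizerIn S P₀ := hP₀T hxP₀
      have hxJ₁ : x ∈ thompsonSubgroupAOf (normalizerIn S P₀) := by
        apply Helper87.centralizer_thompson_le hxT
        intro j hj
        have h1 := hzcen j (hTS (hJ₁T hj))
        calc j * x = (j * x * j⁻¹) * j := by group
          _ = x * j := by rw [h1]
      -- automorphisms of the Thompson subgroup of `T` fix `x`
      have hK : ∀ f, Mor F (thompsonSubgroupAOf (normalizerIn S P₀)) f →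
          (∀ u ∈ thompsonSubgroupAOf (normalizerIn S P₀),
            f u ∈ thompsonSubgroupAOf (normalizerIn S P₀)) → f x = x := by
        intro f hf hfJ
        by_contra hne
        have h1 : ¬ Nat.card (normalizerIn S P₀) <
            Nat.card (normalizerIn S (thompsonSubgroupAOf (normalizerIn S P₀))) :=
          fun hlt => hne (hmax _ f hf hfJ hxJ₁ hlt)
        have hTle : normalizerIn S P₀ ≤
            normalizerIn S (thompsonSubgroupAOf (normalizerIn S P₀)) :=
          le_inf hTS (Subgroup.le_normalizer.trans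
            (Helper87.normalizer_le_normalizer_thompson _))
        have hfinNJ₁ : Finite (normalizerIn S (thompsonSubgroupAOf (normalizerIn S P₀))) :=
          hfinS' _ inf_le_left
        have h2 : normalizerIn S P₀ =
            normalizerIn S (thompsonSubgroupAOf (normalizerIn S P₀)) :=
          Subgroup.eq_of_le_of_card_ge hTle (not_lt.mp h1)
        have hTtop : normalizerIn S P₀ = S := by
          by_contra hTne
          have hlt : normalizerIn S P₀ < S := lt_of_le_of_ne hTS hTne
          have h4 := normalizer_grow hS le_rfl hlt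
          have h5 : S ⊓ Subgroup.normalizer ((normalizerIn S P₀ : Subgroup Ω) : Set Ω) ≤
              normalizerIn S (thompsonSubgroupAOf (normalizerIn S P₀)) :=
            inf_le_inf_left S (Helper87.normalizer_le_normalizer_thompson _)
          rw [← h2] at h5
          exact lt_irrefl _ (lt_of_lt_of_le h4 h5)
        rw [hTtop] at hf hfJ hxJ₁
        have hfN : Mor N (thompsonSubgroupAOf S) f := by
          rw [hNmor]
          refine ⟨hf, hJN, fun u hu => hJN (hfJ u hu), f, ?_, fun _ _ => rfl, hfJ⟩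
          rw [sup_idem]
          exact hf
        exact hne (center_fix hxN (thompsonSubgroupAOf S) f hfN hxJ₁)
      -- the local theorem
      have hcase' : p ≠ 2 ∨ ¬ Involves (Equiv.Perm (Fin 4)) X := by
        rcases hcase with h | h
        · exact Or.inl h
        · exact Or.inr (hsf h)
      have hTp : IsPGroup p ↥(normalizerIn S P₀) := hS.to_le hTS
      have hθp : IsPGroup p θ.range :=
        hTp.of_surjective θ.rangeRestrict θ.rangeRestrict_surjective
      obtain ⟨QX, hQXdef⟩ : ∃ QX : Subgroup X,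
          QX = (P₀.subgroupOf (normalizerIn S P₀)).map θ := ⟨_, rfl⟩
      have hQXmem : ∀ y : X, y ∈ QX ↔ ∃ (x' : Ω) (hx' : x' ∈ P₀), θ ⟨x', hP₀T hx'⟩ = y := by
        intro y
        rw [hQXdef, Subgroup.mem_map]
        constructor
        · rintro ⟨t, ht, rfl⟩
          exact ⟨t, Subgroup.mem_subgroupOf.mp ht, rfl⟩
        · rintro ⟨x', hx', rfl⟩
          exact ⟨⟨x', hP₀T hx'⟩, Subgroup.mem_subgroupOf.mpr hx', rfl⟩
      have hQXn : QX.Normal := by
        constructor
        intro n hn g
        obtain ⟨x', hx', rfl⟩ := (hQXmem n).mp hn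
        obtain ⟨y, hy, h1⟩ := hnormal g x' hx'
        rw [h1]
        exact (hQXmem _).mpr ⟨y, hy, rfl⟩
      have hQXp : IsPGroup p QX := by
        rw [hQXdef]
        exact (hTp.to_subgroup _).map θ
      have hxQ : θ ⟨x, hxT⟩ ∈ QX := (hQXmem _).mpr ⟨x, hxP₀, rfl⟩
      have hxcT : θ ⟨x, hxT⟩ ∈ Subgroup.centralizer (θ.range : Set X) := by
        rw [Subgroup.mem_centralizer_iff]
        rintro _ ⟨t, rfl⟩
        rw [← map_mul, ← map_mul]
        congr 1
        apply Subtype.ext
        show (t : Ω) * x = x * (t : Ω)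
        have h1 := hzcen t (hTS t.2)
        calc (t : Ω) * x = ((t : Ω) * x * (t : Ω)⁻¹) * t := by group
          _ = x * t := by rw [h1]
      have hNJ' : Subgroup.normalizer ((thompsonSubgroupAOf θ.range : Subgroup X) : Set X) ≤
          Subgroup.centralizer ({θ ⟨x, hxT⟩} : Set X) := by
        intro m hm
        have hmJ : ∀ u : ↥(thompsonSubgroupAOf (normalizerIn S P₀)),
            m * θ ⟨u, hJ₁T u.2⟩ * m⁻¹ ∈ thompsonSubgroupAOf θ.range := by
          intro u
          apply (Subgroup.mem_normalizer_iff.mp hm _).mp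
          exact (mem_thompson_range p θ hθinj _).mpr ⟨⟨u, hJ₁T u.2⟩, u.2, rfl⟩
        obtain ⟨f, hf, hfθ⟩ := hfus m _ hJ₁T
          (fun u => Helper87.thompson_le_self _ (hmJ u))
        have hfJ : ∀ u ∈ thompsonSubgroupAOf (normalizerIn S P₀),
            f u ∈ thompsonSubgroupAOf (normalizerIn S P₀) := by
          intro u hu
          obtain ⟨hfu, h1⟩ := hfθ u hu
          have h2 := hmJ ⟨u, hu⟩
          rw [← h1] at h2
          obtain ⟨t, ht, h3⟩ := (mem_thompson_range p θ hθinj _).mp h2
          have h4 : t = ⟨f u, hfu⟩ := hθinj h3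
          rw [h4] at ht
          exact ht
        have hfx := hK f hf hfJ
        obtain ⟨hfu, h1⟩ := hfθ x hxJ₁
        rw [Subgroup.mem_centralizer_iff]
        intro y hy
        rw [Set.mem_singleton_iff] at hy
        subst hy
        have h2 : θ ⟨f x, hfu⟩ = θ ⟨x, hxT⟩ := by
          congr 1
          exact Subtype.ext hfx
        rw [h2] at h1
        calc θ ⟨x, hxT⟩ * m = (m * θ ⟨x, hxT⟩ * m⁻¹) * m := by rw [← h1]
          _ = m * θ ⟨x, hxT⟩ := by group
      have hloc := Helper38.Wc.local_thm p (Nat.card X) X rfl hcase' θ.range QX hθp hidx hQXn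
        hQXp (orderOf (θ ⟨x, hxT⟩)) (θ ⟨x, hxT⟩) rfl hxQ hxcT hNJ'
      -- contradiction with the automorphism moving `x`
      obtain ⟨α, hα, hαf⟩ := hf₀.exists_aut hf₀P
      obtain ⟨m, hm⟩ := haut α hα
      have h1 := hm ⟨x, hxP₀⟩
      rw [hloc m] at h1
      have h2 := congrArg Subtype.val (hθinj h1)
      apply hf₀x
      rw [← hαf ⟨x, hxP₀⟩]
      exact h2
    · intro x hxF
      have hxS : x ∈ S := center_le_S F hxF
      apply mem_center_of_fix hSNJ hNsat (by rw [hNJ]; exact hxS)
      intro P f hf hxP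
      exact center_fix hxF P f ((hNmor P f).mp hf).1 hxP

/-- A fusion system transported along an equality of the underlying subgroups. -/
theorem exists_transport {Ω : Type u} [Group Ω] {S : Subgroup Ω} (F : FusionSystem S)
    (S' : Subgroup Ω) (h : S = S') : ∃ C : FusionSystem S', ∀ P, C.Hom P = F.Hom P := by
  subst h
  exact ⟨F, fun _ => rfl⟩

/-- **Thompson's normal `p`-complement theorem for fusion systems.** -/
theorem thompson_inner {Ω : Type u} [Group Ω] {S : Subgroup Ω} [Finite S] (p : ℕ)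
    [Fact p.Prime] (hS : IsPGroup p S) (F : FusionSystem S) (hF : F.IsSaturated p)
    (hp : p ≠ 2 ∨ F.IsSectionFree p (Equiv.Perm (Fin 4)))
    (hC : ∀ C : FusionSystem (centralizerIn S (S ⊓ Subgroup.centralizer (S : Set Ω))),
      F.IsCentralizerSystem (S ⊓ Subgroup.centralizer (S : Set Ω)) C → ∀ P : Subgroup Ω,
        C.Hom P = (innerFusionSystem
          (centralizerIn S (S ⊓ Subgroup.centralizer (S : Set Ω)))).Hom P)
    (hN : ∀ N : FusionSystem (normalizerIn S (thompsonSubgroupAOf S)),
      F.IsNormalizerSystem (thompsonSubgroupAOf S) N → ∀ P : Subgroup Ω,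
        N.Hom P = (innerFusionSystem (normalizerIn S (thompsonSubgroupAOf S))).Hom P) :
    ∀ P : Subgroup Ω, F.Hom P = (innerFusionSystem S).Hom P := by
  classical
  have hfinS' : ∀ K : Subgroup Ω, K ≤ S → Finite K := fun K hK =>
    Finite.of_injective _ (Subgroup.inclusion_injective hK)
  have hJS : thompsonSubgroupAOf S ≤ S := Helper87.thompson_le_self S
  have hSnJ : S ≤ Subgroup.normalizer (thompsonSubgroupAOf S : Set Ω) :=
    Subgroup.le_normalizer.trans (Helper87.normalizer_le_normalizer_thompson S)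
  have hNJ : normalizerIn S (thompsonSubgroupAOf S) = S :=
    le_antisymm inf_le_left (le_inf le_rfl hSnJ)
  have hfinNJ : Finite (normalizerIn S (thompsonSubgroupAOf S)) := hfinS' _ inf_le_left
  have hJfn : F.IsFullyNormalized (thompsonSubgroupAOf S) := by
    refine ⟨hJS, fun Q _ => ?_⟩
    rw [hNJ]
    exact Subgroup.card_le_of_le inf_le_left
  obtain ⟨N, hNs⟩ : ∃ N : FusionSystem (normalizerIn S (thompsonSubgroupAOf S)),
      F.IsNormalizerSystem (thompsonSubgroupAOf S) N :=
    ⟨_, Helper87.isNormalizerSystem_normSystem F (thompsonSubgroupAOf S) hJS⟩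
  have hNin := hN N hNs
  have hNsat : N.IsSaturated p :=
    Helper84.normalizerSystem_saturated p hS F hF (thompsonSubgroupAOf S) hJfn N hNs
  have hSNJ : IsPGroup p (normalizerIn S (thompsonSubgroupAOf S)) := hS.to_le inf_le_left
  have hg := (glauberman_center p hS F hF N hNs).2 hp
  have hcomm : ∀ x ∈ S ⊓ Subgroup.centralizer (S : Set Ω), ∀ g ∈ S, g * x * g⁻¹ = x := by
    intro x hx g hgS
    have h1 := Subgroup.mem_centralizer_iff.mp (Subgroup.mem_inf.mp hx).2 g hgS
    calc g * x * g⁻¹ = (x * g) * g⁻¹ := by rw [h1]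
      _ = x := by group
  have hZF : S ⊓ Subgroup.centralizer (S : Set Ω) ≤ F.center := by
    intro x hx
    rw [← hg]
    apply mem_center_of_fix hSNJ hNsat (by rw [hNJ]; exact (Subgroup.mem_inf.mp hx).1)
    rintro P f ⟨φ, hφ, hφf⟩ hxP
    rw [hNin P] at hφ
    obtain ⟨-, g, hgN, hgφ⟩ := hφ
    rw [← hφf ⟨x, hxP⟩, hgφ]
    exact hcomm x hx g (Subgroup.mem_inf.mp hgN).1
  have hCS : S = centralizerIn S (S ⊓ Subgroup.centralizer (S : Set Ω)) := by
    apply le_antisymm _ inf_le_left
    refine le_inf le_rfl ?_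
    intro s hs
    rw [Subgroup.mem_centralizer_iff]
    intro z hz
    have h1 := hcomm z hz s hs
    calc z * s = (s * z * s⁻¹) * s := by rw [h1]
      _ = s * z := by group
  obtain ⟨C, hCeq⟩ := exists_transport F _ hCS
  have hCsys : F.IsCentralizerSystem (S ⊓ Subgroup.centralizer (S : Set Ω)) C := by
    intro P
    rw [hCeq P]
    ext φ
    constructor
    · intro hφ
      have hle := F.le_of_mem hφ
      refine ⟨hφ, ?_, ?_, ?_⟩
      · rw [← hCS]; exact hle.1
      · intro x; rw [← hCS]; exact hle.2 x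
      · obtain ⟨ψ, hψ, h1, h2⟩ := (Helper85.isCentral_center F).2 P φ hφ
        have hsup : P ⊔ (S ⊓ Subgroup.centralizer (S : Set Ω)) ≤ P ⊔ F.center :=
          sup_le_sup_left hZF P
        refine ⟨ψ.comp (Subgroup.inclusion hsup), Helper84.res_mem F hψ hsup, ?_, ?_⟩
        · intro x
          exact h1 x
        · intro x
          exact h2 ⟨x, hZF x.2⟩
    · intro hφ
      exact hφ.1
  have hCin := hC C hCsys
  intro P
  ext φ
  constructor
  · intro hφ
    have h1 : φ ∈ C.Hom P := by rw [hCeq P]; exact hφ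
    rw [hCin P] at h1
    obtain ⟨-, g, hgC, hgφ⟩ := h1
    exact ⟨(F.le_of_mem hφ).1, g, (Subgroup.mem_inf.mp hgC).1, hgφ⟩
  · intro hφ
    exact inner_le F P hφ

end Cfsg.Agent.Lib.Helper88
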