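import Mathlib
import Cfsg.Agent.Lib.Helper88.IsoB
import Cfsg.Agent.S5132

set_option autoImplicit false

namespace Cfsg.Agent.Lib.Helper88

open Cfsg Cfsg.FusionSystem

section

variable {Ω : Type*} [Group Ω] {Ω₁ : Type*} [Group Ω₁]

/-- Extension by `1` of a function on a subgroup with values in another group. -/
noncomputable def tfun {S : Subgroup Ω} (θ : S → Ω₁) : Ω → Ω₁ :=
  fun x => by classical exact if h : x ∈ S then θ ⟨x, h⟩ else 1

theorem tfun_mem {S : Subgroup Ω} (θ : S → Ω₁) {x : Ω} (hx : x ∈ S) : tfun θ x = θ ⟨x, hx⟩ := by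
  unfold tfun
  simp [hx]

theorem tfun_apply {S : Subgroup Ω} (θ : S → Ω₁) (s : S) : tfun θ (s : Ω) = θ s :=
  tfun_mem θ s.2

variable {S : Subgroup Ω} {S₁ : Subgroup Ω₁}

/-- A factor system, at the level of functions. -/
structure FacData (F : FusionSystem S) (Z : Subgroup Ω) (q : Ω → Ω₁) (E : FusionSystem S₁) :
    Prop where
  mem : ∀ x ∈ S, q x ∈ S₁
  surj : ∀ y ∈ S₁, ∃ x ∈ S, q x = y
  mul : MulOn S q
  ker : ∀ x ∈ S, q x = 1 ↔ x ∈ Z
  down : ∀ (P : Subgroup Ω) (f : Ω → Ω), Mor F P f →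
    ∃ f' : Ω₁ → Ω₁, Mor E (imgX P q) f' ∧ ∀ x ∈ P, f' (q x) = q (f x)
  up : ∀ (P' : Subgroup Ω₁) (f' : Ω₁ → Ω₁), Mor E P' f' →
    ∃ (R : Subgroup Ω) (f : Ω → Ω), Mor F R f ∧ (∀ x, x ∈ R ↔ x ∈ S ∧ q x ∈ P') ∧
      ∀ x ∈ R, f' (q x) = q (f x)

theorem facData_of_factor [Finite S] (p : ℕ) [Fact p.Prime] (hS : IsPGroup p S)
    {F : FusionSystem S} (hF : F.IsSaturated p) {Z : Subgroup Ω} (hZ : F.StronglyClosed Z)
    {π : S →* Ω₁} {E : FusionSystem S₁} (h : F.IsFactorSystem Z π E) :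
    FacData F Z (tfun π) E := by
  have hmor := (Cfsg.Agent.S5134.result p hS F hF Z hZ π E h).1
  obtain ⟨-, hker, hrange, hhom⟩ := h
  have hmul : MulOn S (tfun π) := by
    intro x hx y hy
    rw [tfun_mem _ (S.mul_mem hx hy), tfun_mem _ hx, tfun_mem _ hy, ← map_mul]
    rfl
  refine ⟨fun x hx => ?_, fun y hy => ?_, hmul, fun x hx => ?_, ?_, ?_⟩
  · rw [tfun_mem _ hx]
    exact hmor.1 _
  · rw [← hrange] at hy
    obtain ⟨s, rfl⟩ := hy
    exact ⟨s, s.2, tfun_apply _ s⟩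
  · rw [tfun_mem _ hx]
    exact hker ⟨x, hx⟩
  · intro P f hf
    have hP : P ≤ S := hf.le
    obtain ⟨φ, hφ, hφf⟩ := hf
    obtain ⟨φ', hφ', hP0, hφS, hP', hind⟩ := hmor.2 P φ hφ
    have himg : imageAlong π P = imgX P (tfun π) := by
      ext y
      rw [mem_imgX hmul hP]
      constructor
      · rintro ⟨s, hs, rfl⟩
        exact ⟨s, Subgroup.mem_subgroupOf.mp hs, tfun_apply _ s⟩
      · rintro ⟨x, hx, rfl⟩
        exact ⟨⟨x, hP hx⟩, Subgroup.mem_subgroupOf.mpr hx, (tfun_mem _ (hP hx)).symm⟩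
    refine ⟨extFun φ', mor_of_hom_eq E himg hφ', fun x hx => ?_⟩
    have e1 : tfun π x = π ⟨x, hP0 hx⟩ := tfun_mem _ (hP0 hx)
    have e3 : extFun φ' (tfun π x) = φ' ⟨π ⟨x, hP0 hx⟩, hP' ⟨x, hx⟩⟩ :=
      (congrArg (extFun φ') e1).trans (extFun_apply φ' ⟨π ⟨x, hP0 hx⟩, hP' ⟨x, hx⟩⟩)
    rw [e3, hind ⟨x, hx⟩, ← hφf ⟨x, hx⟩]
    exact (tfun_mem _ (hφS ⟨x, hx⟩)).symm
  · intro P' f' hf'
    obtain ⟨φ', hφ', hφ'f⟩ := hf'
    obtain ⟨-, φ, hφ, hR, hφS, hRP, hind⟩ := (hhom P' φ').mp hφ'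
    refine ⟨preimageAlong π P', extFun φ, mor_of_hom F hφ, fun x => ?_, fun x hx => ?_⟩
    · rw [Helper85.mem_preimageAlong]
      constructor
      · rintro ⟨hx, hxP⟩
        refine ⟨hx, ?_⟩
        rw [tfun_mem _ hx]
        exact hxP
      · rintro ⟨hx, hxP⟩
        rw [tfun_mem _ hx] at hxP
        exact ⟨hx, hxP⟩
    · have e1 : tfun π x = π ⟨x, hR hx⟩ := tfun_mem _ (hR hx)
      have e2 := hind ⟨x, hx⟩
      have e3 : f' (tfun π x) = φ' ⟨π ⟨x, hR hx⟩, hRP ⟨x, hx⟩⟩ := by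
        rw [hφ'f, e1]
      rw [e3, e2, extFun_mem φ hx]
      exact (tfun_mem _ (hφS ⟨x, hx⟩)).symm

end

section

variable {Ω : Type*} [Group Ω] {S : Subgroup Ω} {Ω' : Type*} [Group Ω'] {S' : Subgroup Ω'}
  {Ω₁ : Type*} [Group Ω₁] {S₁ : Subgroup Ω₁} {Ω₁' : Type*} [Group Ω₁'] {S₁' : Subgroup Ω₁'}
  {F : FusionSystem S} {F' : FusionSystem S'} {a : Ω → Ω'} {b : Ω' → Ω}
  {Z : Subgroup Ω} {Z' : Subgroup Ω'} {q : Ω → Ω₁} {q' : Ω' → Ω₁'}
  {E₁ : FusionSystem S₁} {E₁' : FusionSystem S₁'}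

theorem exists_quot_map (hiso : FIso F F' a b) (d : FacData F Z q E₁)
    (d' : FacData F' Z' q' E₁') (hZZ : imgX Z a = Z') :
    ∃ a₁ : Ω₁ → Ω₁', ∀ x ∈ S, a₁ (q x) = q' (a x) := by
  classical
  refine ⟨fun w => if h : ∃ x ∈ S, q x = w then q' (a h.choose) else 1, fun x hx => ?_⟩
  have h : ∃ x₀ ∈ S, q x₀ = q x := ⟨x, hx, rfl⟩
  show (if h : ∃ x₀ ∈ S, q x₀ = q x then q' (a h.choose) else 1) = q' (a x)
  rw [dif_pos h]
  obtain ⟨hx₀, hq⟩ := h.choose_spec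
  generalize h.choose = x₀ at hx₀ hq
  have h1 : q (x₀⁻¹ * x) = 1 := by
    rw [d.mul _ (S.inv_mem hx₀) _ hx, d.mul.map_inv hx₀, hq, inv_mul_cancel]
  have h2 : x₀⁻¹ * x ∈ Z := (d.ker _ (S.mul_mem (S.inv_mem hx₀) hx)).mp h1
  have h3 : a (x₀⁻¹ * x) ∈ Z' := by
    rw [← hZZ]
    exact apply_mem_imgX a h2
  have h4 : q' (a (x₀⁻¹ * x)) = 1 :=
    (d'.ker _ (hiso.fwd.mem _ (S.mul_mem (S.inv_mem hx₀) hx))).mpr h3
  rw [hiso.fwd.mul _ (S.inv_mem hx₀) _ hx, hiso.fwd.mul.map_inv hx₀,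
    d'.mul _ (S'.inv_mem (hiso.fwd.mem _ hx₀)) _ (hiso.fwd.mem _ hx),
    d'.mul.map_inv (hiso.fwd.mem _ hx₀)] at h4
  exact inv_mul_eq_one.mp h4

theorem hiso_quot (hiso : FIso F F' a b) (d : FacData F Z q E₁) (d' : FacData F' Z' q' E₁')
    {a₁ : Ω₁ → Ω₁'} {b₁ : Ω₁' → Ω₁} (ha₁ : ∀ x ∈ S, a₁ (q x) = q' (a x))
    (hb₁ : ∀ y ∈ S', b₁ (q' y) = q (b y)) : HIso E₁ E₁' a₁ b₁ := by
  have hmul : MulOn S₁ a₁ := by
    intro w₁ hw₁ w₂ hw₂
    obtain ⟨x₁, hx₁, rfl⟩ := d.surj w₁ hw₁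
    obtain ⟨x₂, hx₂, rfl⟩ := d.surj w₂ hw₂
    rw [← d.mul x₁ hx₁ x₂ hx₂, ha₁ _ (S.mul_mem hx₁ hx₂), ha₁ _ hx₁, ha₁ _ hx₂,
      hiso.fwd.mul x₁ hx₁ x₂ hx₂, d'.mul _ (hiso.fwd.mem _ hx₁) _ (hiso.fwd.mem _ hx₂)]
  refine ⟨fun w hw => ?_, fun w hw => ?_, hmul, ?_⟩
  · obtain ⟨x, hx, rfl⟩ := d.surj w hw
    rw [ha₁ x hx]
    exact d'.mem _ (hiso.fwd.mem x hx)
  · obtain ⟨x, hx, rfl⟩ := d.surj w hw
    rw [ha₁ x hx, hb₁ _ (hiso.fwd.mem x hx), hiso.fwd.inv x hx]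
  · intro P₁ f₁ hf₁
    have hP₁ : P₁ ≤ S₁ := hf₁.le
    obtain ⟨R, f, hf, hR, hfq⟩ := d.up P₁ f₁ hf₁
    have hRS : R ≤ S := hf.le
    have hf' := hiso.fwd.mor _ _ hf
    obtain ⟨f₂, hf₂, hf₂q⟩ := d'.down _ _ hf'
    have hRa : imgX R a ≤ S' := hiso.imgX_le hRS
    have hsub : imgX (imgX R a) q' = imgX P₁ a₁ := by
      ext z
      rw [mem_imgX d'.mul hRa, mem_imgX hmul hP₁]
      constructor
      · rintro ⟨y, hy, rfl⟩
        obtain ⟨x, hx, rfl⟩ := (mem_imgX hiso.fwd.mul hRS).mp hy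
        exact ⟨q x, ((hR x).mp hx).2, ha₁ x (hRS hx)⟩
      · rintro ⟨w, hw, rfl⟩
        obtain ⟨x, hx, rfl⟩ := d.surj w (hP₁ hw)
        have hxR : x ∈ R := (hR x).mpr ⟨hx, hw⟩
        exact ⟨a x, apply_mem_imgX a hxR, (ha₁ x hx).symm⟩
    rw [hsub] at hf₂
    refine hf₂.congr (fun z hz => ?_)
    obtain ⟨w, hw, rfl⟩ := (mem_imgX hmul hP₁).mp hz
    obtain ⟨x, hx, rfl⟩ := d.surj w (hP₁ hw)
    have hxR : x ∈ R := (hR x).mpr ⟨hx, hw⟩
    show f₂ (a₁ (q x)) = a₁ (f₁ (b₁ (a₁ (q x))))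
    rw [ha₁ x hx, hf₂q _ (apply_mem_imgX a hxR), hb₁ _ (hiso.fwd.mem x hx), hiso.fwd.inv x hx,
      hfq x hxR, ha₁ _ (hf.mem_S hxR)]

theorem fiso_quot (hiso : FIso F F' a b) (d : FacData F Z q E₁) (d' : FacData F' Z' q' E₁')
    (hZZ : imgX Z a = Z') (hZS : Z ≤ S) : ∃ (a₁ : Ω₁ → Ω₁') (b₁ : Ω₁' → Ω₁), FIso E₁ E₁' a₁ b₁ := by
  have hZZ' : imgX Z' b = Z := by
    rw [← hZZ]
    exact hiso.imgX_imgX hZS
  obtain ⟨a₁, ha₁⟩ := exists_quot_map hiso d d' hZZ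
  obtain ⟨b₁, hb₁⟩ := exists_quot_map hiso.symm d' d hZZ'
  exact ⟨a₁, b₁, hiso_quot hiso d d' ha₁ hb₁, hiso_quot hiso.symm d' d hb₁ ha₁⟩

end

section

variable {Ω : Type*} [Group Ω] {S : Subgroup Ω} {Ω' : Type*} [Group Ω'] {S' : Subgroup Ω'}
  {F : FusionSystem S} {F' : FusionSystem S'} {a : Ω → Ω'} {b : Ω' → Ω}

theorem simple_transport [Finite S] [Finite S'] (p : ℕ) [Fact p.Prime]
    (hS' : IsPGroup p S') (hiso : FIso F F' a b) (hF' : F'.IsSaturated p)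
    (h : F.IsSimple p) : F'.IsSimple p := by
  obtain ⟨hsat, hne, hsimp⟩ := h
  refine ⟨hF', ?_, ?_⟩
  · intro h0
    apply hne
    rw [← hiso.symm.imgX_top, h0]
    exact imgX_bot hiso.bwd.mul
  · intro T' D' hD'
    have hD'sat : D'.IsSaturated p := hD'.1.1
    have hT'S' : T' ≤ S' := hD'.1.2.2.2.1.1
    have hfin : Finite T' := Finite.of_injective _ (Subgroup.inclusion_injective hT'S')
    have hT'p : IsPGroup p T' := hS'.to_le hT'S'
    obtain ⟨T, D, hDsat, hisoD, -⟩ := exists_fiso p hT'p D' hD'sat b a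
      (hiso.bwd.mul.mono hT'S') (fun y hy => hiso.bwd.inv y (hT'S' hy))
    have hDn : D.IsNormalIn F p := normal_transport hiso.symm hisoD hDsat hsat hD'
    rcases hsimp T D hDn with hT | ⟨hT, hhom⟩
    · left
      rw [← hisoD.symm.imgX_top, hT]
      exact imgX_bot hiso.fwd.mul
    · right
      have hT'eq : T' = S' := by
        rw [← hisoD.symm.imgX_top, hT]
        exact hiso.imgX_top
      refine ⟨hT'eq, fun P' => ?_⟩
      ext φ'
      constructor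
      · exact fun h => hD'.1.2.2.1 P' h
      · intro hφ'
        have hm := mor_of_hom F' hφ'
        have h1 := hiso.bwd.mor _ _ hm
        have h2 : Mor D (imgX P' b) (fun x => b (extFun φ' (a x))) := by
          obtain ⟨ψ, hψ, hψf⟩ := h1
          exact ⟨ψ, by rw [hhom]; exact hψ, hψf⟩
        have hP' : P' ≤ T' := by
          rw [hT'eq]
          exact hm.le
        have h3 : Mor D' P' (extFun φ') :=
          hisoD.symm.mor_of hP' (fun y hy => by rw [hT'eq]; exact hm.mem_S hy) h2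
        exact hom_of_mor h3 (fun x => (extFun_apply φ' x).symm)

end

section

theorem fusionSystem_ext {Ω : Type*} [Group Ω] {S : Subgroup Ω} (E F : FusionSystem S)
    (h : ∀ P, E.Hom P = F.Hom P) : E = F := by
  cases E
  cases F
  simp only [FusionSystem.mk.injEq]
  funext P
  exact h P

theorem isSubnormalIn_of_eq {Ω : Type*} [Group Ω] {T S : Subgroup Ω} (E : FusionSystem T)
    (F : FusionSystem S) (p : ℕ) (hTS : T = S) (h : ∀ P, E.Hom P = F.Hom P) :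
    E.IsSubnormalIn F p := by
  subst hTS
  rw [fusionSystem_ext E F h]
  exact IsSubnormalIn.refl F p

universe u v

theorem subnormal_transport {Ω : Type u} [Group Ω] {Ω' : Type v} [Group Ω'] :
    ∀ {T : Subgroup Ω} {E : FusionSystem T} {S : Subgroup Ω} {F : FusionSystem S} {p : ℕ},
      E.IsSubnormalIn F p → ∀ [Fact p.Prime] [Finite S], IsPGroup p S →
      ∀ {S' : Subgroup Ω'} [Finite S'], IsPGroup p S' → ∀ (F' : FusionSystem S')
        (a : Ω → Ω') (b : Ω' → Ω), FIso F F' a b → F'.IsSaturated p →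
        ∀ {T' : Subgroup Ω'} (E' : FusionSystem T'), FIso E E' a b → E'.IsSubnormalIn F' p := by
  intro T E S F p h
  induction h with
  | refl F p =>
    intro _ _ hS S' _ hS' F' a b hiso hF' T' E' hisoE
    have hT' : T' = S' := by rw [← hisoE.imgX_top, hiso.imgX_top]
    apply isSubnormalIn_of_eq _ _ _ hT'
    intro P'
    ext φ'
    constructor
    · intro hφ'
      have hm := mor_of_hom E' hφ'
      have h1 := hisoE.bwd.mor _ _ hm
      have h3 : Mor F' P' (extFun φ') :=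
        hiso.mor_of (by rw [← hT']; exact hm.le) (fun y hy => by rw [← hT']; exact hm.mem_S hy) h1
      exact hom_of_mor h3 (fun x => (extFun_apply φ' x).symm)
    · intro hφ'
      have hm := mor_of_hom F' hφ'
      have h1 := hiso.bwd.mor _ _ hm
      have h3 : Mor E' P' (extFun φ') :=
        hisoE.mor_of (by rw [hT']; exact hm.le) (fun y hy => by rw [hT']; exact hm.mem_S hy) h1
      exact hom_of_mor h3 (fun x => (extFun_apply φ' x).symm)
  | @step U S E D F p h₁ h₂ ih =>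
    intro _ _ hS S' _ hS' F' a b hiso hF' T' E' hisoE
    have hDsat : D.IsSaturated p := h₂.1.1
    have hUS : U ≤ S := h₂.1.2.2.2.1.1
    haveI : Finite U := Finite.of_injective _ (Subgroup.inclusion_injective hUS)
    have hUp : IsPGroup p U := hS.to_le hUS
    obtain ⟨U', D', hD'sat, hisoD, -⟩ := exists_fiso p hUp D hDsat a b
      (hiso.fwd.mul.mono hUS) (fun x hx => hiso.fwd.inv x (hUS hx))
    have hD'n : D'.IsNormalIn F' p := normal_transport hiso hisoD hD'sat hF' h₂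
    have hU'S' : U' ≤ S' := hD'n.1.2.2.2.1.1
    haveI : Finite U' := Finite.of_injective _ (Subgroup.inclusion_injective hU'S')
    have hU'p : IsPGroup p U' := hS'.to_le hU'S'
    exact IsSubnormalIn.step (ih hUp hU'p D' a b hisoD hD'sat E' hisoE) hD'n

end

section

variable {Ω : Type*} [Group Ω] {S : Subgroup Ω} {Ω' : Type*} [Group Ω'] {S' : Subgroup Ω'}
  {F : FusionSystem S} {F' : FusionSystem S'} {a : Ω → Ω'} {b : Ω' → Ω}

theorem quasisimple_transport [Finite S] [Finite S'] (p : ℕ) [Fact p.Prime] (hS : IsPGroup p S)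
    (hS' : IsPGroup p S') (hiso : FIso F F' a b) (hF' : F'.IsSaturated p)
    (hhyp : F'.hyperfocalSubgroup p = S') (h : F.Quasisimple p) : F'.Quasisimple p := by
  obtain ⟨hsat, -, hq⟩ := h
  refine ⟨hF', hhyp, fun E' hE' => ?_⟩
  have hZ : F.StronglyClosed F.center := isCentral_stronglyClosed (Helper85.isCentral_center F)
  have hZ' : F'.StronglyClosed F'.center :=
    isCentral_stronglyClosed (Helper85.isCentral_center F')
  obtain ⟨E, hE⟩ := Cfsg.Agent.S5132.result p hS F F.center hZ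
  have hEs : E.IsSimple p := hq E hE
  have d := facData_of_factor p hS hsat hZ hE
  have d' := facData_of_factor p hS' hF' hZ' hE'
  obtain ⟨a₁, b₁, hq⟩ := fiso_quot hiso d d' (center_transport hiso) hZ.1
  have hE'sat : E'.IsSaturated p :=
    Cfsg.Agent.S5133.result p hS' F' hF' E' _
      (Cfsg.Agent.S5134.result p hS' F' hF' _ hZ' _ E' hE')
  have hTop' : IsPGroup p (⊤ : Subgroup (S' ⧸ (F'.center).subgroupOf S')) :=
    (hS'.to_quotient _).to_subgroup _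
  exact simple_transport p hTop' hq hE'sat hEs

end

end Cfsg.Agent.Lib.Helper88
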