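import Mathlib
import Cfsg.Agent.Lib.Helper88.IsoC

set_option autoImplicit false

namespace Cfsg.Agent.Lib.Helper88

open Cfsg Cfsg.FusionSystem

section

variable {Ω : Type*} [Group Ω] {S : Subgroup Ω} {Ω' : Type*} [Group Ω'] {S' : Subgroup Ω'}

theorem imageAlong_eq_imgX (θ : S →* Ω') {a : Ω → Ω'} (ha : ∀ s : S, a s = θ s)
    {P : Subgroup Ω} (hP : P ≤ S) : imageAlong θ P = imgX P a := by
  have hmul : MulOn S a := by
    intro x hx y hy
    have h1 := ha (⟨x, hx⟩ * ⟨y, hy⟩)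
    have h2 := ha ⟨x, hx⟩
    have h3 := ha ⟨y, hy⟩
    rw [map_mul] at h1
    rw [← h2, ← h3] at h1
    exact h1
  ext y
  rw [mem_imgX hmul hP]
  constructor
  · rintro ⟨s, hs, rfl⟩
    exact ⟨s, Subgroup.mem_subgroupOf.mp hs, ha s⟩
  · rintro ⟨x, hx, rfl⟩
    exact ⟨⟨x, hP hx⟩, Subgroup.mem_subgroupOf.mpr hx, (ha _).symm⟩

/-- A morphism of fusion systems with a left inverse gives one half of an isomorphism. -/
theorem hiso_of_isMorphism {F : FusionSystem S} {F' : FusionSystem S'} {θ : S →* Ω'}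
    (hmor : F.IsMorphism F' θ) {a : Ω → Ω'} {b : Ω' → Ω}
    (ha : ∀ s : S, a s = θ s) (hb : ∀ s : S, b (θ s) = s) : HIso F F' a b := by
  have hmul : MulOn S a := by
    intro x hx y hy
    have h1 := ha (⟨x, hx⟩ * ⟨y, hy⟩)
    have h2 := ha ⟨x, hx⟩
    have h3 := ha ⟨y, hy⟩
    rw [map_mul] at h1
    rw [← h2, ← h3] at h1
    exact h1
  refine ⟨fun x hx => ?_, fun x hx => ?_, hmul, ?_⟩
  · rw [ha ⟨x, hx⟩]
    exact hmor.1 _
  · rw [ha ⟨x, hx⟩]
    exact hb ⟨x, hx⟩
  · intro P f hf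
    have hP : P ≤ S := hf.le
    obtain ⟨φ, hφ, hφf⟩ := hf
    obtain ⟨φ', hφ', hP0, hφS, hP', hind⟩ := hmor.2 P φ hφ
    have himg : imageAlong θ P = imgX P a := imageAlong_eq_imgX θ ha hP
    have h1 : Mor F' (imgX P a) (extFun φ') := mor_of_hom_eq F' himg hφ'
    refine h1.congr (fun y hy => ?_)
    obtain ⟨x, hx, rfl⟩ := (mem_imgX hmul hP).mp hy
    have e1 : a x = θ ⟨x, hP0 hx⟩ := ha ⟨x, hP0 hx⟩
    have e2 : b (a x) = x := by rw [e1]; exact hb _
    show extFun φ' (a x) = a (f (b (a x)))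
    rw [e2]
    have e3 : extFun φ' (a x) = φ' ⟨θ ⟨x, hP0 hx⟩, hP' ⟨x, hx⟩⟩ :=
      (congrArg (extFun φ') e1).trans (extFun_apply φ' ⟨θ ⟨x, hP0 hx⟩, hP' ⟨x, hx⟩⟩)
    rw [e3, hind ⟨x, hx⟩, ← hφf ⟨x, hx⟩]
    exact (ha ⟨φ ⟨x, hx⟩, hφS ⟨x, hx⟩⟩).symm

end

section

universe u

theorem subnormal_le {Ω : Type u} [Group Ω] :
    ∀ {T : Subgroup Ω} {E : FusionSystem T} {S : Subgroup Ω} {F : FusionSystem S} {p : ℕ},
      E.IsSubnormalIn F p → T ≤ S := by
  intro T E S F p h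
  induction h with
  | refl F p => exact le_rfl
  | @step U S E D F p h₁ h₂ ih => exact ih.trans h₂.1.2.2.2.1.1

variable {Ω : Type u} [Group Ω] {S : Subgroup Ω}

/-- The layer is preserved by automorphisms of the system, at the level of functions. -/
theorem layer_char [Finite S] (p : ℕ) [Fact p.Prime] (hS : IsPGroup p S) {F : FusionSystem S}
    (hF : F.IsSaturated p) {a a' : Ω → Ω} (hiso : FIso F F a a') {T : Subgroup Ω}
    {E : FusionSystem T} (hE : E.IsLayerOf F p) :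
    T ≤ imgX T a' ∧ ∀ (P : Subgroup Ω) (f : Ω → Ω), Mor E P f →
      Mor E (imgX P a) (fun y => a (f (a' y))) := by
  obtain ⟨hEn, hEc, hEl⟩ := hE
  have hEsat : E.IsSaturated p := hEn.1.1
  have hTS : T ≤ S := hEn.1.2.2.2.1.1
  haveI : Finite T := Finite.of_injective _ (Subgroup.inclusion_injective hTS)
  have hTp : IsPGroup p T := hS.to_le hTS
  obtain ⟨T₂, E₂, hE₂sat, hisoE, -⟩ := exists_fiso p hTp E hEsat a' a
    (hiso.bwd.mul.mono hTS) (fun x hx => hiso.bwd.inv x (hTS hx))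
  have hE₂n : E₂.IsNormalIn F p := normal_transport hiso.symm hisoE hE₂sat hF hEn
  have hcomp : ∀ (U : Subgroup Ω) (C : FusionSystem U), C.IsComponentIn F p →
      C.IsSubsystemOf E₂ := by
    intro U C hC
    obtain ⟨hCsub, hCq⟩ := hC
    have hUS : U ≤ S := subnormal_le hCsub
    haveI : Finite U := Finite.of_injective _ (Subgroup.inclusion_injective hUS)
    have hUp : IsPGroup p U := hS.to_le hUS
    obtain ⟨U₁, C₁, hC₁sat, hisoC, hhyp⟩ := exists_fiso p hUp C hCq.1 a a'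
      (hiso.fwd.mul.mono hUS) (fun x hx => hiso.fwd.inv x (hUS hx))
    have hC₁sub : C₁.IsSubnormalIn F p :=
      subnormal_transport hCsub hS hS F a a' hiso hF C₁ hisoC
    have hU₁S : U₁ ≤ S := subnormal_le hC₁sub
    haveI : Finite U₁ := Finite.of_injective _ (Subgroup.inclusion_injective hU₁S)
    have hU₁p : IsPGroup p U₁ := hS.to_le hU₁S
    have hC₁q : C₁.Quasisimple p :=
      quasisimple_transport p hUp hU₁p hisoC hC₁sat (hhyp hCq.2.1) hCq
    have hsub : C₁.IsSubsystemOf E := hEc U₁ C₁ ⟨hC₁sub, hC₁q⟩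
    intro P φ hφ
    have hm : Mor C P (extFun φ) := mor_of_hom C hφ
    have hPU : P ≤ U := hm.le
    have h1 := hisoC.fwd.mor _ _ hm
    have h2 : Mor E (imgX P a) (fun y => a (extFun φ (a' y))) := subsystem_mor hsub h1
    have h3 := hisoE.fwd.mor _ _ h2
    rw [hiso.imgX_imgX (hPU.trans hUS)] at h3
    refine hom_of_mor h3 (fun x => ?_)
    show φ x = a' (a (extFun φ (a' (a (x : Ω)))))
    have hxS : (x : Ω) ∈ S := hUS (hPU x.2)
    rw [hiso.fwd.inv _ hxS, extFun_apply, hiso.fwd.inv _ (hUS ((C.le_of_mem hφ).2 x))]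
  have hsub : E.IsSubsystemOf E₂ := hEl T₂ E₂ hE₂n hcomp
  refine ⟨?_, fun P f hf => ?_⟩
  · have h1 : Mor E₂ T (fun x => x) := subsystem_mor hsub (mor_id E le_rfl)
    have h2 : T ≤ T₂ := h1.le
    rw [hisoE.imgX_top]
    exact h2
  · exact hisoE.bwd.mor _ _ (subsystem_mor hsub hf)

/-- A conjugate of a subnormal subsystem by a map of the ambient system is subnormal. -/
theorem conj_subnormal :
    ∀ {T : Subgroup Ω} {C : FusionSystem T} {S : Subgroup Ω} {F : FusionSystem S} {p : ℕ},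
      C.IsSubnormalIn F p → ∀ [Fact p.Prime] [Finite S], IsPGroup p S → C.IsSaturated p →
      ∀ (g g' : Ω → Ω), Mor F T g → ∀ {T₂ : Subgroup Ω} (E : FusionSystem T₂),
        FIso C E g g' → E.IsSubnormalIn F p := by
  intro T C S F p h
  induction h with
  | refl F p =>
    intro _ _ hS hCsat g g' hg T₂ E hiso
    have hT₂ : T₂ = T := by
      rw [← hiso.imgX_top]
      exact hg.img_top
    have hgS : ∀ x ∈ T, g x ∈ T := fun x hx => hg.mem_S hx
    obtain ⟨g₂, hg₂, hg₂g⟩ := hg.exists_inv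
    rw [hg.img_top] at hg₂
    have hg' : Mor F T g' := by
      refine hg₂.congr (fun y hy => ?_)
      have hy' : y ∈ imgX T g := by
        rw [hiso.imgX_top, hT₂]
        exact hy
      obtain ⟨x, hx, rfl⟩ := (mem_imgX hiso.fwd.mul le_rfl).mp hy'
      rw [hg₂g x hx, hiso.fwd.inv x hx]
    apply isSubnormalIn_of_eq _ _ _ hT₂
    intro P'
    ext φ'
    constructor
    · intro hφ'
      have hm := mor_of_hom E hφ'
      have hP'T₂ : P' ≤ T₂ := hm.le
      have hP'S : P' ≤ T := by rw [← hT₂]; exact hP'T₂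
      have h1 := hiso.bwd.mor _ _ hm
      have h2 : Mor F P' (fun y => g' y) := hg'.res hP'S
      have h3 : Mor F P' (fun y => (fun x => g' (extFun φ' (g x))) (g' y)) :=
        h2.comp h1 (fun y hy => apply_mem_imgX g' hy)
      have h4 : Mor F P' (fun y => g ((fun x => g' (extFun φ' (g x))) (g' y))) :=
        h3.comp hg (fun y hy => h3.mem_S hy)
      refine hom_of_mor h4 (fun x => ?_)
      show φ' x = g (g' (extFun φ' (g (g' (x : Ω)))))
      rw [hiso.bwd.inv _ (hP'T₂ x.2), extFun_apply, hiso.bwd.inv _ ((E.le_of_mem hφ').2 x)]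
    · intro hφ'
      have hm := mor_of_hom F hφ'
      have hP'S : P' ≤ T := hm.le
      have hP'T₂ : P' ≤ T₂ := by rw [hT₂]; exact hP'S
      have hle : imgX P' g' ≤ T := hiso.symm.imgX_le hP'T₂
      have h1 : Mor F (imgX P' g') (fun x => g x) := hg.res hle
      have hmem : ∀ x ∈ imgX P' g', g x ∈ P' := by
        intro x hx
        obtain ⟨y, hy, rfl⟩ := (mem_imgX hiso.bwd.mul hP'T₂).mp hx
        rw [hiso.bwd.inv y (hP'T₂ hy)]
        exact hy
      have h2 : Mor F (imgX P' g') (fun x => extFun φ' (g x)) := h1.comp hm hmem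
      have h3 : Mor F (imgX P' g') (fun x => g' (extFun φ' (g x))) :=
        h2.comp hg' (fun x hx => h2.mem_S hx)
      have h4 : Mor E P' (extFun φ') :=
        hiso.mor_of hP'T₂ (fun y hy => by rw [hT₂]; exact hm.mem_S hy) h3
      exact hom_of_mor h4 (fun x => (extFun_apply φ' x).symm)
  | @step U S C D F p h₁ h₂ ih =>
    intro _ _ hS hCsat g g' hg T₂ E hiso
    have hTU : T ≤ U := subnormal_le h₁
    have hUS : U ≤ S := h₂.1.2.2.2.1.1
    have hDsat : D.IsSaturated p := h₂.1.1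
    haveI : Finite U := Finite.of_injective _ (Subgroup.inclusion_injective hUS)
    have hUp : IsPGroup p U := hS.to_le hUS
    haveI : Finite T := Finite.of_injective _ (Subgroup.inclusion_injective hTU)
    have hTp : IsPGroup p T := hUp.to_le hTU
    have hinv : D.IsInvariantIn F := h₂.1.2.2
    obtain ⟨c, g₀, hc, hg₀, hgc⟩ := invariant_frattini hinv hTU hg
    obtain ⟨c', hc', hcU, hc'U, hc'c, hcc'⟩ := aut_inverse hinv.2.1 hc
    obtain ⟨g₀', -, hg₀'g⟩ := hg₀.exists_inv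
    obtain ⟨T₀, C₀, hC₀sat, hisoC₀, -⟩ := exists_fiso p hTp C hCsat g₀ g₀'
      (fun x hx y hy => hg₀.map_mul hx hy) hg₀'g
    have hC₀sub : C₀.IsSubnormalIn D p := ih hUp hCsat g₀ g₀' hg₀ C₀ hisoC₀
    have hisoD : FIso D D c c' := by
      refine ⟨⟨hcU, hc'c, fun x hx y hy => hc.map_mul hx hy, ?_⟩,
        ⟨hc'U, hcc', fun x hx y hy => hc'.map_mul hx hy, ?_⟩⟩
      · intro P f hf
        exact invariant_conj hinv hf.le hf hc hc'c
      · intro P f hf
        exact invariant_conj hinv hf.le hf hc' hcc'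
    have hT₀ : imgX T g₀ = T₀ := hisoC₀.imgX_top
    have hT₂ : imgX T g = T₂ := hiso.imgX_top
    have hisoCE : FIso C₀ E c c' := by
      refine (hisoC₀.symm.trans hiso).congr (fun x hx => ?_) (fun y hy => ?_)
      · rw [← hT₀] at hx
        obtain ⟨t, ht, rfl⟩ := (mem_imgX hisoC₀.fwd.mul le_rfl).mp hx
        show c (g₀ t) = g (g₀' (g₀ t))
        rw [hg₀'g t ht, hgc t ht]
      · rw [← hT₂] at hy
        obtain ⟨t, ht, rfl⟩ := (mem_imgX hiso.fwd.mul le_rfl).mp hy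
        show c' (g t) = g₀ (g' (g t))
        rw [hiso.fwd.inv t ht, hgc t ht, hc'c _ (hg₀.mem_S ht)]
    have hEsubD : E.IsSubnormalIn D p :=
      subnormal_transport hC₀sub hUp hUp D c c' hisoD hDsat E hisoCE
    exact IsSubnormalIn.step hEsubD h₂

end

end Cfsg.Agent.Lib.Helper88
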