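import Mathlib
import Cfsg.Prelude.Def_FusionSystem
import Cfsg.Agent.Lib.Helper84.HypStrongly
import Cfsg.Agent.Lib.Helper84.FusionSat2
import Cfsg.Agent.Lib.Helper87.FusionHyp
import Cfsg.Agent.Lib.Helper88.FusBasic
import Cfsg.Agent.Lib.Helper88.FusSat
import Cfsg.Agent.Lib.Helper88.FusAlp
import Cfsg.Agent.Lib.Helper88.FusPAut

/-!
# Graded generation of a saturated fusion system (towards subsystems of `p`-power index)

`GenD F p π P f d`: the map `f` on `P` is a composite of restrictions of conjugations by elements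
`s` of `S` (grade `π s`) and of automorphisms of order prime to `p` of subgroups of `S` (grade `1`),
the grade `d` being the product of the grades.
-/

set_option autoImplicit false

namespace Cfsg.Agent.Lib.Helper88.PGrade

open Cfsg Cfsg.FusionSystem Cfsg.Agent.Lib.Helper88

variable {Ω : Type*} [Group Ω] {S : Subgroup Ω} {Γ : Type*} [Group Γ]

/-- `b` restricts to an automorphism of `R` in the system, of order prime to `p`. -/
def PAut (F : FusionSystem S) (p : ℕ) (R : Subgroup Ω) (b : Ω → Ω) : Prop :=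
  Mor F R b ∧ (∀ x ∈ R, b x ∈ R) ∧ ∃ m : ℕ, m.Coprime p ∧ ∀ x ∈ R, b^[m] x = x

/-- Graded generation. -/
inductive GenD (F : FusionSystem S) (p : ℕ) (π : Ω → Γ) : Subgroup Ω → (Ω → Ω) → Γ → Prop
  | conj {P : Subgroup Ω} {s : Ω} (hP : P ≤ S) (hs : s ∈ S) :
      GenD F p π P (fun x => s * x * s⁻¹) (π s)
  | paut {P R : Subgroup Ω} {b : Ω → Ω} (hPR : P ≤ R) (hb : PAut F p R b) : GenD F p π P b 1
  | comp {P Q : Subgroup Ω} {f g : Ω → Ω} {d e : Γ} (hf : GenD F p π P f d)
      (hg : GenD F p π Q g e) (hPQ : ∀ x ∈ P, f x ∈ Q) :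
      GenD F p π P (fun x => g (f x)) (e * d)
  | congr {P : Subgroup Ω} {f g : Ω → Ω} {d : Γ} (hf : GenD F p π P f d)
      (hfg : ∀ x ∈ P, f x = g x) : GenD F p π P g d

/-- Standing hypotheses: `π` is multiplicative on `S` with kernel `T ≥ hyp(F)`. -/
structure Setup (F : FusionSystem S) (p : ℕ) (π : Ω → Γ) (T : Subgroup Ω) : Prop where
  hTS : T ≤ S
  mul : ∀ x ∈ S, ∀ y ∈ S, π (x * y) = π x * π y
  ker : ∀ x ∈ S, π x = 1 ↔ x ∈ T
  hyp : F.hyperfocalSubgroup p ≤ T

/-- Every conjugate of `P` in the system has its centralizer in `S` inside `T`. -/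
def Tame (F : FusionSystem S) (T P : Subgroup Ω) : Prop :=
  P ≤ S ∧ ∀ f, Mor F P f → centralizerIn S (img P f) ≤ T

section setup

variable {F : FusionSystem S} {p : ℕ} {π : Ω → Γ} {T : Subgroup Ω}

theorem Setup.map_one (h : Setup F p π T) : π 1 = 1 := (h.ker 1 S.one_mem).2 T.one_mem

theorem Setup.map_inv (h : Setup F p π T) {x : Ω} (hx : x ∈ S) : π x⁻¹ = (π x)⁻¹ := by
  have h1 := h.mul x hx x⁻¹ (S.inv_mem hx)
  rw [mul_inv_cancel, h.map_one] at h1
  exact eq_inv_of_mul_eq_one_right h1.symm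

theorem Setup.conj_mem (h : Setup F p π T) {s x : Ω} (hs : s ∈ S) (hx : x ∈ T) :
    s * x * s⁻¹ ∈ T := by
  have hxS : x ∈ S := h.hTS hx
  have h1 : s * x * s⁻¹ ∈ S := S.mul_mem (S.mul_mem hs hxS) (S.inv_mem hs)
  rw [← h.ker _ h1, h.mul _ (S.mul_mem hs hxS) _ (S.inv_mem hs), h.mul _ hs _ hxS,
    (h.ker x hxS).2 hx, mul_one, h.map_inv hs, mul_inv_cancel]

end setup

/-! ### Automorphisms of order prime to `p` -/

theorem PAut.exists_aut [Finite S] {F : FusionSystem S} {p : ℕ} {R : Subgroup Ω} {b : Ω → Ω}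
    (hb : PAut F p R b) :
    ∃ α : MulAut R, α ∈ F.autGroup R ∧ (∀ x : R, ((α x : R) : Ω) = b x) ∧
      ∃ m : ℕ, m.Coprime p ∧ α ^ m = 1 := by
  obtain ⟨hm, hR, m, hmp, hbm⟩ := hb
  obtain ⟨α, hα, hαb⟩ := hm.exists_aut hR
  refine ⟨α, hα, hαb, m, hmp, ?_⟩
  have key : ∀ k : ℕ, ∀ x : R, (((α ^ k) x : R) : Ω) = b^[k] x := by
    intro k
    induction k with
    | zero => intro x; simp
    | succ k ih =>
      intro x
      rw [pow_succ, MulAut.mul_apply, ih, Function.iterate_succ_apply, hαb]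
  ext x
  rw [key m x, hbm x x.2]
  rfl

theorem paut_of_aut {F : FusionSystem S} {p : ℕ} {R : Subgroup Ω} (hR : R ≤ S) {α : MulAut R}
    (hα : α ∈ F.autGroup R) {m : ℕ} (hm : m.Coprime p) (hαm : α ^ m = 1) :
    PAut F p R (extFun (fun x : R => ((α x : R) : Ω))) := by
  refine ⟨(mem_autGroup_iff F hR α).mp hα, fun x hx => ?_, m, hm, ?_⟩
  · rw [extFun_mem _ hx]; exact (α ⟨x, hx⟩).2
  · have key : ∀ k : ℕ, ∀ x (hx : x ∈ R),
        (extFun (fun x : R => ((α x : R) : Ω)))^[k] x = (((α ^ k) ⟨x, hx⟩ : R) : Ω) := by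
      intro k
      induction k with
      | zero => intro x hx; simp
      | succ k ih =>
        intro x hx
        rw [Function.iterate_succ_apply, extFun_mem _ hx, ih _ (α ⟨x, hx⟩).2, pow_succ,
          MulAut.mul_apply]
    intro x hx
    rw [key m x hx, hαm]
    rfl

theorem PAut.hyp_mem [Finite S] {F : FusionSystem S} {p : ℕ} {R : Subgroup Ω} {b : Ω → Ω}
    (hb : PAut F p R b) {x : Ω} (hx : x ∈ R) : x⁻¹ * b x ∈ F.hyperfocalSubgroup p := by
  obtain ⟨α, hα, hαb, m, hm, hαm⟩ := hb.exists_aut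
  have h1 := hyp_gen_mem F hb.1.le hα hm hαm ⟨x, hx⟩
  rw [Subgroup.coe_mul, Subgroup.coe_inv, hαb] at h1
  exact h1

/-- the inverse of an automorphism of order prime to `p`. -/
theorem PAut.inv [Finite S] {F : FusionSystem S} {p : ℕ} {R : Subgroup Ω} {b : Ω → Ω}
    (hb : PAut F p R b) : ∃ g, PAut F p R g ∧ (∀ x ∈ R, g (b x) = x) ∧ ∀ x ∈ R, b (g x) = x := by
  obtain ⟨hm, hR, m, hmp, hbm⟩ := hb
  obtain ⟨g, hg, hgb⟩ := hm.exists_inv
  have himg : img R b = R := hm.img_eq_self hR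
  rw [himg] at hg
  have hbg : ∀ x ∈ R, b (g x) = x := by
    intro x hx
    have hx' : x ∈ img R b := by rw [himg]; exact hx
    obtain ⟨y, hy, rfl⟩ := hm.mem_img.mp hx'
    rw [hgb y hy]
  have hgR : ∀ x ∈ R, g x ∈ R := by
    intro x hx
    have hx' : x ∈ img R b := by rw [himg]; exact hx
    obtain ⟨y, hy, rfl⟩ := hm.mem_img.mp hx'
    rw [hgb y hy]; exact hy
  refine ⟨g, ⟨hg, hgR, m, hmp, ?_⟩, hgb, hbg⟩
  have hbk : ∀ k : ℕ, ∀ x ∈ R, b^[k] x ∈ R := by
    intro k
    induction k with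
    | zero => intro x hx; exact hx
    | succ k ih => intro x hx; rw [Function.iterate_succ_apply]; exact ih _ (hR x hx)
  have key : ∀ k : ℕ, ∀ x ∈ R, g^[k] (b^[k] x) = x := by
    intro k
    induction k with
    | zero => intro x _; rfl
    | succ k ih =>
      intro x hx
      rw [Function.iterate_succ_apply' b, Function.iterate_succ_apply, hgb _ (hbk k x hx)]
      exact ih x hx
  intro x hx
  have := key m x hx
  rw [hbm x hx] at this
  exact this

/-! ### Basic properties of graded generation -/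

namespace GenD

variable {F : FusionSystem S} {p : ℕ} {π : Ω → Γ} {T : Subgroup Ω}

theorem mor {P : Subgroup Ω} {f : Ω → Ω} {d : Γ} (h : GenD F p π P f d) : Mor F P f := by
  induction h with
  | conj hP hs => exact mor_conj F hP hs
  | paut hPR hb => exact hb.1.res hPR
  | comp _ _ hPQ ihf ihg => exact ihf.comp ihg hPQ
  | congr _ hfg ih => exact ih.congr hfg

theorem id {P : Subgroup Ω} (hP : P ≤ S) : GenD F p π P (fun x => x) 1 :=
  GenD.paut (R := P) le_rfl ⟨mor_id F hP, fun _ hx => hx, 1, Nat.coprime_one_left p,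
    fun _ _ => rfl⟩

theorem res {P R : Subgroup Ω} {f : Ω → Ω} {d : Γ} (h : GenD F p π P f d) (hR : R ≤ P) :
    GenD F p π R f d := by
  have h1 := GenD.comp (GenD.id (F := F) (p := p) (π := π) (hR.trans h.mor.le)) h
    (fun x hx => hR hx)
  rw [mul_one] at h1
  exact h1

theorem inv [Finite S] (hst : Setup F p π T) {P : Subgroup Ω} {f : Ω → Ω} {d : Γ}
    (h : GenD F p π P f d) :
    ∃ g, GenD F p π (img P f) g d⁻¹ ∧ ∀ x ∈ P, g (f x) = x := by
  induction h with
  | @conj P s hP hs =>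
    refine ⟨fun y => s⁻¹ * y * s⁻¹⁻¹, ?_, fun x _ => by group⟩
    rw [← hst.map_inv hs]
    exact GenD.conj (mor_conj F hP hs).img_le (S.inv_mem hs)
  | @paut P R b hPR hb =>
    obtain ⟨g, hg, hgb, -⟩ := hb.inv
    refine ⟨g, ?_, fun x hx => hgb x (hPR hx)⟩
    rw [inv_one]
    refine GenD.paut ?_ hg
    intro y hy
    obtain ⟨x, hx, rfl⟩ := (hb.1.res hPR).mem_img.mp hy
    exact hb.2.1 x (hPR hx)
  | @comp P Q f g d e hf hg hPQ ihf ihg =>
    obtain ⟨f', hf', hff⟩ := ihf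
    obtain ⟨g', hg', hgg⟩ := ihg
    have himg : img P (fun x => g (f x)) = img (img P f) g := img_comp hf.mor hg.mor hPQ
    have hle : img P f ≤ Q := by
      intro y hy
      obtain ⟨x, hx, rfl⟩ := hf.mor.mem_img.mp hy
      exact hPQ x hx
    have hle2 : img (img P f) g ≤ img Q g := img_mono hg.mor hle
    refine ⟨fun z => f' (g' z), ?_, ?_⟩
    · rw [himg, mul_inv_rev]
      refine GenD.comp (hg'.res hle2) hf' ?_
      intro z hz
      obtain ⟨y, hy, rfl⟩ := (hg.mor.res hle).mem_img.mp hz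
      rw [hgg y (hle hy)]
      exact hy
    · intro x hx
      show f' (g' (g (f x))) = x
      rw [hgg _ (hPQ x hx), hff x hx]
  | @congr P f g d hf hfg ih =>
    obtain ⟨f', hf', hff⟩ := ih
    refine ⟨f', ?_, fun x hx => by rw [← hfg x hx]; exact hff x hx⟩
    rw [← img_congr hfg]
    exact hf'

theorem closed [Finite S] (hst : Setup F p π T) {P : Subgroup Ω} {f : Ω → Ω} {d : Γ}
    (h : GenD F p π P f d) : ∀ x ∈ P, x ∈ T → f x ∈ T := by
  induction h with
  | conj hP hs => intro x _ hxT; exact hst.conj_mem hs hxT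
  | @paut P R b hPR hb =>
    intro x hx hxT
    have h1 := hst.hyp (hb.hyp_mem (hPR hx))
    have h2 : b x = x * (x⁻¹ * b x) := by group
    rw [h2]
    exact T.mul_mem hxT h1
  | comp _ _ hPQ ihf ihg => intro x hx hxT; exact ihg _ (hPQ x hx) (ihf x hx hxT)
  | congr _ hfg ih => intro x hx hxT; rw [← hfg x hx]; exact ih x hx hxT

theorem grade_mem (hst : Setup F p π T) {P : Subgroup Ω} {f : Ω → Ω} {d : Γ}
    (h : GenD F p π P f d) : ∃ s ∈ S, π s = d := by
  induction h with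
  | @conj P s hP hs => exact ⟨s, hs, rfl⟩
  | paut hPR hb => exact ⟨1, S.one_mem, hst.map_one⟩
  | comp _ _ _ ihf ihg =>
    obtain ⟨s, hs, rfl⟩ := ihf
    obtain ⟨t, ht, rfl⟩ := ihg
    exact ⟨t * s, S.mul_mem ht hs, hst.mul t ht s hs⟩
  | congr _ _ ih => exact ih

end GenD

end Cfsg.Agent.Lib.Helper88.PGrade
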