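import Mathlib
import Cfsg.Prelude.Def_FusionSystem
import Cfsg.Agent.Lib.Helper88.PGrade

/-!
# Every map of a saturated system has a grade; tame subgroups
-/

set_option autoImplicit false

namespace Cfsg.Agent.Lib.Helper88.PGrade

open Cfsg Cfsg.FusionSystem Cfsg.Agent.Lib.Helper88

variable {Ω : Type*} [Group Ω] {S : Subgroup Ω} {Γ : Type*} [Group Γ]

/-- The system of all maps that have a grade. -/
def genSys [Finite S] (F : FusionSystem S) (p : ℕ) (π : Ω → Γ) (T : Subgroup Ω)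
    (hst : Setup F p π T) : FusionSystem S where
  Hom P := {φ | ∃ d, GenD F p π P (extFun φ) d}
  le_of_mem := by
    rintro P φ ⟨d, h⟩
    refine ⟨h.mor.le, fun x => ?_⟩
    have := h.mor.mem_S x.2
    rwa [extFun_apply] at this
  injective_of_mem := by
    rintro P φ ⟨d, h⟩ x y hxy
    apply Subtype.ext
    apply h.mor.inj x.2 y.2
    rw [extFun_apply, extFun_apply]
    exact hxy
  conj_mem := by
    intro P g hP hg
    exact ⟨π g, (GenD.conj hP hg).congr (fun x hx => by rw [extFun_mem _ hx]; rfl)⟩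
  comp_mem := by
    rintro P Q φ ψ ⟨d, hφ⟩ ⟨e, hψ⟩ h
    refine ⟨e * d, (GenD.comp hφ hψ (fun x hx => by rw [extFun_mem φ hx]; exact h ⟨x, hx⟩)).congr
      (fun x hx => ?_)⟩
    show extFun ψ (extFun φ x) = extFun (ψ.comp (φ.codRestrict Q h)) x
    rw [extFun_mem φ hx, extFun_mem ψ (h ⟨x, hx⟩), extFun_mem _ hx]
    rfl
  inv_mem := by
    rintro P φ ⟨d, hφ⟩
    obtain ⟨g, hg, hgf⟩ := hφ.inv hst
    have himg : img P (extFun φ) = φ.range := img_eq_range φ (fun x => (extFun_apply φ x).symm)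
    rw [himg] at hg
    obtain ⟨ψ, hψ, hψg⟩ := hg.mor
    refine ⟨ψ, ⟨d⁻¹, hg.congr (fun x hx => ?_)⟩, fun x => ?_⟩
    · rw [extFun_mem ψ hx]; exact (hψg ⟨x, hx⟩).symm
    · rw [hψg]
      have := hgf x x.2
      rwa [extFun_apply] at this

theorem mor_genSys [Finite S] {F : FusionSystem S} {p : ℕ} {π : Ω → Γ} {T : Subgroup Ω}
    (hst : Setup F p π T) {P : Subgroup Ω} {f : Ω → Ω} (h : Mor (genSys F p π T hst) P f) :
    ∃ d, GenD F p π P f d := by
  obtain ⟨φ, ⟨d, hφ⟩, hφf⟩ := h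
  exact ⟨d, hφ.congr (fun x hx => by rw [extFun_mem φ hx]; exact hφf ⟨x, hx⟩)⟩

/-- the elements of the residual of `Aut_F(P)` have grade `1`. -/
theorem genD_of_residual [Finite S] {F : FusionSystem S} {p : ℕ} {π : Ω → Γ} {T : Subgroup Ω}
    (hst : Setup F p π T) {P : Subgroup Ω} (hP : P ≤ S) (b : F.autGroup P)
    (hb : b ∈ pResidual p (F.autGroup P)) :
    GenD F p π P (extFun (fun x : P => (((b : MulAut P) x : P) : Ω))) 1 := by
  unfold pResidual at hb
  induction hb using Subgroup.closure_induction with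
  | mem b hb =>
    have h1 : (b : MulAut P) ^ orderOf b = 1 := by
      have := pow_orderOf_eq_one b
      exact congrArg Subtype.val this
    exact GenD.paut le_rfl (paut_of_aut hP b.2 hb h1)
  | one =>
    exact (GenD.id hP).congr (fun x hx => by rw [extFun_mem _ hx]; rfl)
  | mul a b _ _ iha ihb =>
    have h1 := GenD.comp ihb iha (fun x hx => by
      rw [extFun_mem _ hx]; exact ((b : MulAut P) ⟨x, hx⟩).2)
    rw [mul_one] at h1
    refine h1.congr (fun x hx => ?_)
    rw [extFun_mem _ hx, extFun_mem _ hx, extFun_mem _ ((b : MulAut P) ⟨x, hx⟩).2]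
    rfl
  | inv a _ iha =>
    obtain ⟨g, hg, hga⟩ := iha.inv hst
    have himg : img P (extFun (fun x : P => (((a : MulAut P) x : P) : Ω))) = P := by
      apply iha.mor.img_eq_self
      intro x hx
      rw [extFun_mem _ hx]; exact ((a : MulAut P) ⟨x, hx⟩).2
    rw [himg, inv_one] at hg
    refine hg.congr (fun x hx => ?_)
    rw [extFun_mem _ hx]
    have h2 := hga _ ((a : MulAut P)⁻¹ ⟨x, hx⟩).2
    rw [extFun_apply] at h2
    have h3 : (a : MulAut P) ((a : MulAut P)⁻¹ ⟨x, hx⟩) = ⟨x, hx⟩ := by simp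
    rw [h3] at h2
    exact h2

theorem le_genSys [Finite S] {F : FusionSystem S} {p : ℕ} [Fact p.Prime] {π : Ω → Γ}
    {T : Subgroup Ω} (hS : IsPGroup p S) (hF : F.IsSaturated p) (hst : Setup F p π T) :
    F ≤ genSys F p π T hst := by
  apply Helper84.alperin_ih p hS F hF
  intro P hfn _ α hα
  have hPS : P ≤ S := hfn.1
  have hfa := Helper84.fullyAutomized_of_fullyNormalized p hS F hF hfn
  obtain ⟨c, hc, β, hβ, rfl⟩ := Helper87.exists_aut_mul_pResidual F hfa hα
  obtain ⟨g, hg, hcg⟩ := (mem_autInducedBy_iff S P c).1 hc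
  obtain ⟨b, hb, rfl⟩ := hβ
  apply Subgroup.subset_closure
  show P.subtype.comp (c * (F.autGroup P).subtype b).toMonoidHom ∈ (genSys F p π T hst).Hom P
  have h1 := GenD.comp (genD_of_residual hst hPS b hb) (GenD.conj (F := F) (p := p) (π := π) hPS hg)
    (fun x hx => by rw [extFun_mem _ hx]; exact ((b : MulAut P) ⟨x, hx⟩).2)
  refine ⟨_, h1.congr (fun x hx => ?_)⟩
  rw [extFun_mem _ hx, extFun_mem _ hx]
  show g * (((b : MulAut P) ⟨x, hx⟩ : P) : Ω) * g⁻¹ = ((c ((b : MulAut P) ⟨x, hx⟩) : P) : Ω)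
  rw [hcg]

/-- **Frattini form**: every map of a saturated system has a grade. -/
theorem exists_genD [Finite S] {F : FusionSystem S} {p : ℕ} [Fact p.Prime] {π : Ω → Γ}
    {T : Subgroup Ω} (hS : IsPGroup p S) (hF : F.IsSaturated p) (hst : Setup F p π T)
    {P : Subgroup Ω} {f : Ω → Ω} (h : Mor F P f) : ∃ d, GenD F p π P f d := by
  obtain ⟨φ, hφ, hφf⟩ := h
  exact mor_genSys hst ⟨φ, le_genSys hS hF hst P hφ, hφf⟩

/-- uniqueness of the grade from the statement for the identity. -/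
theorem grade_unique_of_id [Finite S] {F : FusionSystem S} {p : ℕ} {π : Ω → Γ} {T : Subgroup Ω}
    (hst : Setup F p π T) {P : Subgroup Ω} (hid : ∀ d, GenD F p π P (fun x => x) d → d = 1)
    {f : Ω → Ω} {d e : Γ} (h₁ : GenD F p π P f d) (h₂ : GenD F p π P f e) : d = e := by
  obtain ⟨g, hg, hgf⟩ := h₂.inv hst
  have h3 := GenD.comp h₁ hg (fun x hx => h₁.mor.apply_mem_img hx)
  have h4 := hid _ (h3.congr (fun x hx => hgf x hx))
  exact (inv_mul_eq_one.mp h4).symm

/-! ### Tame subgroups -/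

theorem Tame.conj {F : FusionSystem S} {T P : Subgroup Ω} (h : Tame F T P) {f : Ω → Ω}
    (hf : Mor F P f) : Tame F T (img P f) := by
  refine ⟨hf.img_le, fun g hg => ?_⟩
  have h1 := h.2 (fun x => g (f x)) (hf.comp hg (fun x hx => hf.apply_mem_img hx))
  rwa [img_comp hf hg (fun x hx => hf.apply_mem_img hx)] at h1

theorem Tame.mono {F : FusionSystem S} {T P Q : Subgroup Ω} (h : Tame F T P) (hPQ : P ≤ Q)
    (hQ : Q ≤ S) : Tame F T Q := by
  refine ⟨hQ, fun f hf => ?_⟩
  have h1 := h.2 f (hf.res hPQ)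
  refine le_trans ?_ h1
  intro g hg
  rw [mem_centralizerIn] at hg ⊢
  exact ⟨hg.1, fun x hx => hg.2 x (img_mono hf hPQ hx)⟩

end Cfsg.Agent.Lib.Helper88.PGrade
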