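import Mathlib
import Cfsg.Prelude.Def_FusionSystem
import Cfsg.Agent.Lib.Helper88.PGradeB
import Cfsg.Agent.Lib.Helper84.FusionIso
import Cfsg.Agent.Lib.Helper85.FusionSatBasic
import Cfsg.Agent.Lib.Helper85.GroupFusion
import Cfsg.Agent.Lib.Helper86.Saturated

/-!
# The system of maps of grade `1` is saturated (given uniqueness of grades on tame subgroups)
-/

set_option autoImplicit false

namespace Cfsg.Agent.Lib.Helper88.PGrade

open Cfsg Cfsg.FusionSystem Cfsg.Agent.Lib.Helper88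

variable {Ω : Type*} [Group Ω] {S : Subgroup Ω} {Γ : Type*} [Group Γ]

/-- The system over `T` of the maps of grade `1` between subgroups of `T`. -/
def eSys [Finite S] (F : FusionSystem S) (p : ℕ) (π : Ω → Γ) (T : Subgroup Ω)
    (hst : Setup F p π T) : FusionSystem T where
  Hom P := {φ | P ≤ T ∧ GenD F p π P (extFun φ) 1}
  le_of_mem := by
    rintro P φ ⟨hP, h⟩
    refine ⟨hP, fun x => ?_⟩
    have := h.closed hst x x.2 (hP x.2)
    rwa [extFun_apply] at this
  injective_of_mem := by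
    rintro P φ ⟨-, h⟩ x y hxy
    apply Subtype.ext
    apply h.mor.inj x.2 y.2
    rw [extFun_apply, extFun_apply]
    exact hxy
  conj_mem := by
    intro P g hP hg
    refine ⟨hP, ?_⟩
    have h1 := GenD.conj (F := F) (p := p) (π := π) (hP.trans hst.hTS) (hst.hTS hg)
    rw [(hst.ker g (hst.hTS hg)).2 hg] at h1
    exact h1.congr (fun x hx => by rw [extFun_mem _ hx]; rfl)
  comp_mem := by
    rintro P Q φ ψ ⟨hP, hφ⟩ ⟨-, hψ⟩ h
    refine ⟨hP, ?_⟩
    have h1 := GenD.comp hφ hψ (fun x hx => by rw [extFun_mem φ hx]; exact h ⟨x, hx⟩)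
    rw [mul_one] at h1
    refine h1.congr (fun x hx => ?_)
    show extFun ψ (extFun φ x) = extFun (ψ.comp (φ.codRestrict Q h)) x
    rw [extFun_mem φ hx, extFun_mem ψ (h ⟨x, hx⟩), extFun_mem _ hx]
    rfl
  inv_mem := by
    rintro P φ ⟨hP, hφ⟩
    obtain ⟨g, hg, hgf⟩ := hφ.inv hst
    have himg : img P (extFun φ) = φ.range := img_eq_range φ (fun x => (extFun_apply φ x).symm)
    rw [himg, inv_one] at hg
    obtain ⟨ψ, hψ, hψg⟩ := hg.mor
    have hrT : φ.range ≤ T := by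
      rintro _ ⟨x, rfl⟩
      have := hφ.closed hst x x.2 (hP x.2)
      rwa [extFun_apply] at this
    refine ⟨ψ, ⟨hrT, hg.congr (fun x hx => ?_)⟩, fun x => ?_⟩
    · rw [extFun_mem ψ hx]; exact (hψg ⟨x, hx⟩).symm
    · rw [hψg]
      have := hgf x x.2
      rwa [extFun_apply] at this

section

variable [Finite S] {F : FusionSystem S} {p : ℕ} {π : Ω → Γ} {T : Subgroup Ω}

theorem mor_eSys_iff (hst : Setup F p π T) {P : Subgroup Ω} {f : Ω → Ω} :
    Mor (eSys F p π T hst) P f ↔ P ≤ T ∧ GenD F p π P f 1 := by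
  constructor
  · rintro ⟨φ, ⟨hP, hφ⟩, hφf⟩
    exact ⟨hP, hφ.congr (fun x hx => by rw [extFun_mem φ hx]; exact hφf ⟨x, hx⟩)⟩
  · rintro ⟨hP, h⟩
    obtain ⟨φ, hφ, hφf⟩ := h.mor
    exact ⟨φ, ⟨hP, h.congr (fun x hx => by rw [extFun_mem φ hx]; exact (hφf ⟨x, hx⟩).symm)⟩, hφf⟩

theorem eSys_subsystem (hst : Setup F p π T) : (eSys F p π T hst).IsSubsystemOf F :=
  fun _ φ hφ => hom_of_mor hφ.2.mor (fun x => (extFun_apply φ x).symm)

theorem eSys_hasPPowerIndexIn (hst : Setup F p π T) :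
    (eSys F p π T hst).HasPPowerIndexIn F p := by
  refine ⟨eSys_subsystem hst, hst.hyp, ?_⟩
  rintro P hP _ ⟨b, hb, rfl⟩
  rw [mem_autGroup_iff _ hP]
  exact (mor_eSys_iff hst).2 ⟨hP, genD_of_residual hst (hP.trans hst.hTS) b hb⟩

end

/-! ### Conjugation by elements of `S` -/

theorem img_conj_eq_map (R : Subgroup Ω) (s : Ω) :
    img R (fun x => s * x * s⁻¹) = R.map (MulAut.conj s).toMonoidHom := by
  unfold img
  have h : (fun x => s * x * s⁻¹) '' (R : Set Ω) =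
      ((R.map (MulAut.conj s).toMonoidHom : Subgroup Ω) : Set Ω) := by
    ext y
    constructor
    · rintro ⟨x, hx, rfl⟩; exact ⟨x, hx, rfl⟩
    · rintro ⟨x, hx, rfl⟩; exact ⟨x, hx, rfl⟩
  rw [h, Subgroup.closure_eq]

theorem fn_conj [Finite S] {F : FusionSystem S} {Q : Subgroup Ω} (hQ : F.IsFullyNormalized Q)
    {s : Ω} (hs : s ∈ S) : F.IsFullyNormalized (img Q (fun x => s * x * s⁻¹)) := by
  have hm : Mor F Q (fun x => s * x * s⁻¹) := mor_conj F hQ.1 hs
  refine ⟨hm.img_le, fun R hR => ?_⟩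
  obtain ⟨h, hh, himg⟩ := (isConj_iff F).mp hR
  have h1 : F.IsConj Q R := (isConj_iff F).mpr
    ⟨fun x => h (s * x * s⁻¹), hm.comp hh (fun x hx => hm.apply_mem_img hx), by
      rw [img_comp hm hh (fun x hx => hm.apply_mem_img hx)]; exact himg⟩
  have h2 := hQ.2 R h1
  have h3 : Nat.card (normalizerIn S (img Q (fun x => s * x * s⁻¹))) =
      Nat.card (normalizerIn S Q) := by
    rw [img_conj_eq_map, Helper85.normalizerIn_conj_map hs Q]
    exact Subgroup.card_map_of_injective (MulAut.conj s).injective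
  rw [h3]; exact h2

section

variable [Finite S] {F : FusionSystem S} {p : ℕ} [Fact p.Prime] {π : Ω → Γ} {T : Subgroup Ω}

/-- A receptive subgroup with centralizer inside `T` is tame. -/
theorem tame_of_receptive (hS : IsPGroup p S) (hF : F.IsSaturated p) (hst : Setup F p π T)
    {Q : Subgroup Ω} (hrec : F.IsReceptive Q) (hc : centralizerIn S Q ≤ T) : Tame F T Q := by
  refine ⟨hrec.1, fun f hf => ?_⟩
  obtain ⟨k, hk, hkimg, -, -⟩ := hf.exists_inv_img rfl
  obtain ⟨φ, hφ, hφk⟩ := hk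
  have hr : φ.range = Q := by rw [← img_eq_range φ hφk]; exact hkimg
  obtain ⟨ψ, hψ, hψφ⟩ := hrec.2 _ φ hφ hr
  intro c hc'
  have hcN : c ∈ extender S (img Q f) φ := Helper85.centralizerIn_le_extender S _ φ hc'
  have h1 : ψ ⟨c, hcN⟩ ∈ centralizerIn S Q := by
    rw [mem_centralizerIn]
    refine ⟨(F.le_of_mem hψ).2 _, fun q hq => ?_⟩
    rw [← hr] at hq
    obtain ⟨x, rfl⟩ := hq
    have hxN : (x : Ω) ∈ extender S (img Q f) φ := Helper85.le_extender F hφ x.2
    have e1 : φ x = ψ ⟨x, hxN⟩ := (hψφ x x.2 hxN).symm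
    rw [e1, ← map_mul, ← map_mul]
    congr 1
    apply Subtype.ext
    show (x : Ω) * c = c * x
    exact (mem_centralizerIn.mp hc').2 x x.2
  have h2 := hc h1
  obtain ⟨d, hd⟩ := exists_genD hS hF hst (mor_of_hom F hψ)
  obtain ⟨g, hg, hgψ⟩ := hd.inv hst
  have h3 := hg.closed hst (extFun ψ c) (hd.mor.apply_mem_img hcN)
    (by rw [extFun_mem ψ hcN]; exact h2)
  rw [hgψ c hcN] at h3
  exact h3

/-- every subgroup of `T` has a conjugate by a map of grade `1` that is fully normalized in `F`. -/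
theorem exists_fn_conj (hS : IsPGroup p S) (hF : F.IsSaturated p) (hst : Setup F p π T)
    {P : Subgroup Ω} (hPT : P ≤ T) :
    ∃ f, GenD F p π P f 1 ∧ F.IsFullyNormalized (img P f) := by
  have hPS := hPT.trans hst.hTS
  obtain ⟨Q₀, hconj, hfn⟩ := Helper84.exists_fullyNormalized_conj F hPS
  obtain ⟨χ, hχ, rfl⟩ := (isConj_iff F).mp hconj
  obtain ⟨c, hc⟩ := exists_genD hS hF hst hχ
  obtain ⟨s, hs, rfl⟩ := hc.grade_mem hst
  have h1 := GenD.comp hc (GenD.conj (F := F) (p := p) (π := π) hχ.img_le (S.inv_mem hs))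
    (fun x hx => hχ.apply_mem_img hx)
  rw [hst.map_inv hs, inv_mul_cancel] at h1
  refine ⟨_, h1, ?_⟩
  rw [img_comp hχ (mor_conj F hχ.img_le (S.inv_mem hs)) (fun x hx => hχ.apply_mem_img hx)]
  exact fn_conj hfn (S.inv_mem hs)

variable (hS : IsPGroup p S) (hF : F.IsSaturated p) (hst : Setup F p π T)
  (hU : ∀ P : Subgroup Ω, Tame F T P → ∀ d, GenD F p π P (fun x => x) d → d = 1)
  (hidx : ∀ C : Subgroup Ω, C ≤ S → ¬ C ≤ T → ∀ s ∈ S, ∃ c ∈ C, ∃ t ∈ T, s = c * t)

include hS hF hst hU hidx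

/-- a conjugation by an element of `S` of grade `1` on a fully normalized subgroup is induced
by an element of `T`. -/
theorem conj_grade_one {Q : Subgroup Ω} (hfn : F.IsFullyNormalized Q) {s : Ω} (hs : s ∈ S)
    (hsQ : ∀ x ∈ Q, s * x * s⁻¹ ∈ Q) (h : GenD F p π Q (fun x => s * x * s⁻¹) 1) :
    ∃ t ∈ T, ∀ x ∈ Q, t * x * t⁻¹ = s * x * s⁻¹ := by
  obtain ⟨-, hrec⟩ := Helper86.fullyNormalized_imp hS F hF hfn
  by_cases hc : centralizerIn S Q ≤ T
  · have ht : Tame F T Q := tame_of_receptive hS hF hst hrec hc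
    have h1 : π s = 1 := grade_unique_of_id hst (hU Q ht) (GenD.conj hfn.1 hs) h
    exact ⟨s, (hst.ker s hs).1 h1, fun _ _ => rfl⟩
  · obtain ⟨c, hcC, t, ht, rfl⟩ := hidx (centralizerIn S Q)
      (fun g hg => (mem_centralizerIn.mp hg).1) hc s hs
    refine ⟨t, ht, fun x hx => ?_⟩
    have h2 := (mem_centralizerIn.mp hcC).2 _ (hsQ x hx)
    have e : t * x * t⁻¹ = c⁻¹ * ((c * t) * x * (c * t)⁻¹ * c) := by group
    rw [e, h2]
    group

omit hU hidx in
/-- `Aut_E(Q)` is normalized by `Aut_F(Q)`. -/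
theorem aut_normal {Q : Subgroup Ω} (hQT : Q ≤ T) {δ b : MulAut Q} (hδ : δ ∈ F.autGroup Q)
    (hb : b ∈ (eSys F p π T hst).autGroup Q) : δ⁻¹ * b * δ ∈ (eSys F p π T hst).autGroup Q := by
  have hQS := hQT.trans hst.hTS
  rw [mem_autGroup_iff _ hQT] at hb ⊢
  rw [mor_eSys_iff hst] at hb ⊢
  refine ⟨hQT, ?_⟩
  have hδm := (mem_autGroup_iff F hQS δ).mp hδ
  obtain ⟨c, hc⟩ := exists_genD hS hF hst hδm
  obtain ⟨g, hg, hgδ⟩ := hc.inv hst
  have himg : img Q (extFun (fun x : Q => ((δ x : Q) : Ω))) = Q := by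
    apply hδm.img_eq_self
    intro x hx
    rw [extFun_mem _ hx]; exact (δ ⟨x, hx⟩).2
  rw [himg] at hg
  have h1 := GenD.comp (GenD.comp hc hb.2 (fun x hx => by
    rw [extFun_mem _ hx]; exact (δ ⟨x, hx⟩).2)) hg (fun x hx => by
    show extFun (fun x : Q => ((b x : Q) : Ω)) (extFun (fun x : Q => ((δ x : Q) : Ω)) x) ∈ Q
    rw [extFun_mem _ hx, extFun_mem _ (δ ⟨x, hx⟩).2]; exact (b (δ ⟨x, hx⟩)).2)
  rw [one_mul, inv_mul_cancel] at h1
  refine h1.congr (fun x hx => ?_)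
  show g (extFun (fun x : Q => ((b x : Q) : Ω)) (extFun (fun x : Q => ((δ x : Q) : Ω)) x)) = _
  rw [extFun_mem _ hx, extFun_mem _ (δ ⟨x, hx⟩).2, extFun_mem _ hx]
  have h2 := hgδ _ (δ⁻¹ (b (δ ⟨x, hx⟩))).2
  rw [extFun_apply] at h2
  have h3 : δ (δ⁻¹ (b (δ ⟨x, hx⟩))) = b (δ ⟨x, hx⟩) := by simp
  rw [h3] at h2
  rw [h2]
  rfl

theorem eSys_fa {Q : Subgroup Ω} (hQT : Q ≤ T) (hfn : F.IsFullyNormalized Q) :
    (eSys F p π T hst).IsFullyAutomized p Q := by
  classical
  have hQS : Q ≤ S := hfn.1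
  have hfinQ : Finite Q := Finite.of_injective _ (Subgroup.inclusion_injective hQS)
  obtain ⟨hfa, -⟩ := Helper86.fullyNormalized_imp hS F hF hfn
  obtain ⟨R, hR⟩ := fa_exists_sylow hfa
  have hle : (eSys F p π T hst).autGroup Q ≤ F.autGroup Q := by
    unfold FusionSystem.autGroup
    exact Subgroup.closure_mono (fun α hα => eSys_subsystem hst Q hα)
  have hTp : IsPGroup p T := hS.to_le hst.hTS
  have hp : IsPGroup p ((autInducedBy T Q).subgroupOf ((eSys F p π T hst).autGroup Q)) :=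
    (Helper84.autInducedBy_isPGroup hTp Q).comap_subtype
  refine ⟨hQT, ⟨(autInducedBy T Q).subgroupOf ((eSys F p π T hst).autGroup Q), hp, ?_⟩, rfl⟩
  intro B hB hTB
  have hfinA : Finite ((eSys F p π T hst).autGroup Q) := inferInstance
  symm
  apply Subgroup.eq_of_le_of_card_ge hTB
  have hB' : IsPGroup p ((B.map ((eSys F p π T hst).autGroup Q).subtype).subgroupOf
      (F.autGroup Q)) := (hB.map _).comap_subtype
  obtain ⟨δ, hδ⟩ := sylow_conj_le R _ hB'
  -- the conjugation map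
  have key : ∀ b : B, (δ : MulAut Q)⁻¹ * ((b : (eSys F p π T hst).autGroup Q) : MulAut Q) * δ ∈
      (eSys F p π T hst).autGroup Q ∧
      (δ : MulAut Q)⁻¹ * ((b : (eSys F p π T hst).autGroup Q) : MulAut Q) * δ ∈
        autInducedBy T Q := by
    intro b
    have hbE := (b : (eSys F p π T hst).autGroup Q).2
    have hn := aut_normal hS hF hst hQT δ.2 hbE
    refine ⟨hn, ?_⟩
    have hb' : (⟨((b : (eSys F p π T hst).autGroup Q) : MulAut Q), hle hbE⟩ : F.autGroup Q) ∈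
        (B.map ((eSys F p π T hst).autGroup Q).subtype).subgroupOf (F.autGroup Q) :=
      Subgroup.mem_subgroupOf.2 ⟨b, b.2, rfl⟩
    have h1 := hδ _ hb'
    obtain ⟨g, hg, hgx⟩ := (hR _).mp h1
    have hgx' : ∀ x : Q, ((((δ : MulAut Q)⁻¹ *
        ((b : (eSys F p π T hst).autGroup Q) : MulAut Q) * δ) x : Q) : Ω) = g * x * g⁻¹ := hgx
    have hm := (mor_eSys_iff hst).1 ((mem_autGroup_iff _ hQT _).mp hn)
    have hgQ : ∀ x ∈ Q, g * x * g⁻¹ ∈ Q := fun x hx => by
      rw [← hgx' ⟨x, hx⟩]; exact Subtype.property _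
    have hgen : GenD F p π Q (fun x => g * x * g⁻¹) 1 :=
      hm.2.congr (fun x hx => by rw [extFun_mem _ hx]; exact hgx' ⟨x, hx⟩)
    obtain ⟨t, ht, htx⟩ := conj_grade_one hS hF hst hU hidx hfn hg hgQ hgen
    rw [mem_autInducedBy_iff]
    exact ⟨t, ht, fun x => by rw [hgx' x, htx x x.2]⟩
  let fB : B → ((autInducedBy T Q).subgroupOf ((eSys F p π T hst).autGroup Q)) :=
    fun b => ⟨⟨_, (key b).1⟩, Subgroup.mem_subgroupOf.2 (key b).2⟩
  have hinj : Function.Injective fB := by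
    intro b₁ b₂ h12
    have h1 : (δ : MulAut Q)⁻¹ * ((b₁ : (eSys F p π T hst).autGroup Q) : MulAut Q) * δ =
        (δ : MulAut Q)⁻¹ * ((b₂ : (eSys F p π T hst).autGroup Q) : MulAut Q) * δ :=
      congrArg Subtype.val (congrArg Subtype.val h12)
    have h2 : ((b₁ : (eSys F p π T hst).autGroup Q) : MulAut Q) =
        ((b₂ : (eSys F p π T hst).autGroup Q) : MulAut Q) :=
      mul_left_cancel (mul_right_cancel h1)
    exact Subtype.ext (Subtype.ext h2)
  exact Nat.card_le_card_of_injective fB hinj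

theorem eSys_rec {Q : Subgroup Ω} (hQT : Q ≤ T) (hfn : F.IsFullyNormalized Q) :
    (eSys F p π T hst).IsReceptive Q := by
  obtain ⟨-, hrec⟩ := Helper86.fullyNormalized_imp hS F hF hfn
  refine ⟨hQT, fun P φ hφ hr => ?_⟩
  have hφ0 := hφ
  obtain ⟨hPT, hφg⟩ := hφ
  have hφF : φ ∈ F.Hom P := eSys_subsystem hst P hφ0
  obtain ⟨ψ, hψ, hψφ⟩ := hrec.2 P φ hφF hr
  have hNle : extender T P φ ≤ extender S P φ := by
    unfold extender
    apply Subgroup.closure_mono
    rintro g ⟨hgT, hgN, h, hh, hx⟩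
    exact ⟨hst.hTS hgT, hgN, h, hst.hTS hh, hx⟩
  have hNT : extender T P φ ≤ T := Helper85.extender_le T P φ
  have hPN : P ≤ extender T P φ := Helper85.le_extender (eSys F p π T hst) hφ0
  have hf : Mor F (extender T P φ) (extFun ψ) := (mor_of_hom F hψ).res hNle
  obtain ⟨c, hc⟩ := exists_genD hS hF hst hf
  have hfP : ∀ x ∈ P, extFun ψ x = extFun φ x := by
    intro x hx
    rw [extFun_mem ψ (hNle (hPN hx)), extFun_mem φ hx]
    exact hψφ x hx _
  have hQimg : img P (extFun φ) = Q := by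
    rw [img_eq_range φ (fun x => (extFun_apply φ x).symm)]; exact hr
  have key : ∃ f', GenD F p π (extender T P φ) f' 1 ∧ ∀ x ∈ P, f' x = extFun φ x := by
    by_cases hcT : centralizerIn S Q ≤ T
    · have htQ : Tame F T Q := tame_of_receptive hS hF hst hrec hcT
      obtain ⟨k, hk, hkimg, -, -⟩ := hφg.mor.exists_inv_img hQimg
      have htP : Tame F T P := by have := htQ.conj hk; rwa [hkimg] at this
      have hc1 : c = 1 := grade_unique_of_id hst (hU P htP) ((hc.res hPN).congr hfP) hφg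
      rw [hc1] at hc
      exact ⟨extFun ψ, hc, hfP⟩
    · obtain ⟨s₀, hs₀, hs₀c⟩ := hc.grade_mem hst
      obtain ⟨z, hz, t, ht, hzt⟩ := hidx (centralizerIn S Q)
        (fun g hg => (mem_centralizerIn.mp hg).1) hcT s₀⁻¹ (S.inv_mem hs₀)
      have hzS : z ∈ S := (mem_centralizerIn.mp hz).1
      have hπz : π z = c⁻¹ := by
        have h1 := hst.mul z hzS t (hst.hTS ht)
        rw [← hzt, hst.map_inv hs₀, hs₀c, (hst.ker t (hst.hTS ht)).2 ht, mul_one] at h1
        exact h1.symm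
      have h1 := GenD.comp hc (GenD.conj (F := F) (p := p) (π := π) hc.mor.img_le hzS)
        (fun x hx => hc.mor.apply_mem_img hx)
      rw [hπz, inv_mul_cancel] at h1
      refine ⟨_, h1, fun x hx => ?_⟩
      show z * extFun ψ x * z⁻¹ = extFun φ x
      rw [hfP x hx]
      have hq : extFun φ x ∈ Q := by rw [← hQimg]; exact hφg.mor.apply_mem_img hx
      have h2 := (mem_centralizerIn.mp hz).2 _ hq
      rw [← h2]
      group
  obtain ⟨f', hf', hf'P⟩ := key
  obtain ⟨ψ', hψ', hψ'f⟩ := hf'.mor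
  refine ⟨ψ', ⟨hNT, hf'.congr (fun x hx => by
    rw [extFun_mem ψ' hx]; exact (hψ'f ⟨x, hx⟩).symm)⟩, fun x hP hN' => ?_⟩
  rw [hψ'f]
  exact (hf'P x hP).trans (extFun_mem φ hP)

/-- **Saturation of the system of maps of grade `1`.** -/
theorem eSys_saturated : (eSys F p π T hst).IsSaturated p := by
  intro P hPT
  obtain ⟨f, hf, hfn⟩ := exists_fn_conj hS hF hst hPT
  have hQT : img P f ≤ T := by
    intro y hy
    obtain ⟨x, hx, rfl⟩ := hf.mor.mem_img.mp hy
    exact hf.closed hst x hx (hPT hx)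
  exact ⟨img P f, (isConj_iff _).mpr ⟨f, (mor_eSys_iff hst).2 ⟨hPT, hf⟩, rfl⟩,
    eSys_fa hS hF hst hU hidx hQT hfn, eSys_rec hS hF hst hU hidx hQT hfn⟩

/-- existence of a saturated subsystem of `p`-power index over `T`. -/
theorem exists_of_unique :
    ∃ E : FusionSystem T, E.IsSaturated p ∧ E.HasPPowerIndexIn F p :=
  ⟨eSys F p π T hst, eSys_saturated hS hF hst hU hidx, eSys_hasPPowerIndexIn hst⟩

end

end Cfsg.Agent.Lib.Helper88.PGrade
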