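import Mathlib
import Cfsg.Prelude.Def_FusionSystem
import Cfsg.Agent.Lib.Helper84.PCoreBasic

set_option autoImplicit false

namespace Cfsg.Agent.Lib.Helper88

open Cfsg

/-- `O_p(H)` is normal. -/
theorem pCore_normal88 (p : ℕ) (H : Type*) [Group H] : (Cfsg.pCore p H).Normal :=
  Subgroup.sSup_normal _ (fun _ h => h.1)

/-- a `p`-element of order prime to `p` is trivial. -/
theorem eq_one_of_pow_of_coprime88 {H : Type*} [Group H] {p : ℕ} [Fact p.Prime] {r : H} {b m : ℕ}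
    (h1 : r ^ p ^ b = 1) (h2 : r ^ m = 1) (hm : m.Coprime p) : r = 1 := by
  have hd1 : orderOf r ∣ p ^ b := orderOf_dvd_of_pow_eq_one h1
  have hd2 : orderOf r ∣ m := orderOf_dvd_of_pow_eq_one h2
  have hc : (m).Coprime (p ^ b) := Nat.Coprime.pow_right b hm
  have : orderOf r ∣ 1 := by
    have := Nat.dvd_gcd hd2 hd1
    rwa [hc] at this
  exact orderOf_eq_one_iff.1 (Nat.dvd_one.1 this)

/-- The model centralizer condition passes to a normal subgroup: if `C_H(O_p(H)) ≤ O_p(H)` and `K` is normal in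
`H` then `C_K(O_p(K)) ≤ O_p(K)`. -/
theorem centralizer_pCore_le_of_normal88 {H : Type*} [Group H] [Finite H] (p : ℕ) [Fact p.Prime]
    (K : Subgroup H) [K.Normal]
    (hH : Subgroup.centralizer ((Cfsg.pCore p H : Subgroup H) : Set H) ≤ Cfsg.pCore p H) :
    Subgroup.centralizer ((Cfsg.pCore p ↥K : Subgroup ↥K) : Set ↥K) ≤ Cfsg.pCore p ↥K := by
  classical
  have hp : p.Prime := Fact.out
  have hQn : (Cfsg.pCore p H).Normal := pCore_normal88 p H
  have hQp : IsPGroup p (Cfsg.pCore p H) := Cfsg.Agent.Lib.Helper84.pCore_isPGroup p H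
  -- `Q ∩ K` as a subgroup of `K`
  have hQKn : ((Cfsg.pCore p H).subgroupOf K).Normal := hQn.subgroupOf K
  have hQKp : IsPGroup p ((Cfsg.pCore p H).subgroupOf K) := by
    intro ⟨⟨x, hxK⟩, hx⟩
    obtain ⟨k, hk⟩ := hQp ⟨x, Subgroup.mem_subgroupOf.1 hx⟩
    refine ⟨k, ?_⟩
    have hk' : x ^ p ^ k = 1 := by simpa using congrArg Subtype.val hk
    apply Subtype.ext; apply Subtype.ext
    simpa using hk'
  have hQK_le : (Cfsg.pCore p H).subgroupOf K ≤ Cfsg.pCore p ↥K :=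
    Cfsg.Agent.Lib.Helper84.le_pCore hQKn hQKp
  -- the centralizer `C` of `Q ∩ K` in `K`
  have hC_le : Subgroup.centralizer ((Cfsg.pCore p ↥K : Subgroup ↥K) : Set ↥K)
      ≤ Subgroup.centralizer (((Cfsg.pCore p H).subgroupOf K : Subgroup ↥K) : Set ↥K) :=
    Subgroup.centralizer_le hQK_le
  refine hC_le.trans ?_
  have hCn : (Subgroup.centralizer (((Cfsg.pCore p H).subgroupOf K : Subgroup ↥K) : Set ↥K)).Normal :=
    inferInstance
  refine Cfsg.Agent.Lib.Helper84.le_pCore hCn ?_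
  -- `C` is a `p`-group
  intro ⟨c, hc⟩
  have hpos : 0 < orderOf c := orderOf_pos c
  obtain ⟨a, m, hm, hn⟩ := Nat.exists_eq_pow_mul_and_not_dvd hpos.ne' p hp.ne_one
  have hmc : m.Coprime p := (Nat.Coprime.symm ((Nat.Prime.coprime_iff_not_dvd hp).2 hm))
  refine ⟨a, ?_⟩
  -- `d = c ^ p ^ a` has order dividing `m`
  have hd_mem : c ^ p ^ a ∈ Subgroup.centralizer (((Cfsg.pCore p H).subgroupOf K : Subgroup ↥K) : Set ↥K) :=
    Subgroup.pow_mem _ hc _
  have hdm : (c ^ p ^ a) ^ m = 1 := by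
    rw [← pow_mul, ← hn]; exact pow_orderOf_eq_one c
  -- `d` centralizes `Q`
  have hcent : ((c ^ p ^ a : ↥K) : H) ∈ Subgroup.centralizer ((Cfsg.pCore p H : Subgroup H) : Set H) := by
    intro x hx
    -- r = d x d⁻¹ x⁻¹ ∈ Q ∩ K
    have hrQ : ((c ^ p ^ a : ↥K) : H) * x * ((c ^ p ^ a : ↥K) : H)⁻¹ * x⁻¹ ∈ Cfsg.pCore p H :=
      Subgroup.mul_mem _ (hQn.conj_mem x hx _) (Subgroup.inv_mem _ hx)
    have hrK : ((c ^ p ^ a : ↥K) : H) * x * ((c ^ p ^ a : ↥K) : H)⁻¹ * x⁻¹ ∈ K := by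
      have h1 : x * ((c ^ p ^ a : ↥K) : H)⁻¹ * x⁻¹ ∈ K :=
        (inferInstance : K.Normal).conj_mem _ (Subgroup.inv_mem _ (c ^ p ^ a : ↥K).2) x
      have h2 := Subgroup.mul_mem _ (c ^ p ^ a : ↥K).2 h1
      have e : ((c ^ p ^ a : ↥K) : H) * (x * ((c ^ p ^ a : ↥K) : H)⁻¹ * x⁻¹)
          = ((c ^ p ^ a : ↥K) : H) * x * ((c ^ p ^ a : ↥K) : H)⁻¹ * x⁻¹ := by group
      rwa [e] at h2
    -- `d` commutes with `r`
    have hcomm : ((c ^ p ^ a : ↥K) : H) * (((c ^ p ^ a : ↥K) : H) * x * ((c ^ p ^ a : ↥K) : H)⁻¹ * x⁻¹)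
        = (((c ^ p ^ a : ↥K) : H) * x * ((c ^ p ^ a : ↥K) : H)⁻¹ * x⁻¹) * ((c ^ p ^ a : ↥K) : H) := by
      have h3 := hd_mem ⟨_, hrK⟩ (Subgroup.mem_subgroupOf.2 hrQ)
      have h4 := congrArg Subtype.val h3
      simpa using h4.symm
    have hdm' : ((c ^ p ^ a : ↥K) : H) ^ m = 1 := by
      have := congrArg Subtype.val hdm
      simpa using this
    generalize ((c ^ p ^ a : ↥K) : H) = d at hrQ hrK hcomm hdm' ⊢
    have hcr : Commute d (d * x * d⁻¹ * x⁻¹) := hcomm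
    have key : ∀ j : ℕ, d ^ j * x * (d ^ j)⁻¹ = (d * x * d⁻¹ * x⁻¹) ^ j * x := by
      intro j
      induction j with
      | zero => simp
      | succ j ih =>
        have h1 : d ^ (j + 1) * x * (d ^ (j + 1))⁻¹ = d * (d ^ j * x * (d ^ j)⁻¹) * d⁻¹ := by
          rw [pow_succ']; group
        rw [h1, ih]
        have h2 : d * ((d * x * d⁻¹ * x⁻¹) ^ j * x) * d⁻¹
            = (d * (d * x * d⁻¹ * x⁻¹) ^ j * d⁻¹) * ((d * x * d⁻¹ * x⁻¹) * x) := by group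
        rw [h2]
        have h3 : d * (d * x * d⁻¹ * x⁻¹) ^ j * d⁻¹ = (d * x * d⁻¹ * x⁻¹) ^ j := by
          rw [(hcr.pow_right j).eq]; group
        rw [h3, pow_succ]
        simp only [mul_assoc]
    have hrm : (d * x * d⁻¹ * x⁻¹) ^ m = 1 := by
      have h4 := key m
      rw [hdm'] at h4
      have h5 : x = (d * x * d⁻¹ * x⁻¹) ^ m * x := by simpa using h4
      exact (mul_eq_right.1 h5.symm)
    obtain ⟨b, hb⟩ := hQp ⟨_, hrQ⟩
    have hb' : (d * x * d⁻¹ * x⁻¹) ^ p ^ b = 1 := by simpa using congrArg Subtype.val hb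
    have hr1 := eq_one_of_pow_of_coprime88 hb' hrm hmc
    have h6 : d * x = (d * x * d⁻¹ * x⁻¹) * (x * d) := by group
    rw [h6, hr1, one_mul]
  have hdQ := hH hcent
  obtain ⟨b, hb⟩ := hQp ⟨_, hdQ⟩
  have hb' : ((c ^ p ^ a : ↥K) : H) ^ p ^ b = 1 := by simpa using congrArg Subtype.val hb
  have hdm' : ((c ^ p ^ a : ↥K) : H) ^ m = 1 := by
    have := congrArg Subtype.val hdm
    simpa using this
  have h1 : ((c ^ p ^ a : ↥K) : H) = 1 := eq_one_of_pow_of_coprime88 hb' hdm' hmc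
  apply Subtype.ext
  apply Subtype.ext
  simpa using h1

end Cfsg.Agent.Lib.Helper88
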